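import Cfsg.Agent.Lib.Spor.TranCent.WeakCheck

/-!
The centre of the centraliser of a transvection has order two.
-/

set_option autoImplicit false
set_option maxRecDepth 100000

namespace Cfsg.Agent.Spor.TranCent

/-- whether a code commutes with all letters -/
def centralCode (a : ℕ) : Bool := (List.range 5).all fun j => cm a (letters.getD j onec)

theorem centre_ok : (els.all fun a => !(centralCode a) || eqv a onec || eqv a tc) = true := by
  decide +kernel

end Cfsg.Agent.Spor.TranCent
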