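import Cfsg.Agent.Lib.Spor.TranCent.Weak
import Cfsg.Agent.Lib.Spor.TranCent.AssembleCheck
import Cfsg.Agent.Lib.Spor.WedgeFive
import Cfsg.Agent.Lib.Spor.GolayChain
import Cfsg.Agent.Lib.Spor.HeMain

/-!
From an isomorphism of centralisers to codes; the stabiliser of a vector is not simple; the orders of the models.
-/

set_option autoImplicit false
set_option maxRecDepth 100000

namespace Cfsg.Agent.Spor.TranCent

open Matrix

local notation "F₂" => ZMod 2
local notation "SL5" => Matrix.SpecialLinearGroup (Fin 5) (ZMod 2)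

variable {G : Type*} [Group G]

theorem letters_noncomm : cm (letters.getD 0 onec) (letters.getD 1 onec) = false := by decide +kernel

/-- an isomorphism of centralisers gives codes -/
theorem exists_frame [Finite G] (s : SL5) (hs : (s : Matrix (Fin 5) (Fin 5) F₂) = Matrix.transvection 0 1 1)
    {z : G} (hz : orderOf z = 2)
    (e : Subgroup.centralizer ({z} : Set G) ≃* Subgroup.centralizer ({s} : Set SL5)) : Nonempty (Fr G z) := by
  obtain rfl : s = sSL := Subtype.ext hs
  refine exists_fr e fun h => ?_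
  set x := e ⟨z, h⟩ with hx
  have hc : ∀ y, x * y = y * x := fun y => by
    obtain ⟨y', rfl⟩ := e.surjective y
    rw [hx, ← map_mul, ← map_mul]
    exact congrArg e (Subtype.ext (Subgroup.mem_centralizer_singleton_iff.1 y'.2).symm)
  have hcode : code ((x : SL5) : Matrix (Fin 5) (Fin 5) F₂) ∈ els := code_mem x.2
  have hall : centralCode (code ((x : SL5) : Matrix (Fin 5) (Fin 5) F₂)) = true := by
    refine List.all_eq_true.2 fun j hj => ?_
    have hl := letters_mem (List.mem_range.1 hj)
    have h1 := congrArg (fun y => code ((y : SL5) : Matrix (Fin 5) (Fin 5) F₂))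
      (congrArg Subtype.val (hc ⟨slOf _, slOf_mem hl⟩))
    simp only [Subgroup.coe_mul, Matrix.SpecialLinearGroup.coe_mul, code_mul, (slOf_spec hl).1,
      (slOf_spec hl).2] at h1
    simp only [cm, eqv]
    rw [h1]
    exact Nat.beq_refl _
  have h2 := List.all_eq_true.1 centre_ok _ hcode
  simp only [hall, Bool.not_true, Bool.false_or, Bool.or_eq_true, eqv, Nat.beq_eq] at h2
  rcases h2 with h2 | h2
  · exfalso
    have h3 : (x : SL5) = 1 := Subtype.ext (code_inj (h2.trans (by rw [Matrix.SpecialLinearGroup.coe_one, code_one])))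
    have h4 : x = 1 := Subtype.ext h3
    have h5 : z = 1 := congrArg Subtype.val (e.injective (h4.trans (map_one e).symm))
    rw [h5, orderOf_one] at hz
    norm_num at hz
  · exact Subtype.ext (code_inj (h2.trans code_sM.symm))

theorem exists_perp : ∀ v : Fin 5 → F₂, ∃ φ : Fin 5 → F₂, φ ≠ 0 ∧ φ ⬝ᵥ v = 0 := by decide +kernel

/-- a simple group with this centraliser is not the stabiliser of a vector -/
theorem not_stab [IsSimpleGroup G] {z : G} (F : Fr G z) {v : Fin 5 → F₂} (hv : v ≠ 0) :
    ¬ Nonempty (G ≃* MulAction.stabilizer SL5 v) := by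
  rintro ⟨f⟩
  haveI : IsSimpleGroup (MulAction.stabilizer SL5 v) := f.symm.isSimpleGroup
  have hvv : v + v = 0 := funext fun i => CharTwo.add_self_eq_zero _
  let N : Subgroup (MulAction.stabilizer SL5 v) :=
    { carrier := {g | ∀ w, (g : SL5) • w = w ∨ (g : SL5) • w = w + v}
      one_mem' := fun w => Or.inl (one_smul _ w)
      mul_mem' := fun {a b} ha hb w => by
        rw [Subgroup.coe_mul, mul_smul]
        rcases hb w with h | h <;> rw [h]
        · exact ha w
        · rcases ha (w + v) with h' | h'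
          · exact Or.inr h'
          · exact Or.inl (by rw [h', add_assoc, hvv, add_zero])
      inv_mem' := fun {a} ha w => by
        rw [InvMemClass.coe_inv]
        rcases ha ((a : SL5)⁻¹ • w) with h | h <;> rw [smul_inv_smul] at h
        · exact Or.inl h.symm
        · exact Or.inr (by nth_rewrite 2 [h]; rw [add_assoc, hvv, add_zero]) }
  haveI : N.Normal := ⟨fun a ha c w => by
    have hc : (c : SL5) • v = v := c.2
    rw [Subgroup.coe_mul, Subgroup.coe_mul, InvMemClass.coe_inv, mul_smul, mul_smul]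
    rcases ha ((c : SL5)⁻¹ • w) with h | h <;> rw [h]
    · exact Or.inl (smul_inv_smul _ w)
    · exact Or.inr (by rw [smul_add, smul_inv_smul, hc])⟩
  rcases IsSimpleGroup.eq_bot_or_eq_top_of_normal N inferInstance with hN | hN
  · obtain ⟨φ, hφ, hφv⟩ := exists_perp v
    set M : Matrix (Fin 5) (Fin 5) F₂ :=
      1 + Matrix.replicateCol Unit v * Matrix.replicateRow Unit φ with hM
    have hdet : M.det = 1 := by rw [hM, Matrix.det_one_add_replicateCol_mul_replicateRow, hφv, add_zero]
    have hmul : ∀ w, M *ᵥ w = w + (φ ⬝ᵥ w) • v := fun w => by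
      rw [hM, Matrix.add_mulVec, Matrix.one_mulVec, ← Matrix.vecMulVec_eq, Matrix.vecMulVec_mulVec]
      ext i
      simp [mul_comm]
    let g0 : SL5 := ⟨M, hdet⟩
    have hsm : ∀ w : Fin 5 → F₂, g0 • w = M *ᵥ w := fun w => rfl
    have hmem : g0 ∈ MulAction.stabilizer SL5 v := by
      rw [MulAction.mem_stabilizer_iff, hsm, hmul, hφv, zero_smul, add_zero]
    have h1 : (⟨g0, hmem⟩ : MulAction.stabilizer SL5 v) ∈ N := fun w => by
      show g0 • w = w ∨ g0 • w = w + v
      rw [hsm, hmul]
      have hb : ∀ x : F₂, x = 0 ∨ x = 1 := by decide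
      rcases hb (φ ⬝ᵥ w) with h | h <;> rw [h]
      · exact Or.inl (by rw [zero_smul, add_zero])
      · exact Or.inr (by rw [one_smul])
    rw [hN, Subgroup.mem_bot] at h1
    have h2 : M = 1 := congrArg (fun g : MulAction.stabilizer SL5 v => ((g : SL5) : Matrix (Fin 5) (Fin 5) F₂)) h1
    obtain ⟨k, hk⟩ := Function.ne_iff.1 hφ
    obtain ⟨i, hi⟩ := Function.ne_iff.1 hv
    have h3 := hmul (Pi.single k 1)
    rw [h2, Matrix.one_mulVec] at h3
    have h4 := congrFun h3 i
    simp only [Pi.add_apply, Pi.smul_apply, dotProduct_single, mul_one, smul_eq_mul, left_eq_add,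
      mul_eq_zero] at h4
    rcases h4 with h4 | h4
    exacts [hk h4, hi h4]
  · have hsq : ∀ g : MulAction.stabilizer SL5 v, g * g = 1 := fun g => by
      have hg : g ∈ N := hN ▸ Subgroup.mem_top g
      refine Subtype.ext (Subtype.ext (Matrix.ext_of_mulVec_single fun k => ?_))
      show ((g * g : MulAction.stabilizer SL5 v) : SL5) • (Pi.single k 1 : Fin 5 → F₂) = (1 : SL5) • Pi.single k 1
      have hgv : (g : SL5) • v = v := g.2
      rw [Subgroup.coe_mul, mul_smul, one_smul]
      rcases hg (Pi.single k 1) with h | h <;> rw [h]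
      · exact h
      · rw [smul_add, h, hgv, add_assoc, hvv, add_zero]
    have hcomm : ∀ a b : G, a * b = b * a := fun a b => f.injective (by
      rw [map_mul, map_mul]
      have inv : ∀ g, g⁻¹ = g := fun g : MulAction.stabilizer SL5 v => inv_eq_of_mul_eq_one_left (hsq g)
      rw [← inv (f a * f b), _root_.mul_inv_rev, inv, inv])
    have := (cm_iff F (letters_mem (j := 0) (by norm_num)) (letters_mem (j := 1) (by norm_num))).2 (hcomm _ _)
    rw [letters_noncomm] at this
    exact Bool.false_ne_true this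

theorem card_SL5_eq : Nat.card SL5 = 9999360 := Wedge5.card_SL5

theorem card_He : Nat.card Cfsg.Spor.He = 4030387200 := HeCert.isHe.2

/-- the possible simple groups, by order -/
theorem of_models [Finite G] [IsSimpleGroup G] {z : G} (F : Fr G z)
    (h : (∃ v : Fin 5 → F₂, v ≠ 0 ∧ Nonempty (G ≃* MulAction.stabilizer SL5 v)) ∨ Nonempty (G ≃* SL5) ∨
      Nonempty (G ≃* Cfsg.M24) ∨ Cfsg.Spor.IsoHe G) :
    (Nonempty (G ≃* SL5) ∧ Nat.card G = 9999360) ∨ (Nonempty (G ≃* Cfsg.M24) ∧ Nat.card G = 244823040) ∨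
      (Cfsg.Spor.IsoHe G ∧ Nat.card G = 4030387200) := by
  rcases h with ⟨v, hv, h⟩ | ⟨⟨f⟩⟩ | ⟨⟨f⟩⟩ | ⟨⟨f⟩⟩
  · exact absurd h (not_stab F hv)
  · exact Or.inl ⟨⟨f⟩, (Nat.card_congr f.toEquiv).trans card_SL5_eq⟩
  · exact Or.inr (Or.inl ⟨⟨f⟩, (Nat.card_congr f.toEquiv).trans Cfsg.Agent.Spor.card_M24⟩)
  · exact Or.inr (Or.inr ⟨⟨f⟩, (Nat.card_congr f.toEquiv).trans card_He⟩)

end Cfsg.Agent.Spor.TranCent
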