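import Cfsg.Agent.Lib.Spor.TranCent.RelCheck

/-!
Finite checks for the centralisers of the involutions of the affine subgroup.
-/

set_option autoImplicit false
set_option maxRecDepth 100000

namespace Cfsg.Agent.Spor.TranCent

/-- the square of the product of two codes -/
def pairSq (r e : ℕ) : ℕ := (fun u => mulc u u) (mulc r e)

/-- words moving the other classes to the second and third, with the two classes -/
def affMoves : List (ℕ × ℕ × List ℕ) :=
  [(4, 2, [4, 0, 3, 5, 3, 4, 0, 2]), (5, 3, [1, 4, 0, 3, 5, 3, 4, 0, 2]), (7, 3, [3, 4, 2, 3, 5, 3, 4, 0, 2])]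

theorem aff_moves : (affMoves.all fun t => isCode (trace [moveOne 1] t.2.2 (rp t.1)) (rp t.2.1) && below 6 t.2.2) =
    true := by decide +kernel

theorem aff_space : (spaceList.all (fun x => ((List.range 5).all fun j => spaceList.any fun y =>
      eqv (mulc (mulc (letters.getD j onec) x) (letters.getD j onec)) y) &&
      spaceList.any fun y => isCode (applyMove (moveOne 1) x) y)) = true := by decide +kernel

theorem aff_two : ([2, 3].all fun i => (spaceList.all fun e => eqv (pairSq (rp i) e) onec || eqv (pairSq (rp i) e) tc) &&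
    (spaceList.any fun e => eqv (pairSq (rp i) e) tc) &&
    hitTab.any fun p => spaceList.contains p.1 && eqv p.2.2 1 && eqv (mulc (rp i) p.1) (mulc p.1 (rp i)) &&
      hitTab.any fun q => eqv q.1 (mulc tc p.1) && eqv q.2.2 1) = true := by decide +kernel

theorem aff_six : ((spaceList.any fun e => eqv (pairSq (rp 6) e) tc) &&
    spaceList.any fun e => !(eqv (pairSq (rp 6) e) onec) && !(eqv (pairSq (rp 6) e) tc)) = true := by decide +kernel

/-- the element moving the third representative -/
def affY : ℕ := 17174609

theorem aff_gen : (eqv (mulc (rp 6) (rp 3)) (mulc (rp 3) (rp 6)) && els.contains affY &&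
    eqv (mulc (rp 6) affY) (mulc affY (rp 6)) &&
    eqv (mulc (rp 3) (mulc affY (rp 3))) (mulc tc affY)) = true := by decide +kernel

theorem aff_hits : (hitTab.all fun p => !(eqv (mulc (rp 6) p.1) (mulc p.1 (rp 6))) || !(eqv p.2.2 6) ||
    (hitTab.any fun q => eqv q.1 (mulc p.1 (rp 6)) && !(eqv q.2.2 6)) ||
    hitTab.any fun q => eqv q.1 (mulc tc p.1) && eqv q.2.2 6) = true := by decide +kernel

end Cfsg.Agent.Spor.TranCent
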