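import Cfsg.Agent.Lib.Spor.TranCent.Fusion
import Cfsg.Agent.S1717

/-!
A subgroup containing the centraliser of the given involution and controlling the fusion of the involutions
commuting with it; such a subgroup is everything once it contains the centralisers of all these involutions.
-/

set_option autoImplicit false
set_option linter.style.haveILetI false
set_option maxRecDepth 100000

namespace Cfsg.Agent.Spor.TranCent

variable {G : Type*} [Group G] {z : G}

/-- a subgroup with the centraliser; `fs` numbers the classes conjugate to `z` inside it, none other is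
conjugate to `z` in the whole group -/
structure Ctrl (F : Fr G z) (fs : List ℕ) where
  /-- the subgroup -/
  H : Subgroup G
  cent_le : ∀ g, Commute g z → g ∈ H
  zero_mem : 0 ∈ fs
  fused : ∀ i, i < 8 → i ∈ fs → ∃ h ∈ H, h * F.rep i * h⁻¹ = z
  not_fused : ∀ i, i < 8 → i ∉ fs → ¬ IsConj (F.rep i) z

/-- the centraliser is that of the transvection -/
theorem Fr.exists_iso (F : Fr G z) : Nonempty (Subgroup.centralizer ({z} : Set G) ≃*
    Subgroup.centralizer ({sSL} : Set (Matrix.SpecialLinearGroup (Fin 5) (ZMod 2)))) := by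
  obtain ⟨M⟩ := exists_fr (G := Matrix.SpecialLinearGroup (Fin 5) (ZMod 2)) (z := sSL) (MulEquiv.refl _) (fun _ => rfl)
  classical
  have key : ∀ g : Subgroup.centralizer ({z} : Set G), ∃ a ∈ els, F.el a = (g : G) := fun g =>
    F.el_surj (Subgroup.mem_centralizer_singleton_iff.1 g.2)
  choose c hc he using key
  refine ⟨MulEquiv.ofBijective
    (MonoidHom.mk' (fun g => ⟨M.el (c g), Subgroup.mem_centralizer_singleton_iff.2 (M.el_comm (hc g)).eq⟩) ?_) ⟨?_, ?_⟩⟩
  · intro g h
    refine Subtype.ext ?_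
    show M.el (c (g * h)) = M.el (c g) * M.el (c h)
    rw [← M.el_mul (hc g) (hc h), F.el_inj (hc (g * h)) (mulc_mem (hc g) (hc h))
      (by rw [F.el_mul (hc g) (hc h), he, he, he, Subgroup.coe_mul])]
  · intro g h e
    have e1 : M.el (c g) = M.el (c h) := congrArg Subtype.val e
    exact Subtype.ext (by rw [← he g, ← he h, M.el_inj (hc g) (hc h) e1])
  · rintro ⟨y, hy⟩
    obtain ⟨a, ha, rfl⟩ := M.el_surj (Subgroup.mem_centralizer_singleton_iff.1 hy)
    refine ⟨⟨F.el a, Subgroup.mem_centralizer_singleton_iff.2 (F.el_comm ha).eq⟩, Subtype.ext ?_⟩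
    show M.el (c _) = M.el a
    rw [F.el_inj (hc _) ha (he _)]

variable {F : Fr G z} {fs : List ℕ}

theorem Ctrl.z_mem (D : Ctrl F fs) : z ∈ D.H := D.cent_le z rfl

/-- an involution of the subgroup is conjugate in it to a representative -/
theorem Ctrl.exists_rep [Finite G] (D : Ctrl F fs) {x : G} (hx : x ∈ D.H) (h2 : x * x = 1) (h1 : x ≠ 1) :
    ∃ i < 8, ∃ h ∈ D.H, h * x * h⁻¹ = F.rep i := by
  haveI : Fact (Nat.Prime 2) := ⟨Nat.prime_two⟩
  obtain ⟨e⟩ := F.exists_iso
  have hz : orderOf z = 2 := orderOf_eq_prime ((pow_two z).trans F.z_sq) F.z_ne_one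
  set T : Sylow 2 (Subgroup.centralizer ({z} : Set G)) := default
  have hT := Cfsg.Agent.S1717.result sSL rfl z hz e T
  set T' := (T : Subgroup (Subgroup.centralizer ({z} : Set G))).map
    (Subgroup.subtype (Subgroup.centralizer ({z} : Set G))) with hT'
  have hTH : T' ≤ D.H := by
    rintro _ ⟨t, -, rfl⟩
    exact D.cent_le _ (Subgroup.mem_centralizer_singleton_iff.1 t.2)
  have hp : IsPGroup 2 T' := T.isPGroup'.map _
  have hTp : IsPGroup 2 (T'.subgroupOf D.H) := hp.comap_subtype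
  have hidx : ¬ 2 ∣ (T'.subgroupOf D.H).index := fun hd => hT (by
    rw [← Subgroup.relIndex_mul_index hTH]
    exact Dvd.dvd.mul_right hd _)
  set P := hTp.toSylow hidx
  have hxp : IsPGroup 2 (Subgroup.zpowers (⟨x, hx⟩ : D.H)) := by
    refine IsPGroup.of_card (n := 1) ?_
    rw [Nat.card_zpowers, pow_one]
    exact orderOf_eq_prime (Subtype.ext ((pow_two x).trans h2)) fun e => h1 (congrArg Subtype.val e)
  obtain ⟨P', hP'⟩ := hxp.exists_le_sylow
  obtain ⟨h, hh⟩ := MulAction.exists_smul_eq D.H P' P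
  have hm : h * ⟨x, hx⟩ * h⁻¹ ∈ (P : Subgroup D.H) := by
    rw [← hh, Sylow.coe_subgroup_smul]
    exact ⟨⟨x, hx⟩, hP' (Subgroup.mem_zpowers _), rfl⟩
  obtain ⟨t, -, ht⟩ : ((h * ⟨x, hx⟩ * h⁻¹ : D.H) : G) ∈ T' := Subgroup.mem_subgroupOf.1 (hm : h * ⟨x, hx⟩ * h⁻¹ ∈ T'.subgroupOf D.H)
  have hc : Commute ((h : G) * x * (h : G)⁻¹) z := by
    have := Subgroup.mem_centralizer_singleton_iff.1 t.2
    have e : (t : G) = (h : G) * x * (h : G)⁻¹ := ht
    exact e ▸ this
  obtain ⟨i, hi, c, hcz, hci⟩ := F.exists_rep hc (by rw [← MulAut.conj_apply, ← map_mul, h2, map_one])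
    (fun e => h1 (by simpa using e))
  exact ⟨i, hi, c * h, mul_mem (D.cent_le c hcz) h.2, by rw [← hci]; group⟩

/-- a conjugate of `z` in the subgroup is a conjugate under it -/
theorem Ctrl.fix_unique [Finite G] (D : Ctrl F fs) {g : G} (hg : g * z * g⁻¹ ∈ D.H) : g ∈ D.H := by
  have h2 : g * z * g⁻¹ * (g * z * g⁻¹) = 1 := by rw [← MulAut.conj_apply, ← map_mul, F.z_sq, map_one]
  have h1 : g * z * g⁻¹ ≠ 1 := fun e => F.z_ne_one (by simpa using e)
  obtain ⟨i, hi, h, hh, e⟩ := D.exists_rep hg h2 h1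
  have hm : i ∈ fs := by
    by_contra hn
    exact D.not_fused i hi hn
      (isConj_iff.2 ⟨h * g, by rw [← e]; group⟩ : IsConj z (F.rep i)).symm
  obtain ⟨k, hk, ek⟩ := D.fused i hi hm
  have hc : Commute (k * h * g) z := by
    have e' : (k * h * g) * z * (k * h * g)⁻¹ = z := by
      conv_rhs => rw [← ek, ← e]
      group
    exact mul_inv_eq_iff_eq_mul.1 e'
  have h3 := mul_mem (mul_mem (inv_mem hh) (inv_mem hk)) (D.cent_le _ hc)
  rwa [show h⁻¹ * k⁻¹ * (k * h * g) = g by group] at h3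

/-- centralisers of fused involutions lie in the subgroup -/
theorem Ctrl.cent_fused [Finite G] (D : Ctrl F fs) {x : G} (hx : x ∈ D.H) (hc : IsConj x z) {g : G}
    (hg : Commute g x) : g ∈ D.H := by
  obtain ⟨a, rfl⟩ := isConj_iff.1 hc.symm
  have ha : a ∈ D.H := D.fix_unique hx
  have hga : Commute (a⁻¹ * g * a) z := by
    have := hg.map (MulAut.conj a⁻¹)
    simp only [MulAut.conj_apply, inv_inv] at this
    rwa [show a⁻¹ * (a * z * a⁻¹) * a = z by group] at this
  have := mul_mem (mul_mem ha (D.cent_le _ hga)) (inv_mem ha)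
  rwa [show a * (a⁻¹ * g * a) * a⁻¹ = g by group] at this

/-- if the centralisers of all representatives lie in the subgroup then it is everything -/
theorem Ctrl.eq_top [Finite G] (D : Ctrl F fs) {b : ℕ} (hb : b < 8) (hbn : b ∉ fs)
    (hall : ∀ i < 8, i ∉ fs → ∀ g, Commute g (F.rep i) → g ∈ D.H) : D.H = ⊤ := by
  have hcent : ∀ c ∈ D.H, c * c = 1 → c ≠ 1 → ∀ g, Commute g c → g ∈ D.H := by
    intro c hc c2 c1 g hg
    obtain ⟨i, hi, h, hh, e⟩ := D.exists_rep hc c2 c1
    by_cases hm : i ∈ fs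
    · obtain ⟨k, -, ek⟩ := D.fused i hi hm
      exact D.cent_fused hc (isConj_iff.2 ⟨k * h, by rw [← ek, ← e]; group⟩) hg
    · have hgh : Commute (h * g * h⁻¹) (F.rep i) := by
        have := hg.map (MulAut.conj h)
        rwa [MulAut.conj_apply, MulAut.conj_apply, e] at this
      have := mul_mem (mul_mem (inv_mem hh) (hall i hi hm _ hgh)) hh
      rwa [show h⁻¹ * (h * g * h⁻¹) * h = g by group] at this
  rw [eq_top_iff]
  intro x _
  set a := F.rep b
  set y := x * z * x⁻¹ with hy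
  have a2 : a * a = 1 := F.rep_sq hb
  have y2 : y * y = 1 := by rw [hy, ← MulAut.conj_apply, ← map_mul, F.z_sq, map_one]
  have ai : a⁻¹ = a := inv_eq_of_mul_eq_one_right a2
  clear_value y
  have yi : y⁻¹ = y := inv_eq_of_mul_eq_one_right y2
  have inv_r : a * (a * y) * a⁻¹ = (a * y)⁻¹ := by rw [mul_inv_rev, ai, yi, ← mul_assoc, a2, one_mul]
  have inv_y : y * (a * y) * y⁻¹ = (a * y)⁻¹ := by
    rw [mul_inv_rev, yi, ai, mul_assoc y, mul_assoc a, y2, mul_one]
  rcases (orderOf (a * y)).even_or_odd with ⟨k, hk⟩ | ⟨k, hk⟩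
  · have hkpos : 0 < k := by have := orderOf_pos (a * y); omega
    set c := (a * y) ^ k
    have c2 : c * c = 1 := by rw [← pow_add, ← hk, pow_orderOf_eq_one]
    have c1 : c ≠ 1 := pow_ne_one_of_lt_orderOf (by omega) (by omega)
    have ci : c⁻¹ = c := inv_eq_of_mul_eq_one_right c2
    have comm : ∀ u : G, u * (a * y) * u⁻¹ = (a * y)⁻¹ → Commute u c := by
      intro u hu
      have : u * c * u⁻¹ = c := by rw [← conj_pow, hu, inv_pow]; exact ci
      exact mul_inv_eq_iff_eq_mul.1 this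
    have hcH : c ∈ D.H := hall b hb hbn c (comm a inv_r).symm
    exact D.fix_unique (hy ▸ hcent c hcH c2 c1 y (comm y inv_y))
  · exfalso
    have hn : (a * y) ^ (2 * k + 1) = 1 := by rw [← hk, pow_orderOf_eq_one]
    set r := (a * y) ^ k with hr
    have hrr : r * r * (a * y) = 1 := by rw [hr, ← pow_add, ← pow_succ, ← two_mul, hn]
    have e1 : a * r * a⁻¹ = r⁻¹ := by rw [hr, ← conj_pow, inv_r, inv_pow]
    have hiso : IsConj (F.rep b) z := by
      refine IsConj.trans (isConj_iff.2 ⟨r, ?_⟩ : IsConj a y) (isConj_iff.2 ⟨x⁻¹, by rw [hy]; group⟩)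
      have h3 : a * r⁻¹ = r * a := by
        rw [← e1, ← mul_assoc, ← mul_assoc, a2, one_mul, ai]
      rw [mul_assoc, h3, ← mul_assoc]
      calc r * r * a = r * r * (a * y) * y⁻¹ := by group
        _ = y := by rw [hrr, one_mul, yi]
    exact D.not_fused b hb hbn hiso

end Cfsg.Agent.Spor.TranCent
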