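import Cfsg.Agent.Lib.Spor.TranCent.FusionCheck

/-!
Checks for the weak closure of a central element: small sets in the centres of three centralisers.
-/

set_option autoImplicit false
set_option maxRecDepth 100000

namespace Cfsg.Agent.Spor.TranCent

/-- whether two codes commute -/
def cm (a b : ℕ) : Bool := eqv (mulc a b) (mulc b a)

/-- a central element of the first or second class, by the centraliser -/
def eCode (i : ℕ) : ℕ := if i = 7 then 19140673 else 17043525

/-- roots of that element and of its product by the transvection -/
def sCode (i : ℕ) : ℕ × ℕ :=
  if i = 4 then (17174601, 17240137) else if i = 6 then (17174617, 19271769) else (29628481, 29628485)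

/-- an element of a centraliser moving all but its centre -/
def witCode (j : ℕ) : ℕ := if j = 4 then 17109065 else if j = 6 then 17174617 else 25434181

theorem weak_elems : ([4, 6, 7].all fun i =>
    els.contains (eCode i) && els.contains (sCode i).1 && els.contains (sCode i).2 && els.contains (witCode i) &&
      cm (rp i) (sCode i).1 && cm (rp i) (sCode i).2 && cm (rp i) (witCode i) &&
      eqv (mulc (sCode i).1 (sCode i).1) (eCode i) && eqv (mulc (sCode i).2 (sCode i).2) (mulc tc (eCode i)) &&
      eqv (mulc (eCode i) (eCode i)) onec && !(eqv (eCode i) onec) && !(eqv (mulc tc (eCode i)) onec) &&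
      (hitTab.any fun p => eqv p.1 (eCode i) && (eqv p.2.2 1 || eqv p.2.2 2)) &&
      (hitTab.any fun p => eqv p.1 (mulc tc (eCode i)) && (eqv p.2.2 1 || eqv p.2.2 2))) = true := by
  decide +kernel

/-- the classes that cannot occur next to representative `j` -/
def skipClass (j k : ℕ) : Bool := eqv k 0 || eqv k j || eqv k 5

theorem weak_pairs : ([4, 6, 7].all fun j => hitTab.all fun p =>
    skipClass j p.2.2 || !(cm p.1 (witCode j)) || !(cm p.1 (rp j)) ||
      (fun b => hitTab.all fun q => !(eqv q.1 b) || skipClass j q.2.2) (mulc (rp j) p.1)) = true := by
  decide +kernel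

theorem five_not_square : (rootTab.all fun a => !(eqv (mulc a a) (rp 5))) = true := by decide +kernel

theorem four_six_central :
    (els.all fun a => !(cm (rp 4) a || cm (rp 6) a) || cm a (eCode 4)) = true := by
  decide +kernel

theorem seven_central : (els.all fun a => !(cm (rp 7) a) || cm a (eCode 7)) = true := by decide +kernel

end Cfsg.Agent.Spor.TranCent
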