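import Cfsg.Agent.Lib.Spor.TranCent.Fusion
import Cfsg.Agent.Lib.Spor.TranCent.WeakCheck
import Cfsg.Agent.Lib.Char.CentFour.Reduce
import Cfsg.Agent.Lib.Char.ZStar

/-!
In a simple group a conjugate of the central element lies in the first or second class of involutions.
-/

set_option autoImplicit false
set_option maxRecDepth 100000

namespace Cfsg.Agent.Spor.TranCent

variable {G : Type*} [Group G] {z : G}

/-- the class of the central element -/
def eClass (i : ℕ) : ℕ := if i = 7 then 1 else 2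

theorem weak_class : ([4, 6, 7].all fun i => hitTab.all fun p =>
    (!(eqv p.1 (eCode i)) && !(eqv p.1 (mulc tc (eCode i)))) || eqv p.2.2 (eClass i)) = true := by
  decide +kernel

theorem cm_iff (F : Fr G z) {a b : ℕ} (ha : a ∈ els) (hb : b ∈ els) :
    cm a b = true ↔ Commute (F.el a) (F.el b) := by
  simp only [cm, eqv, Nat.beq_eq]
  constructor
  · intro h
    rw [Commute, SemiconjBy, ← F.el_mul ha hb, ← F.el_mul hb ha, h]
  · intro h
    refine F.el_inj (mulc_mem ha hb) (mulc_mem hb ha) ?_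
    rw [F.el_mul ha hb, F.el_mul hb ha]
    exact h

theorem Fr.exists_hit (F : Fr G z) {y : G} (hy : Commute y z) (h2 : y * y = 1) (h1 : y ≠ 1) :
    ∃ p ∈ hitTab, p.1 ∈ els ∧ F.el p.1 = y ∧ p.2.2 < 8 ∧ IsConj (F.rep p.2.2) y := by
  obtain ⟨a, ha, rfl⟩ := F.el_surj hy
  have := List.all_eq_true.mp classes_all a ha
  simp only [Bool.or_eq_true, Bool.not_eq_true', eqv] at this
  have e1 : mulc a a = onec := F.el_inj (mulc_mem ha ha) onec_mem (by rw [F.el_mul ha ha, h2, F.el_one])
  rcases this with (h' | h') | h'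
  · rw [e1, Nat.beq_refl] at h'; exact Bool.noConfusion h'
  · exact absurd (by rw [Nat.eq_of_beq_eq_true h']; exact F.el_one) h1
  obtain ⟨p, hp, he⟩ := List.any_eq_true.1 h'
  obtain rfl : p.1 = a := Nat.eq_of_beq_eq_true he
  have h := classes_tab
  simp only [Bool.and_eq_true] at h
  have hok := List.all_eq_true.mp h.1.1 p hp
  simp only [hitOK, Bool.and_eq_true, eqv] at hok
  obtain ⟨⟨hj, hi⟩, hm⟩ := hok
  have hj' := Nat.le_of_ble_eq_true hj
  have hi' := Nat.le_of_ble_eq_true hi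
  have m1 : evalw (conjWords.getD p.2.1 []) ∈ els := evalw_mem fun j hjm => by
    rw [List.getD_eq_getElem _ _ hj'] at hjm
    exact Nat.le_of_ble_eq_true (List.all_eq_true.mp (List.all_eq_true.mp h.1.2 _ (List.getElem_mem _)) j hjm)
  refine ⟨p, hp, ha, rfl, hi', isConj_iff.2 ⟨F.el (evalw (conjWords.getD p.2.1 [])), ?_⟩⟩
  have e := congrArg F.el (Nat.eq_of_beq_eq_true hm)
  rw [F.el_mul ha m1, F.el_mul m1 (reps_spec hi').1] at e
  rw [Fr.rep, ← e, mul_inv_cancel_right]

theorem Fr.isConj_hit (F : Fr G z) {p : ℕ × ℕ × ℕ} (hp : p ∈ hitTab) (he : p.1 ∈ els) :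
    IsConj (F.rep p.2.2) (F.el p.1) := by
  have h := classes_tab
  simp only [Bool.and_eq_true] at h
  have hok := List.all_eq_true.mp h.1.1 p hp
  simp only [hitOK, Bool.and_eq_true, eqv] at hok
  obtain ⟨⟨hj, hi⟩, hm⟩ := hok
  have hj' := Nat.le_of_ble_eq_true hj
  have hi' := Nat.le_of_ble_eq_true hi
  have m1 : evalw (conjWords.getD p.2.1 []) ∈ els := evalw_mem fun j hjm => by
    rw [List.getD_eq_getElem _ _ hj'] at hjm
    exact Nat.le_of_ble_eq_true (List.all_eq_true.mp (List.all_eq_true.mp h.1.2 _ (List.getElem_mem _)) j hjm)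
  refine isConj_iff.2 ⟨F.el (evalw (conjWords.getD p.2.1 [])), ?_⟩
  have e := congrArg F.el (Nat.eq_of_beq_eq_true hm)
  rw [F.el_mul he m1, F.el_mul m1 (reps_spec hi').1] at e
  rw [Fr.rep, ← e, mul_inv_cancel_right]

theorem Fr.not_central (F : Fr G z) [IsSimpleGroup G] : ¬ ∀ g : G, z * g = g * z := by
  intro hc
  rcases IsSimpleGroup.eq_bot_or_eq_top_of_normal (Subgroup.center G) inferInstance with e | e
  · exact F.z_ne_one (Subgroup.mem_bot.1 (e ▸ Subgroup.mem_center_iff.2 fun g => (hc g).symm))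
  · have h0 := letters_mem (j := 0) (by norm_num)
    have h1 := letters_mem (j := 1) (by norm_num)
    have := (cm_iff F h0 h1).2 (Subgroup.mem_center_iff.1 (e ▸ Subgroup.mem_top (F.el (letters.getD 1 onec)))
      (F.el (letters.getD 0 onec)))
    exact absurd this (by decide +kernel)

theorem Fr.exists_commuting (F : Fr G z) [Finite G] [IsSimpleGroup G] :
    ∃ y : G, IsConj z y ∧ Commute y z ∧ y ≠ z := by
  by_contra hno
  push Not at hno
  have ho : orderOf z = 2 := orderOf_eq_prime (by rw [pow_two]; exact F.z_sq) F.z_ne_one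
  have hiso : Cfsg.IsIsolatedInvolution z :=
    ⟨ho, fun g hg => hno _ (isConj_iff.2 ⟨g, rfl⟩) hg.symm⟩
  have hO : Cfsg.oddCore G = ⊥ := CentFour.oddCore_bot (ho ▸ orderOf_dvd_natCard z)
  refine F.not_central fun g => ?_
  have h := Char.zStar_isolated hiso g
  rw [hO, Subgroup.mem_bot, mul_inv_eq_one, mul_inv_eq_iff_eq_mul] at h
  exact h

theorem Fr.central_of (F : Fr G z) {i : ℕ} (hi : i = 4 ∨ i = 6 ∨ i = 7) {a : ℕ} (ha : a ∈ els)
    (h : Commute (F.el a) (F.rep i)) : cm a (eCode i) = true := by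
  have hr : cm (rp i) a = true := (cm_iff F (rp_spec (by omega)).1 ha).2 h.symm
  rcases hi with rfl | rfl | rfl
  · have := List.all_eq_true.mp four_six_central a ha
    simpa [hr] using this
  · have := List.all_eq_true.mp four_six_central a ha
    rw [show eCode 6 = eCode 4 from rfl]
    simpa [hr] using this
  · have := List.all_eq_true.mp seven_central a ha
    simpa [hr] using this

/-- the three special classes are not fused to the central element -/
theorem Fr.special_false (F : Fr G z) {i j : ℕ} (hno : ¬ IsConj (F.rep (eClass i)) z)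
    (hi : i = 4 ∨ i = 6 ∨ i = 7) (hj : j = 4 ∨ j = 6 ∨ j = 7) {g : G} (g1 : MulAut.conj g (F.rep i) = z)
    (g2 : MulAut.conj g z = F.rep j) : False := by
  have hi8 : i < 8 := by omega
  have hj8 : j < 8 := by omega
  have hd := List.all_eq_true.mp weak_elems i (by simp; omega)
  have hdj := List.all_eq_true.mp weak_elems j (by simp; omega)
  simp only [Bool.and_eq_true, List.contains_iff_mem, List.any_eq_true, Bool.or_eq_true, Bool.not_eq_true',
    eqv, Nat.beq_eq] at hd hdj
  obtain ⟨⟨⟨⟨⟨⟨⟨⟨⟨⟨⟨⟨⟨he, hs⟩, hs'⟩, -⟩, hsc⟩, hsc'⟩, -⟩, hsq⟩, hsq'⟩, he2⟩, hne⟩, hne'⟩, p₀, hp₀, hp₀e, -⟩,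
    p₁, hp₁, hp₁e, -⟩ := hd
  obtain ⟨⟨⟨⟨⟨⟨⟨⟨⟨⟨⟨⟨⟨-, -⟩, -⟩, hw⟩, -⟩, -⟩, hwc⟩, -⟩, -⟩, -⟩, -⟩, -⟩, -⟩, -⟩ := hdj
  set e := eCode i
  have hzj : IsConj (F.rep j) z := (isConj_iff.2 ⟨g, g2⟩ : IsConj z (F.rep j)).symm
  have hy : mulc tc e ∈ els := mulc_mem tc_mem he
  have key : ∀ b s : ℕ, b ∈ els → s ∈ els → Commute (F.el s) (F.rep i) → F.el s * F.el s = F.el b →
      F.el b * F.el b = 1 → F.el b ≠ 1 → ¬ IsConj z (F.el b) →
      ∃ p ∈ hitTab, p.1 ∈ els ∧ F.el p.1 = MulAut.conj g (F.el b) ∧ skipClass j p.2.2 = false := by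
    intro b s hb hsm hsi hss hb2 hb1 hbz
    have hcz : Commute (MulAut.conj g (F.el s)) z := by
      have := hsi.map (MulAut.conj g)
      rwa [g1] at this
    have hbc : Commute (MulAut.conj g (F.el b)) z := by
      rw [← hss, map_mul]; exact hcz.mul_left hcz
    obtain ⟨p, hp, hpm, hpe, hk8, hcon⟩ := F.exists_hit hbc (by rw [← map_mul, hb2, map_one])
      (fun h => hb1 ((MulAut.conj g).injective (h.trans (map_one _).symm)))
    have hgb : IsConj (F.el b) (MulAut.conj g (F.el b)) := isConj_iff.2 ⟨g, rfl⟩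
    refine ⟨p, hp, hpm, hpe, Bool.eq_false_iff.2 fun hsk => ?_⟩
    simp only [skipClass, Bool.or_eq_true, eqv, Nat.beq_eq] at hsk
    rcases hsk with (h0 | hjk) | h5
    · rw [h0, F.rep_zero] at hcon
      exact hbz (hcon.trans hgb.symm)
    · rw [hjk] at hcon
      exact hbz (hzj.symm.trans (hcon.trans hgb.symm))
    · rw [h5] at hcon
      have hpe' := F.isConj_hit hp hpm
      rw [h5] at hpe'
      obtain ⟨a, ha, hae⟩ := F.el_surj hcz
      have hsqp : mulc a a = p.1 := F.el_inj (mulc_mem ha ha) hpm (by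
        rw [F.el_mul ha ha, hae, hpe, ← hss, map_mul])
      have hh := classes_tab
      simp only [Bool.and_eq_true] at hh
      have hok := List.all_eq_true.mp hh.1.1 p hp
      simp only [hitOK, Bool.and_eq_true, eqv] at hok
      obtain ⟨⟨hjw, -⟩, hm⟩ := hok
      have hjw' := Nat.le_of_ble_eq_true hjw
      have m1 : evalw (conjWords.getD p.2.1 []) ∈ els := evalw_mem fun l hl => by
        rw [List.getD_eq_getElem _ _ hjw'] at hl
        exact Nat.le_of_ble_eq_true (List.all_eq_true.mp (List.all_eq_true.mp hh.1.2 _ (List.getElem_mem _)) l hl)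
      set c := F.el (evalw (conjWords.getD p.2.1 [])) with hc
      obtain ⟨r, hr, hre⟩ := F.el_surj (show Commute (c⁻¹ * F.el a * c) z from
        ((F.el_comm m1).inv_left.mul_left (F.el_comm ha)).mul_left (F.el_comm m1))
      have e5 : mulc r r = rp 5 := F.el_inj (mulc_mem hr hr) (rp_spec (by norm_num)).1 (by
        have em := congrArg F.el (Nat.eq_of_beq_eq_true hm)
        rw [h5, F.el_mul hpm m1, F.el_mul m1 (reps_spec (by norm_num : 5 < 8)).1, ← hc] at em
        rw [F.el_mul hr hr, hre, show c⁻¹ * F.el a * c * (c⁻¹ * F.el a * c) = c⁻¹ * (F.el a * F.el a * c) by group,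
          ← F.el_mul ha ha, hsqp, em, inv_mul_cancel_left]
        rfl)
      have hrt : r ∈ rootTab := by
        rw [← root_all, List.mem_filter]
        refine ⟨hr, List.any_eq_true.2 ⟨rp 5, ?_, by simp [eqv, e5]⟩⟩
        unfold rp
        rw [List.getD_eq_getElem _ _ (show 5 < reps.length by decide)]
        exact List.getElem_mem _
      have := List.all_eq_true.mp five_not_square r hrt
      simp [eqv, e5] at this
  have hcl : ∀ p ∈ hitTab, p.1 ∈ els → (p.1 = e ∨ p.1 = mulc tc e) → ¬ IsConj z (F.el p.1) := by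
    intro p hp hpm hk hc
    have hw' := List.all_eq_true.mp (List.all_eq_true.mp weak_class i (by simp; omega)) p hp
    have hp2 : p.2.2 = eClass i := by rcases hk with hk | hk <;> simpa [eqv, hk, e] using hw'
    exact hno (hp2 ▸ (F.isConj_hit hp hpm).trans hc.symm)
  have hne1 : F.el e ≠ 1 := F.el_ne_one he fun h => by simp [h] at hne
  have hne1' : F.el (mulc tc e) ≠ 1 := F.el_ne_one hy fun h => by simp [h] at hne'
  have he2' : F.el e * F.el e = 1 := by rw [← F.el_mul he he, he2, F.el_one]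
  obtain ⟨p, hp, hpm, hpe, hps⟩ := key e _ he hs
    ((cm_iff F (rp_spec hi8).1 hs).1 hsc).symm (by rw [← F.el_mul hs hs, hsq]) he2' hne1
    (hp₀e ▸ hcl p₀ hp₀ (hp₀e.symm ▸ he) (Or.inl hp₀e))
  have hy2 : F.el (mulc tc e) * F.el (mulc tc e) = 1 := by
    rw [F.el_mul tc_mem he, F.el_tc, show z * F.el e * (z * F.el e) = z * (F.el e * z) * F.el e by group,
      (F.el_comm he).eq, ← mul_assoc, F.z_sq, one_mul, he2']
  obtain ⟨q, hq, hqm, hqe, hqs⟩ := key (mulc tc e) _ hy hs'
    ((cm_iff F (rp_spec hi8).1 hs').1 hsc').symm (by rw [← F.el_mul hs' hs', hsq']) hy2 hne1'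
    (hp₁e ▸ hcl p₁ hp₁ (hp₁e.symm ▸ hy) (Or.inr hp₁e))
  have hqp : q.1 = mulc (rp j) p.1 := F.el_inj hqm (mulc_mem (rp_spec hj8).1 hpm) (by
    rw [F.el_mul (rp_spec hj8).1 hpm, hqe, hpe, F.el_mul tc_mem he, F.el_tc, map_mul, g2]
    rfl)
  have hwr : cm p.1 (rp j) = true := (cm_iff F hpm (rp_spec hj8).1).2 (by
    rw [hpe, ← F.rep_eq, ← g2]
    exact (F.el_comm he).map (MulAut.conj g))
  have hww : cm p.1 (witCode j) = true := (cm_iff F hpm hw).2 (by
    rw [hpe]
    set v := (MulAut.conj g).symm (F.el (witCode j)) with hv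
    have hgv : MulAut.conj g v = F.el (witCode j) := MulEquiv.apply_symm_apply _ _
    have v1 : Commute v z := by
      have := ((cm_iff F (rp_spec hj8).1 hw).1 hwc).symm.map (MulAut.conj g).symm.toMonoidHom
      rw [← F.rep_eq, ← g2] at this
      simpa only [MulEquiv.coe_toMonoidHom, MulEquiv.symm_apply_apply] using this
    have v2 : Commute v (F.rep i) := by
      have := (F.el_comm hw).map (MulAut.conj g).symm.toMonoidHom
      have hg : (MulAut.conj g).symm z = F.rep i := by rw [MulEquiv.symm_apply_eq]; exact g1.symm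
      rw [MulEquiv.coe_toMonoidHom, hg] at this
      exact this
    obtain ⟨a, ha, hae⟩ := F.el_surj v1
    rw [← hgv, ← hae]
    exact ((cm_iff F ha he).1 (F.central_of hi ha (hae.symm ▸ v2))).symm.map (MulAut.conj g))
  have := List.all_eq_true.mp weak_pairs j (by simp; omega)
  have h1 := List.all_eq_true.mp this p hp
  rw [hps, hww, hwr] at h1
  simp only [Bool.not_true, Bool.false_or] at h1
  have h2 := List.all_eq_true.mp h1 q hq
  simp [eqv, hqp, hqs] at h2

theorem Fr.fused_special [Finite G] (F : Fr G z) {i : ℕ} (hi : i = 4 ∨ i = 6 ∨ i = 7)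
    (h : IsConj (F.rep i) z) : IsConj (F.rep (eClass i)) z := by
  by_contra hno
  obtain ⟨j, -, -, ⟨g, g1, g2⟩, hc⟩ := F.partner (by omega) (by omega) h
  exact F.special_false hno hi (by omega) g1 g2

/-- Fusion of the fourth class gives fusion of the first or second. -/
theorem Fr.fused_four [Finite G] (F : Fr G z) (h : IsConj (F.rep 4) z) :
    IsConj (F.rep 1) z ∨ IsConj (F.rep 2) z :=
  Or.inr (F.fused_special (Or.inl rfl) h)

/-- Fusion of the sixth class gives fusion of the second. -/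
theorem Fr.fused_six [Finite G] (F : Fr G z) (h : IsConj (F.rep 6) z) : IsConj (F.rep 2) z :=
  F.fused_special (Or.inr (Or.inl rfl)) h

/-- Fusion of the seventh class gives fusion of the first. -/
theorem Fr.fused_seven [Finite G] (F : Fr G z) (h : IsConj (F.rep 7) z) : IsConj (F.rep 1) z :=
  F.fused_special (Or.inr (Or.inr rfl)) h

/-- In a simple group the central element is fused to the first or the second representative. -/
theorem Fr.fused_of_simple [Finite G] [IsSimpleGroup G] (F : Fr G z) :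
    IsConj (F.rep 1) z ∨ IsConj (F.rep 2) z := by
  by_contra hno
  rw [not_or] at hno
  obtain ⟨y, hy, hyz, hne⟩ := F.exists_commuting
  obtain ⟨k, hk⟩ := isConj_iff.1 hy
  have hy2 : y * y = 1 := by
    rw [← hk, show k * z * k⁻¹ * (k * z * k⁻¹) = k * (z * z) * k⁻¹ by group, F.z_sq, mul_one, mul_inv_cancel]
  have hy1 : y ≠ 1 := fun e => F.z_ne_one (conj_eq_one_iff.1 (hk.trans e))
  obtain ⟨i, hi, c, hcz, hcy⟩ := F.exists_rep hyz hy2 hy1
  have hiz : IsConj (F.rep i) z := ((hy.trans (isConj_iff.2 ⟨c, hcy⟩))).symm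
  have hi0 : i ≠ 0 := by
    rintro rfl
    rw [F.rep_zero] at hcy
    refine hne ?_
    calc y = c⁻¹ * (c * y * c⁻¹) * c := by group
      _ = z := by rw [hcy, mul_assoc, ← hcz.eq, inv_mul_cancel_left]
  obtain ⟨j, -, -, -, h⟩ := F.partner hi hi0 hiz
  rcases h with ⟨h1 | h1, -⟩ | ⟨h4, -⟩ | ⟨h6 | h7, -⟩
  · exact hno.1 (h1 ▸ hiz)
  · exact hno.2 (h1 ▸ hiz)
  · exact hno.2 (F.fused_four (h4 ▸ hiz) |>.resolve_left hno.1)
  · exact hno.2 (F.fused_six (h6 ▸ hiz))
  · exact hno.1 (F.fused_seven (h7 ▸ hiz))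

end Cfsg.Agent.Spor.TranCent
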