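import Cfsg.Agent.Lib.Spor.TranCent.Cover
import Cfsg.Agent.Lib.Spor.TranCent.Base
import Cfsg.Agent.Lib.Spor.TranCent.Weak
import Cfsg.Agent.Lib.Spor.TranCent.AffineCheck
import Cfsg.Agent.Lib.Lead.PGV.TwoConf

/-!
In the affine case the subgroup contains the centralisers of all involutions commuting with the given one.
-/

set_option autoImplicit false
set_option linter.style.haveILetI false
set_option maxRecDepth 100000

namespace Cfsg.Agent.Spor.TranCent

attribute [local irreducible] mulc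

variable {G : Type*} [Group G] {z : G} {F : Fr G z}

theorem mem_els_space {e : ℕ} (he : e ∈ spaceList) : e ∈ els := by
  rw [← space_cent] at he
  exact (List.mem_filter.1 he).1

theorem space_normal (S : Side F) (hS : ∀ j < 4, S.g * F.lt j * S.g = F.el ((autImg 1).getD j 0))
    {u : G} (hu : u ∈ wordsSub (F.lm S.g 1) [0, 1, 2, 3, 4, 5]) :
    ∀ e ∈ spaceList, (∃ e' ∈ spaceList, MulAut.conj u (F.el e) = F.el e') ∧
      ∃ e' ∈ spaceList, MulAut.conj u⁻¹ (F.el e) = F.el e' := by
  have hs := aff_space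
  simp only [Bool.and_eq_true, List.all_eq_true, List.any_eq_true, List.mem_range, eqv] at hs
  induction hu using Subgroup.closure_induction with
  | mem u hu =>
    obtain ⟨j, hj, rfl⟩ := hu
    have hinv : (F.lm S.g 1 j)⁻¹ = F.lm S.g 1 j := inv_eq_of_mul_eq_one_right (F.lm_sq S.sq (one_mul 1) j)
    rw [hinv]
    intro x hx
    refine (and_self_iff).2 ?_
    simp only [Set.mem_setOf_eq, List.mem_cons, List.not_mem_nil, or_false] at hj
    by_cases hj5 : j < 5
    · obtain ⟨y, hy, e⟩ := (hs x hx).1 j hj5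
      refine ⟨y, hy, ?_⟩
      have hl := letters_mem hj5
      rw [← Nat.eq_of_beq_eq_true e, F.el_mul (mulc_mem hl (mem_els_space hx)) hl,
        F.el_mul hl (mem_els_space hx), MulAut.conj_apply, F.lm_lt _ _ hj5,
        inv_eq_of_mul_eq_one_right (F.lt_sq hj5)]
      rfl
    · obtain rfl : j = 5 := by omega
      obtain ⟨y, hy, e⟩ := (hs x hx).2
      refine ⟨y, hy, ?_⟩
      rw [F.lm_five]
      exact ((S.moveOK (i := 1) (by norm_num) wordOne hS).apply (isCode_eq e)).2
  | one => intro x hx; exact ⟨⟨x, hx, by rw [map_one, MulAut.one_apply]⟩, x, hx, by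
      rw [inv_one, map_one, MulAut.one_apply]⟩
  | mul a b _ _ ha hb =>
    intro x hx
    refine ⟨?_, ?_⟩
    · obtain ⟨y, hy, e⟩ := (hb x hx).1
      obtain ⟨w, hw, e'⟩ := (ha y hy).1
      exact ⟨w, hw, by rw [map_mul, MulAut.mul_apply, e, e']⟩
    · obtain ⟨y, hy, e⟩ := (ha x hx).2
      obtain ⟨w, hw, e'⟩ := (hb y hy).2
      exact ⟨w, hw, by rw [mul_inv_rev, map_mul, MulAut.mul_apply, e, e']⟩
  | inv a _ ha => intro x hx; exact ⟨(ha x hx).2, by rw [inv_inv]; exact (ha x hx).1⟩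

/-- an element of the list of classes is moved to its representative by the centraliser -/
theorem Fr.hit_cent (F : Fr G z) {p : ℕ × ℕ × ℕ} (hp : p ∈ hitTab) (he : p.1 ∈ els) :
    p.2.2 < 8 ∧ ∃ c : G, Commute c z ∧ c * F.el p.1 * c⁻¹ = F.rep p.2.2 := by
  have h := classes_tab
  simp only [Bool.and_eq_true] at h
  have hok := List.all_eq_true.mp h.1.1 p hp
  simp only [hitOK, Bool.and_eq_true, eqv] at hok
  obtain ⟨⟨hj, hi⟩, hm⟩ := hok
  have hj' := Nat.le_of_ble_eq_true hj
  have hi' := Nat.le_of_ble_eq_true hi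
  have m1 : evalw (conjWords.getD p.2.1 []) ∈ els := evalw_mem fun j hjm => by
    rw [List.getD_eq_getElem _ _ hj'] at hjm
    exact Nat.le_of_ble_eq_true (List.all_eq_true.mp (List.all_eq_true.mp h.1.2 _ (List.getElem_mem _)) j hjm)
  refine ⟨hi', (F.el (evalw (conjWords.getD p.2.1 [])))⁻¹, (F.el_comm m1).inv_left, ?_⟩
  have e := congrArg F.el (Nat.eq_of_beq_eq_true hm)
  rw [F.el_mul he m1, F.el_mul m1 (reps_spec hi').1] at e
  rw [inv_inv, mul_assoc, e, inv_mul_cancel_left]
  rfl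

/-- the centralisers of the classes number two and three -/
theorem affine_two [Finite G] (S : Side F) (hS : ∀ j < 4, S.g * F.lt j * S.g = F.el ((autImg 1).getD j 0))
    (D : Ctrl F [0, 1]) (hH : D.H = wordsSub (F.lm S.g 1) [0, 1, 2, 3, 4, 5])
    {i : ℕ} (hi : i = 2 ∨ i = 3) {x : G} (hx : Commute x (F.rep i)) : x ∈ D.H := by
  have hi8 : i < 8 := by omega
  have h2 := List.all_eq_true.mp aff_two i (by rcases hi with rfl | rfl <;> simp)
  simp only [Bool.and_eq_true, Bool.or_eq_true, List.all_eq_true, List.any_eq_true, List.contains_iff_mem,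
    eqv, Nat.beq_eq] at h2
  obtain ⟨⟨hval, e₀, he₀, hv₀⟩, p, hp, ⟨⟨hps, hp1⟩, hpr⟩, q, hq, hq1, hq2⟩ := h2
  have r1 : rp i ∈ els := (rp_spec hi8).1
  have sqeq : ∀ e ∈ spaceList, F.rep i * F.el e * (F.rep i * F.el e) = F.el (pairSq (rp i) e) := fun e he => by
    rw [pairSq, F.el_mul (mulc_mem r1 (mem_els_space he)) (mulc_mem r1 (mem_els_space he)),
      F.el_mul r1 (mem_els_space he)]
    rfl
  -- an element of the subgroup commuting with the representative fixes `z`
  have hfix : ∀ y ∈ D.H, Commute y (F.rep i) → y * z * y⁻¹ = z := by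
    intro y hy hyr
    obtain ⟨e', he', ee⟩ := ((space_normal S hS (hH ▸ hy)) e₀ he₀).1
    have hc : MulAut.conj y (F.rep i) = F.rep i := by rw [MulAut.conj_apply, hyr.eq, mul_inv_cancel_right]
    have h : MulAut.conj y z = F.el (pairSq (rp i) e') := by
      rw [← sqeq e' he', ← ee]
      conv_lhs => rw [← F.el_tc, ← hv₀, ← sqeq e₀ he₀]
      rw [map_mul, map_mul, hc]
    rcases hval e' he' with hv | hv
    · rw [hv, F.el_one] at h
      exact absurd ((MulAut.conj y).injective (h.trans (map_one _).symm)) F.z_ne_one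
    · rw [hv, F.el_tc] at h
      exact h
  set K := Subgroup.centralizer ({F.rep i} : Set G) with hK
  have hzK : z ∈ K := Subgroup.mem_centralizer_singleton_iff.2 (F.rep_comm hi8).symm.eq
  set zK : K := ⟨z, hzK⟩
  have hiso : Cfsg.IsIsolatedInvolution zK := by
    refine ⟨orderOf_eq_prime (Subtype.ext (by rw [SubgroupClass.coe_pow, pow_two]; exact F.z_sq))
      fun e => F.z_ne_one (congrArg Subtype.val e), fun g hg => ?_⟩
    have hc : Commute ((g : G) * z * (g : G)⁻¹) z := (congrArg Subtype.val hg).symm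
    exact Subtype.ext (hfix g (D.fix_unique (D.cent_le _ hc)) (Subgroup.mem_centralizer_singleton_iff.1 g.2))
  -- the odd core lies in the subgroup
  have hpm : p.1 ∈ els := mem_els_space hps
  have hqm : q.1 ∈ els := hq1 ▸ mulc_mem tc_mem hpm
  obtain ⟨h₁, hh₁, eh₁⟩ := D.fused 1 (by norm_num) (by simp)
  have hfused : ∀ t ∈ hitTab, t.1 ∈ els → t.2.2 = 1 → IsConj (F.el t.1) z ∧ F.el t.1 ∈ D.H := by
    intro t ht htm ht1
    obtain ⟨-, c, hcz, hce⟩ := F.hit_cent ht htm
    rw [ht1] at hce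
    exact ⟨isConj_iff.2 ⟨h₁ * c, by
      rw [show h₁ * c * F.el t.1 * (h₁ * c)⁻¹ = h₁ * (c * F.el t.1 * c⁻¹) * h₁⁻¹ by group, hce, eh₁]⟩,
      D.cent_le _ (F.el_comm htm)⟩
  obtain ⟨hc₁, hm₁⟩ := hfused p hp hpm hp1
  obtain ⟨hc₂, hm₂⟩ := hfused q hq hqm hq2
  have hqK : F.el p.1 ∈ K := Subgroup.mem_centralizer_singleton_iff.2 ((F.comm_iff r1 hpm).2 hpr).eq
  set qK : K := ⟨F.el p.1, hqK⟩
  have hq2' : qK * qK = 1 := by
    obtain ⟨k, hk⟩ := isConj_iff.1 hc₁.symm
    refine Subtype.ext ?_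
    show F.el p.1 * F.el p.1 = 1
    rw [← hk, show k * z * k⁻¹ * (k * z * k⁻¹) = k * (z * z) * k⁻¹ by group, F.z_sq, mul_one, mul_inv_cancel]
  have hzq : Commute zK qK := Subtype.ext (F.el_comm hpm).symm.eq
  have hz2 : zK * zK = 1 := Subtype.ext F.z_sq
  haveI : (Cfsg.oddCore K).Normal := inferInstance
  have comm_of : ∀ {v : K} {o : Cfsg.oddCore K}, MulAut.conjNormal v o = o → Commute (v : G) ((o : K) : G) := by
    intro v o h
    have := congrArg (fun t : Cfsg.oddCore K => ((t : K) : G)) h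
    simp only [MulAut.conjNormal_apply, Subgroup.coe_mul, Subgroup.coe_inv] at this
    exact mul_inv_eq_iff_eq_mul.1 this
  have hodd : ∀ o : Cfsg.oddCore K, ((o : K) : G) ∈ D.H := by
    intro o
    refine Cfsg.Agent.PGV.four_generation (Q := Cfsg.oddCore K)
      (Char.card_oddCore_odd K)
      (MulAut.conjNormal zK) (MulAut.conjNormal qK) (by rw [← map_mul, hz2, map_one])
      (by rw [← map_mul, hq2', map_one]) ?_ (D.H.comap ((K.subtype).comp (Cfsg.oddCore K).subtype))
      (fun o h => D.cent_le _ (comm_of h).symm) (fun o h => D.cent_fused hm₁ hc₁ (comm_of h).symm) (fun o h => ?_) o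
    · exact hzq.map (MulAut.conjNormal (H := Cfsg.oddCore K))
    · rw [← MulAut.mul_apply, ← map_mul] at h
      refine D.cent_fused hm₂ hc₂ ?_
      rw [hq1, F.el_mul tc_mem hpm, F.el_tc]
      exact (comm_of h).symm
  set xK : K := ⟨x, Subgroup.mem_centralizer_singleton_iff.2 hx.eq⟩
  have hz := Char.zStar_isolated hiso xK
  have hm := hodd ⟨_, hz⟩
  refine D.fix_unique ?_
  have := mul_mem (inv_mem hm) D.z_mem
  simp only [Subgroup.coe_mul, Subgroup.coe_inv, mul_inv_rev, inv_inv] at this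
  convert this using 1
  show x * z * x⁻¹ = x * (z * (x⁻¹ * z⁻¹)) * z
  group

/-- classes other than the sixth -/
theorem affine_most [Finite G] (S : Side F) (hS : ∀ j < 4, S.g * F.lt j * S.g = F.el ((autImg 1).getD j 0))
    (D : Ctrl F [0, 1]) (hH : D.H = wordsSub (F.lm S.g 1) [0, 1, 2, 3, 4, 5])
    {i : ℕ} (hi : i < 8) (h6 : i ≠ 6) {x : G} (hx : Commute x (F.rep i)) : x ∈ D.H := by
  have hall : ∀ t ∈ affMoves, ∀ y : G, Commute y (F.rep t.1) → (t.2.1 = 2 ∨ t.2.1 = 3) → t.1 < 8 → y ∈ D.H := by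
    intro t ht y hy h23 ht8
    have h := List.all_eq_true.mp aff_moves t ht
    simp only [Bool.and_eq_true] at h
    have hms : MovesOK F [moveOne 1] S.g 1 := movesOK_one (S.moveOK (by omega) wordOne hS)
    obtain ⟨-, e⟩ := F.trace_sound hms (rp_spec ht8).1 (isCode_eq h.1)
    set u := (t.2.2.map (F.lm S.g 1)).prod
    have hu : u ∈ D.H := by
      rw [hH]
      refine Subgroup.list_prod_mem _ fun g hg => ?_
      obtain ⟨j, hj, rfl⟩ := List.mem_map.1 hg
      refine Subgroup.subset_closure ⟨j, ?_, rfl⟩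
      have := below_iff.1 h.2 j hj
      simp only [Set.mem_setOf_eq, List.mem_cons, List.not_mem_nil, or_false]
      omega
    have hy' := hy.map (MulAut.conj u)
    rw [F.rep_eq, e, ← F.rep_eq, MulAut.conj_apply] at hy'
    have hm := mul_mem (mul_mem (inv_mem hu) (affine_two S hS D hH h23 hy')) hu
    rwa [show u⁻¹ * (u * y * u⁻¹) * u = y by group] at hm
  by_cases hf : i ∈ [0, 1]
  · obtain ⟨h, -, e⟩ := D.fused i hi hf
    exact D.cent_fused (D.cent_le _ (F.rep_comm hi)) (isConj_iff.2 ⟨h, e⟩) hx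
  by_cases h23 : i = 2 ∨ i = 3
  · exact affine_two S hS D hH h23 hx
  simp only [List.mem_cons, List.not_mem_nil, or_false] at hf
  rcases (show i = 4 ∨ i = 5 ∨ i = 7 by omega) with rfl | rfl | rfl
  · exact hall (4, 2, _) List.mem_cons_self x hx (Or.inl rfl) (by norm_num)
  · exact hall (5, 3, _) (List.mem_cons_of_mem _ List.mem_cons_self) x hx (Or.inr rfl) (by norm_num)
  · exact hall (7, 3, _) (List.mem_cons_of_mem _ (List.mem_cons_of_mem _ List.mem_cons_self)) x hx (Or.inr rfl)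
      (by norm_num)

/-- the third and sixth class stay distinct -/
theorem affine_distinct [Finite G] (S : Side F) (hS : ∀ j < 4, S.g * F.lt j * S.g = F.el ((autImg 1).getD j 0))
    (D : Ctrl F [0, 1]) (hH : D.H = wordsSub (F.lm S.g 1) [0, 1, 2, 3, 4, 5]) :
    ¬ IsConj (F.rep 6) (F.rep 3) := by
  intro hc
  obtain ⟨x, hx⟩ := isConj_iff.1 hc
  have hzx : Commute (x * z * x⁻¹) (F.rep 3) := by
    have := (F.rep_comm (i := 6) (by norm_num)).symm.map (MulAut.conj x)
    rwa [MulAut.conj_apply, MulAut.conj_apply, hx] at this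
  have hxH : x ∈ D.H := D.fix_unique (affine_most S hS D hH (by norm_num) (by norm_num) hzx)
  have h3 := List.all_eq_true.mp aff_two 3 (by simp)
  simp only [Bool.and_eq_true, Bool.or_eq_true, List.all_eq_true, eqv, Nat.beq_eq] at h3
  have h6 := aff_six
  simp only [Bool.and_eq_true, Bool.not_eq_true', List.any_eq_true, eqv, Nat.beq_eq] at h6
  obtain ⟨⟨e, he, hv⟩, e', he', hn1, hn2⟩ := h6
  have r6 : rp 6 ∈ els := (rp_spec (by norm_num)).1
  have r3 : rp 3 ∈ els := (rp_spec (by norm_num)).1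
  have sqeq : ∀ {r : ℕ}, r ∈ els → ∀ e ∈ spaceList, pairSq r e ∈ els ∧
      F.el r * F.el e * (F.el r * F.el e) = F.el (pairSq r e) := fun {r} hr e he =>
    ⟨mulc_mem (mulc_mem hr (mem_els_space he)) (mulc_mem hr (mem_els_space he)), by
      rw [pairSq, F.el_mul (mulc_mem hr (mem_els_space he)) (mulc_mem hr (mem_els_space he)),
        F.el_mul hr (mem_els_space he)]⟩
  have img : ∀ e ∈ spaceList, pairSq (rp 6) e ≠ onec → MulAut.conj x (F.el (pairSq (rp 6) e)) = z := by
    intro e he hne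
    obtain ⟨f, hf, ef⟩ := ((space_normal S hS (hH ▸ hxH)) e he).1
    have heq : MulAut.conj x (F.el (pairSq (rp 6) e)) = F.el (pairSq (rp 3) f) := by
      rw [← (sqeq r6 e he).2, ← (sqeq r3 f hf).2, map_mul, map_mul, ef,
        show MulAut.conj x (F.el (rp 6)) = F.el (rp 3) from hx]
    rcases h3.1.1 f hf with h | h
    · rw [h, F.el_one] at heq
      exact absurd ((MulAut.conj x).injective (heq.trans (map_one _).symm)) (F.el_ne_one (sqeq r6 e he).1 hne)
    · rw [heq, h, F.el_tc]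
  have a := img e he (by
    rw [hv]; intro h
    exact absurd h (by decide +kernel))
  rw [hv] at a
  have hne' : pairSq (rp 6) e' ≠ onec := fun h => by rw [h, Nat.beq_refl] at hn1; exact Bool.noConfusion hn1
  have b := img e' he' hne'
  have := F.el_inj (sqeq r6 e' he').1 tc_mem ((MulAut.conj x).injective (b.trans a.symm))
  rw [this, Nat.beq_refl] at hn2
  exact Bool.noConfusion hn2

/-- the sixth class -/
theorem affine_six [Finite G] (S : Side F) (hS : ∀ j < 4, S.g * F.lt j * S.g = F.el ((autImg 1).getD j 0))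
    (D : Ctrl F [0, 1]) (hH : D.H = wordsSub (F.lm S.g 1) [0, 1, 2, 3, 4, 5])
    {x : G} (hx : Commute x (F.rep 6)) : x ∈ D.H := by
  have hg := aff_gen
  simp only [Bool.and_eq_true, List.contains_iff_mem, eqv, Nat.beq_eq] at hg
  obtain ⟨⟨⟨hbm, hy⟩, hym⟩, hrel⟩ := hg
  have r6 : rp 6 ∈ els := (rp_spec (by norm_num)).1
  have r3 : rp 3 ∈ els := (rp_spec (by norm_num)).1
  set b := F.rep 3 with hb
  set m := F.rep 6 with hm
  set y := F.el affY
  have hbm' : Commute b m := (F.comm_iff r6 r3).2 hbm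
  have hym' : Commute y m := (F.comm_iff r6 hy).2 hym
  have hb2 : b * b = 1 := F.rep_sq (by norm_num)
  have hbz : ¬ IsConj b z := D.not_fused 3 (by norm_num) (by simp)
  suffices key : ∀ u : G, Commute u m → u * b * u⁻¹ ∈ D.H by
    refine D.fix_unique ?_
    have e : b * (y * b) = z * y := by
      have := congrArg F.el hrel
      rwa [F.el_mul r3 (mulc_mem hy r3), F.el_mul hy r3, F.el_mul tc_mem hy, F.el_tc] at this
    have := mul_mem (key x hx) (key (x * y) (hx.mul_left hym'))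
    rwa [show x * b * x⁻¹ * (x * y * b * (x * y)⁻¹) = x * (b * (y * b)) * y⁻¹ * x⁻¹ by group, e,
      show x * (z * y) * y⁻¹ * x⁻¹ = x * z * x⁻¹ by group] at this
  intro u hu
  set v := u * b * u⁻¹ with hv
  have hv2 : v * v = 1 := by
    rw [hv, show u * b * u⁻¹ * (u * b * u⁻¹) = u * (b * b) * u⁻¹ by group, hb2, mul_one, mul_inv_cancel]
  have hvm : Commute v m := (hu.mul_left hbm').mul_left hu.inv_left
  have hvb : IsConj v b := (isConj_iff.2 ⟨u, rfl⟩ : IsConj b v).symm
  have hvz : ¬ IsConj v z := fun h => hbz (hvb.symm.trans h)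
  have hzm : Commute z m := (F.rep_comm (by norm_num)).symm
  clear_value v
  have vi : v⁻¹ = v := inv_eq_of_mul_eq_one_right hv2
  have zi : z⁻¹ = z := inv_eq_of_mul_eq_one_right F.z_sq
  have inv_z : z * (z * v) * z⁻¹ = (z * v)⁻¹ := by
    rw [mul_inv_rev, zi, vi, ← mul_assoc, F.z_sq, one_mul]
  have inv_v : v * (z * v) * v⁻¹ = (z * v)⁻¹ := by
    rw [mul_inv_rev, vi, zi, mul_assoc v, mul_assoc z, hv2, mul_one]
  have powconj : ∀ j : ℕ, (z * v) ^ j * z * ((z * v) ^ j)⁻¹ = (z * v) ^ (2 * j) * z := by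
    intro j
    have e : z * ((z * v) ^ j)⁻¹ = (z * v) ^ j * z := by
      rw [← inv_pow, ← inv_z, conj_pow]
      rw [zi, ← mul_assoc, ← mul_assoc, F.z_sq, one_mul]
    rw [mul_assoc, e, ← mul_assoc, ← pow_add, two_mul]
  have powconj' : ∀ j : ℕ, (z * v) ^ j * v * ((z * v) ^ j)⁻¹ = (z * v) ^ (2 * j) * v := by
    intro j
    have e : v * ((z * v) ^ j)⁻¹ = (z * v) ^ j * v := by
      rw [← inv_pow, ← inv_v, conj_pow]
      rw [vi, ← mul_assoc, ← mul_assoc, hv2, one_mul]
    rw [mul_assoc, e, ← mul_assoc, ← pow_add, two_mul]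
  rcases (orderOf (z * v)).even_or_odd with ⟨k, hk⟩ | ⟨k, hk⟩
  · have hkpos : 0 < k := by have := orderOf_pos (z * v); omega
    set c := (z * v) ^ k with hc
    have c2 : c * c = 1 := by rw [← pow_add, ← hk, pow_orderOf_eq_one]
    have c1 : c ≠ 1 := pow_ne_one_of_lt_orderOf (by omega) (by omega)
    have ci : c⁻¹ = c := inv_eq_of_mul_eq_one_right c2
    have comm : ∀ w : G, w * (z * v) * w⁻¹ = (z * v)⁻¹ → Commute w c := by
      intro w hw
      have : w * c * w⁻¹ = c := by rw [← conj_pow, hw, inv_pow]; exact ci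
      exact mul_inv_eq_iff_eq_mul.1 this
    have hcz : Commute c z := (comm z inv_z).symm
    have hcv : Commute c v := (comm v inv_v).symm
    have hcm : Commute c m := (hzm.mul_left hvm).pow_left k
    have hdich : IsConj (c * z) z ∨ IsConj (c * z) v := by
      obtain ⟨j, hj⟩ | ⟨j, hj⟩ := k.even_or_odd
      · refine Or.inl (isConj_iff.2 ⟨(z * v) ^ j, ?_⟩ : IsConj z (c * z)).symm
        rw [powconj, hc, hj, two_mul]
      · refine Or.inr (isConj_iff.2 ⟨(z * v) ^ (j + 1), ?_⟩ : IsConj v (c * z)).symm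
        rw [powconj', hc, show 2 * (j + 1) = k + 1 by omega, pow_succ, mul_assoc, mul_assoc z, hv2, mul_one]
    obtain ⟨p, hp, hpm, hpe, hp8, -⟩ := F.exists_hit hcz c2 c1
    have hcent : ∀ q ∈ hitTab, q.1 ∈ els → q.2.2 ≠ 6 → ∀ w, Commute w (F.el q.1) → w ∈ D.H := by
      intro q hq hqm hq6 w hw
      obtain ⟨h8, e, hez, he⟩ := F.hit_cent hq hqm
      have hw' := hw.map (MulAut.conj e)
      rw [MulAut.conj_apply, MulAut.conj_apply, he] at hw'
      have heH := D.cent_le _ hez
      have := mul_mem (mul_mem (inv_mem heH) (affine_most S hS D hH h8 hq6 hw')) heH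
      rwa [show e⁻¹ * (e * w * e⁻¹) * e = w by group] at this
    have h := List.all_eq_true.mp aff_hits p hp
    simp only [Bool.or_eq_true, Bool.and_eq_true, Bool.not_eq_true', List.any_eq_true, eqv, Nat.beq_eq] at h
    rcases h with ((h | h) | ⟨q, hq, hq1, hq2⟩) | ⟨q, hq, hq1, hq2⟩
    · exfalso
      rw [(F.comm_iff r6 hpm).1 (hpe ▸ hcm), Nat.beq_refl] at h
      exact Bool.noConfusion h
    · exact hcent p hp hpm (fun e => by rw [e] at h; exact Bool.noConfusion h) v (hpe ▸ hcv.symm)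
    · refine hcent q hq (hq1 ▸ mulc_mem hpm r6) (fun e => by rw [e] at hq2; exact Bool.noConfusion hq2) v ?_
      rw [hq1, F.el_mul hpm r6, hpe]
      exact hcv.symm.mul_right hvm
    · exfalso
      have hqm : q.1 ∈ els := hq1 ▸ mulc_mem tc_mem hpm
      have hconj : IsConj m (c * z) := by
        have := F.isConj_hit hq hqm
        rwa [hq2, hq1, F.el_mul tc_mem hpm, hpe, F.el_tc, ← hcz.eq] at this
      rcases hdich with h | h
      · exact D.not_fused 6 (by norm_num) (by simp) (hconj.trans h)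
      · exact affine_distinct S hS D hH (hconj.trans (h.trans hvb))
  · exfalso
    have hn : (z * v) ^ (2 * k + 1) = 1 := by rw [← hk, pow_orderOf_eq_one]
    refine hvz (isConj_iff.2 ⟨(z * v) ^ (k + 1), ?_⟩)
    rw [powconj', show 2 * (k + 1) = 2 * k + 1 + 1 by omega, pow_succ, hn, one_mul, mul_assoc, hv2, mul_one]

/-- In the affine case the centralisers of the representatives lie in the subgroup. -/
theorem affine_cent [Finite G] (S : Side F) (hS : ∀ j < 4, S.g * F.lt j * S.g = F.el ((autImg 1).getD j 0))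
    (D : Ctrl F [0, 1]) (hH : D.H = wordsSub (F.lm S.g 1) [0, 1, 2, 3, 4, 5]) :
    ∀ i < 8, i ∉ [0, 1] → ∀ g, Commute g (F.rep i) → g ∈ D.H := by
  intro i hi _ g hg
  by_cases h : i = 6
  · subst h
    exact affine_six S hS D hH hg
  · exact affine_most S hS D hH hi h hg

end Cfsg.Agent.Spor.TranCent
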