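import Mathlib

/-!
A subgroup with abelian obstruction: if it contains the centralisers of its involutions and two elements of
coprime orders, one moving the other to its square, then it is everything.
-/

set_option autoImplicit false
set_option linter.style.haveILetI false

namespace Cfsg.Agent.Spor.TranCent

variable {Q : Type*} [Group Q] [Finite Q]

/-- a group of even order with an element of order two acting has a fixed involution -/
theorem exists_fixed_involution (D : Subgroup Q) {u : Q} (u2 : u * u = 1)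
    (hu : ∀ d ∈ D, u * d * u⁻¹ ∈ D) (hd : 2 ∣ Nat.card D) :
    ∃ t ∈ D, t * t = 1 ∧ t ≠ 1 ∧ Commute u t := by
  classical
  haveI : Fintype D := Fintype.ofFinite D
  haveI : Fact (Nat.Prime 2) := ⟨Nat.prime_two⟩
  let σ : Function.End D := fun d => d⁻¹
  have hσ : σ ^ 2 ^ 1 = 1 := by
    rw [pow_one, pow_two]
    funext d
    exact inv_inv d
  have h1 := Equiv.Perm.card_fixedPoints_modEq (p := 2) (n := 1) hσ
  let T := {d : D // d⁻¹ = d}
  haveI : Fintype T := Fintype.ofFinite T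
  have hT : 2 ∣ Fintype.card T := by
    have e : Fintype.card T = Fintype.card (Function.fixedPoints σ) :=
      Fintype.card_congr (Equiv.subtypeEquivRight fun d => Iff.rfl)
    rw [e]
    rw [Nat.card_eq_fintype_card] at hd
    exact (Nat.modEq_zero_iff_dvd).1 (h1.symm.trans (Nat.modEq_zero_iff_dvd.2 hd))
  let τ : Function.End T := fun d => ⟨⟨u * d.1 * u⁻¹, hu _ d.1.2⟩, Subtype.ext (by
      have e : ((d.1 : Q))⁻¹ = d.1 := congrArg Subtype.val d.2
      show (u * d.1 * u⁻¹)⁻¹ = u * d.1 * u⁻¹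
      rw [show (u * (d.1 : Q) * u⁻¹)⁻¹ = u * (d.1 : Q)⁻¹ * u⁻¹ by group, e])⟩
  have hτ : τ ^ 2 ^ 1 = 1 := by
    rw [pow_one, pow_two]
    funext d
    refine Subtype.ext (Subtype.ext ?_)
    show u * (u * d.1 * u⁻¹) * u⁻¹ = d.1
    rw [show u * (u * (d.1 : Q) * u⁻¹) * u⁻¹ = u * u * d.1 * (u * u)⁻¹ by group, u2]
    group
  have h2 := Equiv.Perm.card_fixedPoints_modEq (p := 2) (n := 1) hτ
  have hF : 2 ∣ Fintype.card (Function.fixedPoints τ) :=
    (Nat.modEq_zero_iff_dvd).1 (h2.symm.trans (Nat.modEq_zero_iff_dvd.2 hT))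
  let e1 : Function.fixedPoints τ := ⟨⟨1, inv_one⟩, Subtype.ext (Subtype.ext (by
    show u * ((1 : D) : Q) * u⁻¹ = ((1 : D) : Q)
    simp))⟩
  have hgt : 1 < Fintype.card (Function.fixedPoints τ) :=
    Nat.lt_of_lt_of_le (by norm_num) (Nat.le_of_dvd (Fintype.card_pos_iff.2 ⟨e1⟩) hF)
  obtain ⟨⟨⟨d, hd2⟩, hfix⟩, hne⟩ := Fintype.exists_ne_of_one_lt_card hgt e1
  have hd2' : (d : Q)⁻¹ = d := congrArg Subtype.val hd2
  refine ⟨d, d.2, by nth_rewrite 1 [← hd2']; exact inv_mul_cancel _, fun e => hne ?_, ?_⟩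
  · exact Subtype.ext (Subtype.ext (Subtype.ext e))
  · exact mul_inv_eq_iff_eq_mul.1 (congrArg (fun t : T => ((t.1 : D) : Q)) hfix)

/-- the criterion -/
theorem strong_top (M : Subgroup Q) {z : Q} (zM : z ∈ M) (z2 : z * z = 1)
    (hfix : ∀ g, g * z * g⁻¹ ∈ M → g ∈ M)
    (hcent : ∀ t ∈ M, t * t = 1 → t ≠ 1 → ∀ g, Commute g t → g ∈ M)
    (hC : IsPGroup 2 (Subgroup.centralizer ({z} : Set Q)))
    (hodd : ¬ 2 ∣ (Subgroup.centralizer ({z} : Set Q)).relIndex M)
    {x w : Q} (hx : x ∈ M) (hw : w ∈ M) (x1 : x ≠ 1) (hwx : w * x * w⁻¹ = x * x) (hw3 : w * w * w = 1) :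
    M = ⊤ := by
  classical
  haveI : Fact (Nat.Prime 2) := ⟨Nat.prime_two⟩
  haveI : Fintype Q := Fintype.ofFinite Q
  by_contra hM
  set C := Subgroup.centralizer ({z} : Set Q) with hCdef
  have hCM : C ≤ M := fun g hg => hfix g (by
    rw [mul_inv_eq_iff_eq_mul.2 (Subgroup.mem_centralizer_singleton_iff.1 hg)]; exact zM)
  set o := C.relIndex M with ho
  obtain ⟨a, ha⟩ := IsPGroup.iff_card.1 hC
  have hcardM : Nat.card M = 2 ^ a * o := by
    rw [← ha, ← Nat.card_congr (Subgroup.subgroupOfEquivOfLe hCM).toEquiv, ho]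
    exact (Subgroup.card_mul_index (C.subgroupOf M)).symm
  -- some coset holds many conjugates
  let f : Q ⧸ C → Q ⧸ M := Quotient.lift (fun g => ((g * z * g⁻¹ : Q) : Q ⧸ M)) (fun g h hgh => by
    have hc : g⁻¹ * h ∈ C := QuotientGroup.leftRel_apply.1 hgh
    have e := Subgroup.mem_centralizer_singleton_iff.1 hc
    refine congrArg QuotientGroup.mk ?_
    calc g * z * g⁻¹ = g * (z * (g⁻¹ * h)) * h⁻¹ := by group
      _ = g * (g⁻¹ * h * z) * h⁻¹ := by rw [e]
      _ = h * z * h⁻¹ := by group)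
  have hf1 : Fintype.card {q : Q ⧸ C // f q = ((1 : Q) : Q ⧸ M)} ≤ o := by
    rw [← Nat.card_eq_fintype_card, ho]
    show _ ≤ (C.subgroupOf M).index
    rw [Subgroup.index_eq_card]
    refine Nat.card_le_card_of_surjective
      (Quotient.lift (fun m : M => (⟨((m : Q) : Q ⧸ C), ?_⟩ : {q : Q ⧸ C // f q = ((1 : Q) : Q ⧸ M)})) ?_) ?_
    · show ((((m : Q)) * z * ((m : Q))⁻¹ : Q) : Q ⧸ M) = ((1 : Q) : Q ⧸ M)
      rw [QuotientGroup.eq, mul_one]
      exact inv_mem (mul_mem (mul_mem m.2 zM) (inv_mem m.2))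
    · intro m m' h
      exact Subtype.ext (QuotientGroup.eq.2 (Subgroup.mem_subgroupOf.1 (QuotientGroup.leftRel_apply.1 h) :))
    · rintro ⟨q, hq⟩
      obtain ⟨g, rfl⟩ := QuotientGroup.mk_surjective q
      have hgM : g ∈ M := hfix g (inv_mem_iff.1 (by
        have := QuotientGroup.eq.1 (hq : ((g * z * g⁻¹ : Q) : Q ⧸ M) = ((1 : Q) : Q ⧸ M))
        rwa [mul_one] at this))
      exact ⟨((⟨g, hgM⟩ : M) : M ⧸ C.subgroupOf M), rfl⟩
  have hpos : 0 < o := Nat.pos_of_ne_zero Subgroup.index_ne_zero_of_finite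
  obtain ⟨q, hq1, hq⟩ : ∃ q : Q ⧸ M, q ≠ ((1 : Q) : Q ⧸ M) ∧ o ≤ Fintype.card {c : Q ⧸ C // f c = q} := by
    by_contra hno
    push_neg at hno
    have hsum := Fintype.card_congr (Equiv.sigmaFiberEquiv f).symm
    rw [Fintype.card_sigma] at hsum
    have hn : 1 < Fintype.card (Q ⧸ M) := by
      rw [← Nat.card_eq_fintype_card, ← Subgroup.index_eq_card]
      exact Subgroup.one_lt_index_of_ne_top hM
    obtain ⟨q', hq'⟩ := Fintype.exists_ne_of_one_lt_card hn ((1 : Q) : Q ⧸ M)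
    have hlt : ∑ q : Q ⧸ M, Fintype.card {c : Q ⧸ C // f c = q} < ∑ _q : Q ⧸ M, o := by
      refine Finset.sum_lt_sum (fun q _ => ?_) ⟨q', Finset.mem_univ _, hno q' hq'⟩
      by_cases h : q = ((1 : Q) : Q ⧸ M)
      · exact h ▸ hf1
      · exact (hno q h).le
    rw [← hsum, Finset.sum_const, smul_eq_mul, Finset.card_univ, ← Nat.card_eq_fintype_card,
      ← Nat.card_eq_fintype_card, ← Subgroup.index_eq_card, ← Subgroup.index_eq_card,
      ← Subgroup.relIndex_mul_index hCM, mul_comm] at hlt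
    exact lt_irrefl _ hlt
  haveI : Nonempty {c : Q ⧸ C // f c = q} := Fintype.card_pos_iff.1 (hpos.trans_le hq)
  obtain ⟨⟨c₀, hc₀⟩⟩ := ‹Nonempty {c : Q ⧸ C // f c = q}›
  obtain ⟨g₀, rfl⟩ := QuotientGroup.mk_surjective c₀
  set u := g₀ * z * g₀⁻¹ with hu
  have hconj2 : ∀ g : Q, g * z * g⁻¹ * (g * z * g⁻¹) = 1 := fun g => by
    rw [← MulAut.conj_apply, ← map_mul, z2, map_one]
  have u2 : u * u = 1 := hconj2 g₀
  have ui : u⁻¹ = u := inv_eq_of_mul_eq_one_right u2
  have huq : (u : Q ⧸ M) = q := hc₀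
  have huM : u ∉ M := fun h => hq1 (by rw [← huq, QuotientGroup.eq, mul_one]; exact inv_mem h)
  let D : Subgroup Q := M ⊓ M.comap (MulAut.conj u).toMonoidHom
  have hDu : ∀ d ∈ D, u * d * u⁻¹ ∈ D := fun d hd => ⟨hd.2, by
    show u * (u * d * u⁻¹) * u⁻¹ ∈ M
    rw [show u * (u * d * u⁻¹) * u⁻¹ = u * u * d * (u * u)⁻¹ by group, u2]
    simpa using hd.1⟩
  have hDodd : ¬ 2 ∣ Nat.card D := fun h => by
    obtain ⟨t, ht, t2, t1, hut⟩ := exists_fixed_involution D u2 hDu h
    exact huM (hcent t ht.1 t2 t1 u hut)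
  have hDo : Nat.card D ∣ o := by
    have h : Nat.card D ∣ 2 ^ a * o := hcardM ▸ Subgroup.card_dvd_of_le inf_le_left
    exact ((Nat.prime_two.coprime_iff_not_dvd.2 hDodd).symm.pow_right a).dvd_of_dvd_mul_left h
  let I := {d : D // u * (d : Q) * u⁻¹ = (d : Q)⁻¹}
  haveI : Fintype I := Fintype.ofFinite I
  have hI : o ≤ Nat.card I := by
    refine hq.trans ?_
    rw [← Nat.card_eq_fintype_card]
    have key : ∀ c : {c : Q ⧸ C // f c = q}, ∃ d : I, ∃ g : Q, (g : Q ⧸ C) = c.1 ∧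
        ((d.1 : D) : Q) = u * (g * z * g⁻¹) := by
      rintro ⟨c, hc⟩
      obtain ⟨g, rfl⟩ := QuotientGroup.mk_surjective c
      have hm : u * (g * z * g⁻¹) ∈ M := by
        have := QuotientGroup.eq.1 (huq.trans hc.symm : (u : Q ⧸ M) = ((g * z * g⁻¹ : Q) : Q ⧸ M))
        rwa [ui] at this
      have hinv : u * (u * (g * z * g⁻¹)) * u⁻¹ = (u * (g * z * g⁻¹))⁻¹ := by
        have hv := inv_eq_of_mul_eq_one_right (hconj2 g)
        revert hv
        generalize g * z * g⁻¹ = v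
        intro hv
        rw [ui, mul_inv_rev, ui, hv, ← mul_assoc u u v, u2, one_mul]
      exact ⟨⟨⟨_, hm, by show u * (u * (g * z * g⁻¹)) * u⁻¹ ∈ M; rw [hinv]; exact inv_mem hm⟩, hinv⟩,
        g, rfl, rfl⟩
    choose φ g hg hφ using key
    refine Nat.card_le_card_of_injective φ fun c c' h => Subtype.ext ?_
    have e := (hφ c).symm.trans ((congrArg (fun d : I => ((d.1 : D) : Q)) h).trans (hφ c'))
    have e := mul_left_cancel e
    rw [← hg c, ← hg c', QuotientGroup.eq]
    refine Subgroup.mem_centralizer_singleton_iff.2 ?_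
    calc (g c)⁻¹ * g c' * z = (g c)⁻¹ * (g c' * z * (g c')⁻¹) * g c' := by group
      _ = (g c)⁻¹ * (g c * z * (g c)⁻¹) * g c' := by rw [e]
      _ = z * ((g c)⁻¹ * g c') := by group
  have hDI : Nat.card I ≤ Nat.card D := Nat.card_le_card_of_injective _ Subtype.val_injective
  have hDcard : Nat.card D = o :=
    le_antisymm (Nat.le_of_dvd hpos hDo) (hI.trans hDI)
  have hall : ∀ d ∈ D, u * d * u⁻¹ = d⁻¹ := by
    intro d hd
    have hb : Function.Bijective (Subtype.val : I → D) :=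
      Subtype.val_injective.bijective_of_nat_card_le (by rw [hDcard]; exact hI)
    obtain ⟨i, hi⟩ := hb.2 ⟨d, hd⟩
    have := i.2
    rwa [hi] at this
  have hab : ∀ d ∈ D, ∀ e ∈ D, Commute d e := by
    intro d hd e he
    have h := hall _ (mul_mem hd he)
    rw [show u * (d * e) * u⁻¹ = u * d * u⁻¹ * (u * e * u⁻¹) by group, hall d hd, hall e he, mul_inv_rev] at h
    have := congrArg (·⁻¹) h
    simp only [mul_inv_rev, inv_inv] at this
    exact this.symm
  -- an element of order seven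
  have x7 : x ^ 7 = 1 := by
    have h2 : w * w * x * (w * w)⁻¹ = x ^ 4 := by
      calc w * w * x * (w * w)⁻¹ = (w * (w * x * w⁻¹) * w⁻¹) := by group
        _ = w * (x * x) * w⁻¹ := by rw [hwx]
        _ = w * x * w⁻¹ * (w * x * w⁻¹) := by group
        _ = x ^ 4 := by rw [hwx]; simp only [pow_succ, pow_zero, one_mul, mul_assoc]
    have h3 : x ^ 8 = x := by
      calc x ^ 8 = (w * x * w⁻¹) ^ 4 := by rw [hwx, ← pow_two, ← pow_mul]
        _ = w * x ^ 4 * w⁻¹ := conj_pow
        _ = w * w * w * x * (w * w * w)⁻¹ := by rw [← h2]; group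
        _ = x := by rw [hw3]; group
    exact mul_left_cancel (a := x) (by rw [← pow_succ', mul_one]; exact h3)
  haveI : Fact (Nat.Prime 7) := ⟨by norm_num⟩
  let P₀ : Sylow 7 D := default
  set P₁ := ((P₀ : Subgroup D).map D.subtype).subgroupOf M with hP₁
  have hP₁M : (P₀ : Subgroup D).map D.subtype ≤ M := (Subgroup.map_subtype_le _).trans inf_le_left
  have hP₁p : IsPGroup 7 P₁ := (P₀.isPGroup'.map D.subtype).comap_subtype
  have hidx : ¬ 7 ∣ P₁.index := by
    intro h
    have hmul : P₁.index = (P₀ : Subgroup D).index * D.relIndex M := by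
      show Subgroup.relIndex _ M = _
      rw [← Subgroup.relIndex_mul_relIndex _ D M (Subgroup.map_subtype_le _) inf_le_left]
      congr 1
      exact congrArg Subgroup.index (Subgroup.comap_map_eq_self_of_injective D.subtype_injective _)
    rw [hmul] at h
    rcases (Nat.Prime.dvd_mul (by norm_num)).1 h with h | h
    · exact P₀.not_dvd_index h
    · have hm := Subgroup.card_mul_index (D.subgroupOf M)
      rw [Nat.card_congr (Subgroup.subgroupOfEquivOfLe (inf_le_left : D ≤ M)).toEquiv, hDcard, hcardM,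
        mul_comm] at hm
      have h2 : D.relIndex M = 2 ^ a := Nat.eq_of_mul_eq_mul_right hpos hm
      rw [h2] at h
      exact absurd ((Nat.prime_seven.dvd_of_dvd_pow h)) (by norm_num)
  let S := hP₁p.toSylow hidx
  have hxp : IsPGroup 7 (Subgroup.zpowers (⟨x, hx⟩ : M)) := by
    refine IsPGroup.of_card (n := 1) ?_
    rw [Nat.card_zpowers, pow_one]
    exact orderOf_eq_prime (Subtype.ext (by rw [SubgroupClass.coe_pow]; exact x7)) fun e => x1 (congrArg Subtype.val e)
  obtain ⟨S', hS'⟩ := hxp.exists_le_sylow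
  obtain ⟨m, hm⟩ := MulAction.exists_smul_eq M S' S
  have hxD : (m : Q) * x * (m : Q)⁻¹ ∈ D := by
    have : m * ⟨x, hx⟩ * m⁻¹ ∈ (S : Subgroup M) := by
      rw [← hm, Sylow.coe_subgroup_smul]
      exact ⟨⟨x, hx⟩, hS' (Subgroup.mem_zpowers _), rfl⟩
    obtain ⟨d, -, hd⟩ := Subgroup.mem_subgroupOf.1 (this : m * ⟨x, hx⟩ * m⁻¹ ∈ P₁)
    have e : ((d : D) : Q) = (m : Q) * x * (m : Q)⁻¹ := hd
    exact e ▸ d.2
  set C' := Subgroup.centralizer ({(⟨x, hx⟩ : M)} : Set M) with hC'
  set x' := (m : Q) * x * (m : Q)⁻¹ with hx'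
  have hindex : C'.index ∣ 2 ^ a := by
    have hDC : (D.subgroupOf M).map (MulAut.conj m⁻¹).toMonoidHom ≤ C' := by
      rintro _ ⟨d, hd, rfl⟩
      refine Subgroup.mem_centralizer_singleton_iff.2 (Subtype.ext ?_)
      have := (hab _ (Subgroup.mem_subgroupOf.1 hd) _ hxD).map (MulAut.conj ((m : Q)⁻¹))
      rw [MulAut.conj_apply, MulAut.conj_apply, hx', inv_inv,
        show (m : Q)⁻¹ * ((m : Q) * x * (m : Q)⁻¹) * m = x by group] at this
      simpa using this.eq
    refine (Subgroup.index_dvd_of_le hDC).trans (dvd_of_eq ?_)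
    refine (Subgroup.index_map_equiv (D.subgroupOf M) (MulAut.conj m⁻¹)).trans ?_
    have hm := Subgroup.card_mul_index (D.subgroupOf M)
    rw [Nat.card_congr (Subgroup.subgroupOfEquivOfLe (inf_le_left : D ≤ M)).toEquiv, hDcard, hcardM,
      mul_comm] at hm
    exact Nat.eq_of_mul_eq_mul_right hpos hm
  set w' : M := ⟨w, hw⟩
  have hwN : w' ∈ Subgroup.normalizer (C' : Set M) := by
    refine Subgroup.mem_normalizer_iff.2 fun g => ?_
    simp only [hC', Subgroup.mem_centralizer_singleton_iff, Subtype.ext_iff, Subgroup.coe_mul, Subgroup.coe_inv]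
    constructor
    · intro h
      have hg : Commute ((w' : M) : Q) 1 := Commute.one_right _
      have h1 : Commute (w * (g : Q) * w⁻¹) (x ^ 2) := by
        rw [pow_two, ← hwx]
        exact (show Commute (g : Q) x from h).map (MulAut.conj w)
      have := h1.pow_right 4
      rwa [← pow_mul, pow_succ, x7, one_mul] at this
    · intro h
      have h1 : Commute (w * (g : Q) * w⁻¹) (w * x * w⁻¹) := by
        rw [hwx]; exact (show Commute (w * (g : Q) * w⁻¹) x from h).mul_right h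
      have := h1.map (MulAut.conj w⁻¹)
      simp only [MulAut.conj_apply, inv_inv] at this
      rwa [show w⁻¹ * (w * (g : Q) * w⁻¹) * w = g by group, show w⁻¹ * (w * x * w⁻¹) * w = x by group] at this
  set N := Subgroup.normalizer (C' : Set M)
  haveI : (C'.subgroupOf N).Normal := Subgroup.normal_in_normalizer
  set wb : N ⧸ C'.subgroupOf N := QuotientGroup.mk ⟨w', hwN⟩
  have ho3 : orderOf wb ∣ 3 := orderOf_dvd_of_pow_eq_one (by
    rw [← QuotientGroup.mk_pow, QuotientGroup.eq_one_iff, Subgroup.mem_subgroupOf, SubgroupClass.coe_pow,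
      show (w' : M) ^ 3 = 1 from Subtype.ext (by
        rw [SubgroupClass.coe_pow]; simp only [pow_succ, pow_zero, one_mul]; exact hw3)]
    exact one_mem _)
  have ho2 : orderOf wb ∣ 2 ^ a := (orderOf_dvd_natCard wb).trans
    ((dvd_of_eq (Subgroup.index_eq_card _).symm).trans
      ((Subgroup.relIndex_dvd_index_of_le Subgroup.le_normalizer).trans hindex))
  have h1 : orderOf wb = 1 := Nat.eq_one_of_dvd_coprimes (Nat.Coprime.pow_right a (by norm_num : Nat.Coprime 3 2)) ho3 ho2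
  have hwC : w' ∈ C' := by
    have := orderOf_eq_one_iff.1 h1
    rwa [QuotientGroup.eq_one_iff, Subgroup.mem_subgroupOf] at this
  have e : w * x = x * w := congrArg Subtype.val (Subgroup.mem_centralizer_singleton_iff.1 hwC)
  rw [mul_inv_eq_iff_eq_mul, e] at hwx
  exact x1 (mul_eq_left.1 (mul_right_cancel hwx).symm)

end Cfsg.Agent.Spor.TranCent
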