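import Cfsg.Agent.Lib.Spor.TranCent.RepThree
import Cfsg.Agent.Lib.Spor.TranCent.Strong

/-!
The centraliser of the four group lies in a controlling subgroup.
-/

set_option autoImplicit false
set_option linter.style.haveILetI false
set_option maxRecDepth 100000

namespace Cfsg.Agent.Spor.TranCent

attribute [local irreducible] mulc clsOf

variable {G : Type*} [Group G] {z : G} {F : Fr G z} {fs : List ℕ}

theorem single_unique : ([fsMathieu, fsLinear].all fun fs => fz fs singleC &&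
    vList.all fun v => !(fz fs (mulc singleC v)) || eqv v onec) = true := by decide +kernel

theorem single_facts : (inL sList singleC && eqv (mulc kCode singleC) (mulc singleC kCode) &&
    inL sList kCode && inL sList tc && inL sList mC && eqv (mulc kCode mC) (mulc mC kCode) &&
    !(inL vList tc)) = true := by decide +kernel

variable [Finite G]

theorem Fr.four_mem (F : Fr G z) {v : ℕ} (hv : v ∈ vList) : F.el v ∈ F.fourSub := ⟨v, hv, rfl⟩

theorem Fr.four_spec (F : Fr G z) {v : G} (hv : v ∈ F.fourSub) :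
    v * v = 1 ∧ Commute v z ∧ ∀ g ∈ F.wSub, Commute v g := by
  obtain ⟨x, hx, rfl⟩ := hv
  have hc := vList_closed
  simp only [Bool.and_eq_true, List.all_eq_true, eqv_iff] at hc
  refine ⟨by rw [← F.el_mul (vList_els x hx) (vList_els x hx), hc.1.2 x hx, F.el_one],
    F.el_comm (vList_els x hx), fun g hg => ?_⟩
  obtain ⟨gm, gk⟩ := F.mem_wSub.1 hg
  simp only [vList, List.mem_cons, List.not_mem_nil, or_false] at hx
  rcases hx with rfl | rfl | rfl | rfl
  · rw [F.el_one]; exact Commute.one_left g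
  · exact gm.symm
  · exact gk.symm
  · rw [F.el_mul kCode_mem.1 mC_mem]; exact gk.symm.mul_left gm.symm

theorem Fr.four_le (F : Fr G z) : F.fourSub ≤ F.swSub := by
  rintro _ ⟨x, hx, rfl⟩
  have hf := single_facts
  simp only [Bool.and_eq_true, inL_iff, eqv_iff] at hf
  obtain ⟨⟨⟨⟨⟨⟨-, -⟩, hk⟩, -⟩, hm⟩, hkm⟩, -⟩ := hf
  have key : ∀ y ∈ sList, mulc kCode y = mulc y kCode → F.el y ∈ F.swSub := fun y hy h =>
    Subgroup.mem_inf.2 ⟨F.mem_sSub.2 ⟨y, hy, rfl⟩,
      Subgroup.mem_centralizer_singleton_iff.2 ((F.comm_iff kCode_mem.1 (mem_sList.1 hy).1).2 h).eq⟩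
  have h1 : F.el kCode ∈ F.swSub := key _ hk rfl
  have h2 : F.el mC ∈ F.swSub := key _ hm hkm
  simp only [vList, List.mem_cons, List.not_mem_nil, or_false] at hx
  rcases hx with rfl | rfl | rfl | rfl
  · rw [F.el_one]; exact one_mem _
  · exact h2
  · exact h1
  · rw [F.el_mul kCode_mem.1 mC_mem]; exact mul_mem h1 h2

theorem Fr.swSub_le (F : Fr G z) (D : Ctrl F fs) : F.swSub ≤ F.wSub ⊓ D.H := fun _ hg => by
  obtain ⟨h1, h2⟩ := Subgroup.mem_inf.1 hg
  obtain ⟨h3, h4⟩ := Subgroup.mem_inf.1 h1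
  exact ⟨⟨h4, h2⟩, D.cent_le _ (Subgroup.mem_centralizer_singleton_iff.1 h3)⟩

theorem Fr.z_mem_w (F : Fr G z) : z ∈ F.wSub :=
  F.mem_wSub.2 ⟨(F.rep_comm (by norm_num)).symm, (F.el_comm kCode_mem.1).symm⟩

theorem Fr.z_not_four (F : Fr G z) : z ∉ F.fourSub := by
  rintro ⟨x, hx, e⟩
  have hf := single_facts
  simp only [Bool.and_eq_true, Bool.not_eq_true', ← Bool.not_eq_true, inL_iff] at hf
  exact hf.2 (F.el_inj (vList_els x hx) tc_mem (e.trans F.el_tc.symm) ▸ hx)

theorem Fr.swSub_two (F : Fr G z) : IsPGroup 2 F.swSub :=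
  IsPGroup.of_card (n := 8) (by rw [F.card_swSub]; norm_num)

/-- an involution modulo the four group has a lift conjugate to `z` -/
theorem Ctrl.fused_lift (D : Ctrl F fs) (ok : FsOK fs) {t : G} (htW : t ∈ F.wSub) (htH : t ∈ D.H)
    (ht2 : t * t ∈ F.fourSub) (ht : t ∉ F.fourSub) : ∃ v ∈ F.fourSub, IsConj (t * v) z := by
  have hU : IsPGroup 2 (Subgroup.zpowers t) := by
    obtain ⟨j, -, hj⟩ := (Nat.dvd_prime_pow Nat.prime_two).1 (orderOf_dvd_of_pow_eq_one (show t ^ (2 ^ 2) = 1 by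
      rw [show (2 : ℕ) ^ 2 = 2 * 2 from rfl, pow_mul, pow_two t, pow_two, (F.four_spec ht2).1]))
    exact IsPGroup.of_card (n := j) (by rw [Nat.card_zpowers, hj])
  obtain ⟨y, hy, hyU⟩ := exists_conj_mem (F.swSub_le D) F.swSub_two
    (fun P hP hp hS => D.swSub_max ok P (hP.trans inf_le_left) hp hS)
    (Subgroup.zpowers_le.2 (Subgroup.mem_inf.2 ⟨htW, htH⟩)) hU
  obtain ⟨hyW, -⟩ := Subgroup.mem_inf.1 hy
  have hfix : ∀ v ∈ F.fourSub, y * v * y⁻¹ = v :=
    fun v hv => mul_inv_eq_iff_eq_mul.2 ((F.four_spec hv).2.2 y hyW).eq.symm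
  obtain ⟨h1, h2⟩ := Subgroup.mem_inf.1 (hyU t (Subgroup.mem_zpowers _))
  obtain ⟨x, hx, ex⟩ := F.mem_sSub.1 h1
  obtain ⟨hxe, -⟩ := mem_sList.1 hx
  have hk : mulc kCode x = mulc x kCode := (F.comm_iff kCode_mem.1 hxe).1
    (ex ▸ Subgroup.mem_centralizer_singleton_iff.1 h2)
  have hxv : x ∉ vList := fun h => ht (by
    have hm : y * t * y⁻¹ ∈ F.fourSub := ⟨x, h, ex⟩
    rwa [show t = y * t * y⁻¹ from mul_left_cancel (a := y) (by
      have e := hfix _ hm
      rw [mul_inv_eq_iff_eq_mul] at e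
      rw [e, inv_mul_cancel_right])])
  have hx2 : mulc x x ∈ vList := by
    obtain ⟨w, hw, ew⟩ := ht2
    rw [F.el_inj (mulc_mem hxe hxe) (vList_els w hw) ?_]; exact hw
    rw [F.el_mul hxe hxe, ex, show y * t * y⁻¹ * (y * t * y⁻¹) = y * (t * t) * y⁻¹ by group, ← ew,
      hfix _ (F.four_mem hw)]
  have h := List.all_eq_true.mp three_four x hx
  simp only [Bool.or_eq_true, Bool.not_eq_true', List.all_eq_true, List.any_eq_true, inL_iff,
    ← Bool.not_eq_true, eqv_iff] at h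
  rcases h with ((h | h) | h) | h
  · exact absurd hk h
  · exact absurd h hxv
  · exact absurd hx2 h
  · obtain ⟨v, hv, hvz⟩ := h fs ok.mem
    refine ⟨F.el v, F.four_mem hv,
      (isConj_iff.2 ⟨y, ?_⟩ : IsConj _ (F.el (mulc x v))).trans (D.el_fused ok (mulc_mem hxe (vList_els v hv)) hvz)⟩
    rw [F.el_mul hxe (vList_els v hv), ex, show y * (t * F.el v) * y⁻¹ = y * t * y⁻¹ * (y * F.el v * y⁻¹) by group,
      hfix _ (F.four_mem hv)]

theorem Ctrl.four_le (D : Ctrl F fs) : F.fourSub ≤ D.H :=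
  fun _ hv => (Subgroup.mem_inf.1 (F.swSub_le D (F.four_le hv))).2

/-- with a coset having a single fused element -/
theorem Ctrl.four_single (D : Ctrl F fs) (ok : FsOK fs) (hfs : fs = fsMathieu ∨ fs = fsLinear) :
    F.wSub ≤ D.H := by
  intro x hxW
  have hsu := List.all_eq_true.mp single_unique fs (by simpa using hfs)
  simp only [Bool.and_eq_true, List.all_eq_true, Bool.or_eq_true, Bool.not_eq_true', ← Bool.not_eq_true,
    eqv_iff] at hsu
  obtain ⟨hsf, huniq⟩ := hsu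
  have hf := single_facts
  simp only [Bool.and_eq_true, inL_iff, eqv_iff] at hf
  obtain ⟨hse, hsm⟩ := mem_sList.1 hf.1.1.1.1.1.1
  have hsk := hf.1.1.1.1.1.2
  set τ := F.el singleC
  have hτz : IsConj τ z := D.el_fused ok hse hsf
  have hτH : τ ∈ D.H := D.cent_le _ (F.el_comm hse)
  have hτW : τ ∈ F.wSub :=
    F.mem_wSub.2 ⟨(F.comm_iff mC_mem hse).2 hsm, (F.comm_iff kCode_mem.1 hse).2 hsk⟩
  set b := x * τ * x⁻¹ with hb
  have hbW : b ∈ F.wSub := mul_mem (mul_mem hxW hτW) (inv_mem hxW)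
  have b2 : b * b = 1 := by
    rw [hb, ← MulAut.conj_apply, ← map_mul, (F.isConj_z_sq hτz).1, map_one]
  suffices hbH : b ∈ D.H from D.of_conj hτH hτz hbH
  have hxfix : ∀ v ∈ F.fourSub, x * v * x⁻¹ = v :=
    fun v hv => mul_inv_eq_iff_eq_mul.2 ((F.four_spec hv).2.2 x hxW).eq.symm
  rcases dihedral_mod F.fourSub F.z_sq b2 (fun v hv => ⟨(F.four_spec hv).2.1, (F.four_spec hv).2.2 b hbW,
    (F.four_spec hv).1⟩) with ⟨v, hv, g, hgV, he⟩ | ⟨c, hcV, hc2, hcV', hac, hbc, -⟩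
  · exfalso
    have hone : ∀ u ∈ F.fourSub, IsConj (b * u) z → u = 1 := by
      intro u hu hc
      obtain ⟨w, hw, rfl⟩ := id hu
      have : IsConj (F.el (mulc singleC w)) z := by
        refine (isConj_iff.2 ⟨x, ?_⟩ : IsConj _ (b * F.el w)).trans hc
        rw [F.el_mul hse (vList_els w hw), hb]
        show x * (τ * F.el w) * x⁻¹ = x * τ * x⁻¹ * F.el w
        nth_rewrite 2 [← hxfix _ hu]
        group
      rcases huniq w hw with h | h
      · exact absurd ((D.fz_iff ok.lt (mulc_mem hse (vList_els w hw))).2 this) h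
      · rw [h, F.el_one]
    have h1 : v = 1 := hone v hv ((isConj_iff.2 ⟨g, he⟩ : IsConj z (b * v)).symm)
    have hkV : F.el kCode ∈ F.fourSub := F.four_mem (by simp [vList])
    have hzk : IsConj (z * F.el kCode) z := by
      have := (fs_facts ok).2.1
      rw [fzBoth, Bool.and_eq_true] at this
      have h := D.el_fused ok (mulc_mem kCode_mem.1 tc_mem) this.1
      rwa [F.el_mul kCode_mem.1 tc_mem, F.el_tc, (F.el_comm kCode_mem.1).eq] at h
    have hk1 : F.el kCode = 1 := by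
      refine hone _ hkV ((isConj_iff.2 ⟨g, ?_⟩ : IsConj (z * F.el kCode) (b * F.el kCode)).symm.trans hzk)
      rw [show g * (z * F.el kCode) * g⁻¹ = g * z * g⁻¹ * (g * F.el kCode * g⁻¹) by group, he, h1, mul_one,
        mul_inv_eq_iff_eq_mul.2 (hgV _ hkV).eq.symm]
    exact F.el_ne_one kCode_mem.1 (fun e => k_facts.2.1 (by rw [e]; exact List.mem_cons_self)) hk1
  · have hcW : c ∈ F.wSub :=
      F.mem_wSub.2 ⟨(hcV' _ (F.four_mem (v := mC) (by simp [vList]))).symm,
        (hcV' _ (F.four_mem (v := kCode) (by simp [vList]))).symm⟩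
    have hcH : c ∈ D.H := by
      refine D.fix_unique ?_
      rw [show c * z * c⁻¹ = c * c * z by
        calc c * z * c⁻¹ = c * (z * c⁻¹ * z⁻¹) * z := by group
          _ = c * c * z := by rw [show z * c⁻¹ * z⁻¹ = (z * c * z⁻¹)⁻¹ by group, hac, inv_inv]]
      exact mul_mem (D.four_le hc2) D.z_mem
    obtain ⟨v, hv, hcv⟩ := D.fused_lift ok hcW hcH hc2 hcV
    refine D.of_conj (mul_mem hcH (D.four_le hv)) hcv ?_
    rw [show b * (c * v) * b⁻¹ = b * c * b⁻¹ * (b * v * b⁻¹) by group, hbc,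
      mul_inv_eq_iff_eq_mul.2 ((F.four_spec hv).2.2 b hbW).eq.symm]
    exact mul_mem (inv_mem hcH) (D.four_le hv)

/-- with an element squared by another one of order three -/
theorem Ctrl.four_seven (D : Ctrl F fs) (ok : FsOK fs) {x w : G} (hxW : x ∈ F.wSub) (hxH : x ∈ D.H)
    (hwW : w ∈ F.wSub) (hwH : w ∈ D.H) (hxV : x ∉ F.fourSub) (hwx : w * x * w⁻¹ = x * x)
    (hw3 : w * w * w = 1) : F.wSub ≤ D.H := by
  haveI : Fact (Nat.Prime 2) := ⟨Nat.prime_two⟩
  set W := F.wSub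
  set V := F.fourSub.subgroupOf W
  haveI : V.Normal := ⟨fun v hv g => by
    rw [Subgroup.mem_subgroupOf] at hv ⊢
    simp only [Subgroup.coe_mul, Subgroup.coe_inv]
    rwa [mul_inv_eq_iff_eq_mul.2 ((F.four_spec hv).2.2 _ g.2).eq.symm]⟩
  set π := QuotientGroup.mk' V
  set M := (D.H.subgroupOf W).map π with hMdef
  have hker : ∀ {a b : W}, π a = π b → (a : G)⁻¹ * b ∈ F.fourSub := fun h =>
    Subgroup.mem_subgroupOf.1 (QuotientGroup.eq.1 h)
  have hmem : ∀ g : W, π g ∈ M ↔ (g : G) ∈ D.H := by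
    refine fun g => ⟨fun h => ?_, fun h => ⟨g, h, rfl⟩⟩
    obtain ⟨a, ha, e⟩ := h
    have := mul_mem (Subgroup.mem_subgroupOf.1 ha) (D.four_le (hker e))
    rwa [mul_inv_cancel_left] at this
  have hone : ∀ {g : W}, π g = 1 ↔ (g : G) ∈ F.fourSub :=
    ⟨fun h => Subgroup.mem_subgroupOf.1 ((QuotientGroup.eq_one_iff _).1 h),
      fun h => (QuotientGroup.eq_one_iff _).2 (Subgroup.mem_subgroupOf.2 h)⟩
  set zW : W := ⟨z, F.z_mem_w⟩
  have hcomm : ∀ {g t : W}, Commute (π g) (π t) → ∃ v ∈ F.fourSub, (g : G) * t * (g : G)⁻¹ = t * v := by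
    intro g t h
    have e : π t = π (g * t * g⁻¹) := by
      rw [map_mul, map_mul, h.eq, ← map_mul, ← map_mul, mul_inv_cancel_right]
    exact ⟨_, hker e, by simp only [Subgroup.coe_mul, Subgroup.coe_inv]; group⟩
  have hC : IsPGroup 2 (Subgroup.centralizer ({π zW} : Set (W ⧸ V))) := by
    rintro ⟨q, hq⟩
    obtain ⟨g, rfl⟩ := QuotientGroup.mk'_surjective V q
    obtain ⟨v, hv, e⟩ := hcomm (g := g) (t := zW) (Subgroup.mem_centralizer_singleton_iff.1 hq)
    have hgg : (g : G) * g ∈ F.swSub := by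
      obtain ⟨gm, gk⟩ := F.mem_wSub.1 g.2
      refine Subgroup.mem_inf.2 ⟨Subgroup.mem_inf.2 ⟨Subgroup.mem_centralizer_singleton_iff.2 ?_,
        Subgroup.mem_centralizer_singleton_iff.2 (gm.mul_left gm).eq⟩,
        Subgroup.mem_centralizer_singleton_iff.2 (gk.mul_left gk).eq⟩
      refine mul_inv_eq_iff_eq_mul.1 ?_
      calc (g : G) * g * z * ((g : G) * g)⁻¹ = g * (g * z * (g : G)⁻¹) * (g : G)⁻¹ := by group
        _ = g * (z * v) * (g : G)⁻¹ := by rw [e]
        _ = (g * z * (g : G)⁻¹) * (g * v * (g : G)⁻¹) := by group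
        _ = z := by rw [e, mul_inv_eq_iff_eq_mul.2 ((F.four_spec hv).2.2 _ g.2).eq.symm, mul_assoc,
          (F.four_spec hv).1, mul_one]
    obtain ⟨n, hn⟩ := F.swSub_two ⟨_, hgg⟩
    refine ⟨n + 1, Subtype.ext ?_⟩
    have hg : g ^ 2 ^ (n + 1) = 1 := Subtype.ext (by
      rw [SubgroupClass.coe_pow, pow_succ', pow_mul, pow_two]
      exact congrArg Subtype.val hn)
    show (π g) ^ 2 ^ (n + 1) = 1
    rw [← map_pow, hg, map_one]
  have hodd : ¬ 2 ∣ (Subgroup.centralizer ({π zW} : Set (W ⧸ V))).relIndex M := by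
    set S := F.swSub.subgroupOf W
    have hSH : S ≤ D.H.subgroupOf W := fun g hg =>
      Subgroup.mem_subgroupOf.2 (Subgroup.mem_inf.1 (F.swSub_le D (Subgroup.mem_subgroupOf.1 hg))).2
    have hSC : S.map π ≤ Subgroup.centralizer ({π zW} : Set (W ⧸ V)) := by
      rintro _ ⟨g, hg, rfl⟩
      refine Subgroup.mem_centralizer_singleton_iff.2 ?_
      rw [← map_mul, ← map_mul]
      exact congrArg π (Subtype.ext (Subgroup.mem_centralizer_singleton_iff.1
        (Subgroup.mem_inf.1 (Subgroup.mem_inf.1 (Subgroup.mem_subgroupOf.1 hg)).1).1))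
    have hVS : π.ker ≤ S := fun g hg => by
      rw [QuotientGroup.ker_mk'] at hg
      exact Subgroup.mem_subgroupOf.2 (F.four_le (Subgroup.mem_subgroupOf.1 hg))
    intro hd
    have hd2 := hd.trans (Subgroup.relIndex_dvd_of_le_left M hSC)
    rw [Subgroup.relIndex_map_map, sup_of_le_left hVS, sup_of_le_left (hVS.trans hSH)] at hd2
    have hSp : IsPGroup 2 (S.subgroupOf (D.H.subgroupOf W)) :=
      (F.swSub_two.comap_subtype (K := W)).comap_subtype
    obtain ⟨P, hP⟩ := hSp.exists_le_sylow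
    have hPS : (P : Subgroup (D.H.subgroupOf W)) = S.subgroupOf (D.H.subgroupOf W) := by
      refine le_antisymm (fun g hg => ?_) hP
      have key := D.swSub_max ok
        (((P : Subgroup (D.H.subgroupOf W)).map (D.H.subgroupOf W).subtype).map W.subtype)
        (Subgroup.map_subtype_le _) ((P.isPGroup'.map _).map _) (fun s hs => ?_)
      · rw [Subgroup.mem_subgroupOf, Subgroup.mem_subgroupOf, ← key]
        exact ⟨_, ⟨g, hg, rfl⟩, rfl⟩
      · obtain ⟨hsW, -⟩ := Subgroup.mem_inf.1 (F.swSub_le D hs)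
        have hsS : (⟨s, hsW⟩ : W) ∈ S := Subgroup.mem_subgroupOf.2 hs
        exact ⟨⟨s, hsW⟩, ⟨⟨⟨s, hsW⟩, hSH hsS⟩, hP (Subgroup.mem_subgroupOf.2 hsS), rfl⟩, rfl⟩
    exact P.not_dvd_index (by rw [hPS]; exact hd2)
  have htop := strong_top (Q := W ⧸ V) M (z := π zW) ((hmem zW).2 D.z_mem) (by
      rw [← map_mul, hone]
      show z * z ∈ F.fourSub
      rw [F.z_sq]; exact one_mem _)
    (fun q hq => by
      obtain ⟨g, rfl⟩ := QuotientGroup.mk'_surjective V q
      rw [← map_inv, ← map_mul, ← map_mul, hmem] at hq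
      exact (hmem g).2 (D.fix_unique hq))
    (fun q hq q2 q1 r hr => by
      obtain ⟨t, rfl⟩ := QuotientGroup.mk'_surjective V q
      obtain ⟨g, rfl⟩ := QuotientGroup.mk'_surjective V r
      rw [← map_mul, hone] at q2
      have htH := (hmem t).1 hq
      obtain ⟨v, hv, hvz⟩ := D.fused_lift ok t.2 htH q2 (fun h => q1 (hone.2 h))
      obtain ⟨u, hu, e⟩ := hcomm hr
      refine (hmem g).2 (D.of_conj (mul_mem htH (D.four_le hv)) hvz ?_)
      rw [show (g : G) * (t * v) * (g : G)⁻¹ = g * t * (g : G)⁻¹ * (g * v * (g : G)⁻¹) by group, e,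
        mul_inv_eq_iff_eq_mul.2 ((F.four_spec hv).2.2 _ g.2).eq.symm]
      exact mul_mem (mul_mem htH (D.four_le hu)) (D.four_le hv))
    hC hodd (x := π ⟨x, hxW⟩) (w := π ⟨w, hwW⟩) ((hmem _).2 hxH) ((hmem _).2 hwH) (fun h => hxV (hone.1 h))
    (by rw [← map_inv, ← map_mul, ← map_mul, ← map_mul]; exact congrArg π (Subtype.ext hwx))
    (by rw [← map_mul, ← map_mul, ← map_one π]; exact congrArg π (Subtype.ext hw3))
  intro g hg
  exact (hmem ⟨g, hg⟩).1 (by rw [htop]; trivial)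

end Cfsg.Agent.Spor.TranCent
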