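import Cfsg.Agent.Lib.Spor.TranCent.Cover

/-!
The target groups map into a group satisfying the same relators.
-/

set_option autoImplicit false
set_option linter.style.haveILetI false
set_option maxRecDepth 100000

namespace Cfsg.Agent.Spor.TranCent

variable {G : Type*} [Group G] {T : Type*} [Group T]

/-- a pair of letter maps -/
def pairMap (m : ℕ → G) (f : ℕ → T) (j : ℕ) : G × T := (m j, f j)

theorem prod_pairMap (m : ℕ → G) (f : ℕ → T) (w : List ℕ) :
    (w.map (pairMap m f)).prod = ((w.map m).prod, (w.map f).prod) := by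
  induction w with
  | nil => rfl
  | cons j w ih => simp only [List.map_cons, List.prod_cons, ih]; rfl

theorem pairMap_inv7 {m : ℕ → G} {f : ℕ → T} (hm : Inv7 m) (hf : Inv7 f) : Inv7 (pairMap m f) :=
  ⟨fun j => Prod.ext (hm.sq j) (hf.sq j), fun j hj => Prod.ext (hm.high j hj) (hf.high j hj)⟩

theorem pairMap_sat {m : ℕ → G} {f : ℕ → T} {R : List (List ℕ)} (hm : Sat m R) (hf : Sat f R) :
    Sat (pairMap m f) R := fun r hr => by rw [prod_pairMap, hm r hr, hf r hr]; rfl

theorem wordsSub_map {M N : Type*} [Group M] [Group N] (φ : M →* N) {f : ℕ → M} {g : ℕ → N}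
    (h : ∀ j, φ (f j) = g j) (ks : List ℕ) : (wordsSub f ks).map φ = wordsSub g ks := by
  rw [wordsSub, MonoidHom.map_closure, ← Set.image_comp, wordsSub]
  exact congrArg Subgroup.closure (Set.image_congr fun j _ => h j)

theorem word_mem_wordsSub (f : ℕ → G) {ks : List ℕ} {w : List ℕ} (hw : ∀ j ∈ w, j ∈ ks) :
    (w.map f).prod ∈ wordsSub f ks :=
  list_prod_mem fun x hx => by
    obtain ⟨j, hj, rfl⟩ := List.mem_map.1 hx
    exact Subgroup.subset_closure ⟨j, hw j hj, rfl⟩

/-- a target whose order bounds the group of pairs maps onto the generated subgroup -/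
theorem exists_model [Finite G] [Finite T] {m : ℕ → G} {f : ℕ → T} {ks : List ℕ}
    (hks : ∀ j, j ∉ ks → f j = 1 ∧ m j = 1) (hgen : wordsSub f ks = ⊤)
    (hcard : Nat.card (wordsSub (pairMap m f) ks) ≤ Nat.card T) :
    ∃ φ : T →* G, (∀ j, φ (f j) = m j) ∧ φ.range = wordsSub m ks := by
  set K := wordsSub (pairMap m f) ks
  set π : K →* T := (MonoidHom.snd G T).comp K.subtype
  have hmem : ∀ j, pairMap m f j ∈ K := fun j => by
    by_cases hj : j ∈ ks
    · exact Subgroup.subset_closure ⟨j, hj, rfl⟩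
    · rw [show pairMap m f j = 1 from Prod.ext (hks j hj).2 (hks j hj).1]; exact one_mem _
  have hsur : Function.Surjective π := by
    intro t
    have ht : t ∈ K.map (MonoidHom.snd G T) := by
      rw [wordsSub_map (g := f) (MonoidHom.snd G T) (fun j => rfl), hgen]; trivial
    obtain ⟨x, hx, rfl⟩ := Subgroup.mem_map.1 ht
    exact ⟨⟨x, hx⟩, rfl⟩
  have hbij : Function.Bijective π :=
    hsur.bijective_of_nat_card_le hcard
  set e := MulEquiv.ofBijective π hbij
  set φ := ((MonoidHom.fst G T).comp K.subtype).comp e.symm.toMonoidHom with hφ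
  have hv : ∀ j, φ (f j) = m j := by
    intro j
    have he : e.symm (f j) = ⟨pairMap m f j, hmem j⟩ := by
      rw [MulEquiv.symm_apply_eq]; rfl
    show (MonoidHom.fst G T) (K.subtype (e.symm (f j))) = m j
    rw [he]; rfl
  refine ⟨φ, hv, ?_⟩
  rw [MonoidHom.range_eq_map, ← hgen, wordsSub_map φ hv]

end Cfsg.Agent.Spor.TranCent
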