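import Cfsg.Agent.Lib.Spor.TranCent.RepThree

/-!
From the centraliser of the four group to the centraliser of the third representative.
-/

set_option autoImplicit false
set_option linter.style.haveILetI false
set_option maxRecDepth 100000

namespace Cfsg.Agent.Spor.TranCent

attribute [local irreducible] mulc clsOf

variable {G : Type*} [Group G] [Finite G] {z : G} {F : Fr G z} {fs : List ℕ}

omit [Finite G] in
theorem cm_conj {m c x : G} (hc : Commute c m) : c * (x * m) * c⁻¹ = c * x * c⁻¹ * m := by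
  rw [show c * (x * m) * c⁻¹ = c * x * c⁻¹ * (c * m * c⁻¹) by group,
    show c * m * c⁻¹ = m from mul_inv_eq_iff_eq_mul.2 hc.eq]

theorem Fr.el_pair (F : Fr G z) {v : G} (hv : v ∈ F.pairSub) : v = 1 ∨ v = F.rep 3 := by
  obtain ⟨x, hx, rfl⟩ := hv
  simp only [List.mem_cons, List.not_mem_nil, or_false] at hx
  rcases hx with rfl | rfl
  exacts [Or.inl F.el_one, Or.inr rfl]

/-- both elements of a coset of the third representative are conjugate to `z` -/
def Fr.BothC (F : Fr G z) (g : G) : Prop := IsConj g z ∧ IsConj (g * F.rep 3) z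

theorem Fr.BothC.conj (F : Fr G z) {g y : G} (h : F.BothC g) (hy : Commute y (F.rep 3)) :
    F.BothC (y * g * y⁻¹) :=
  ⟨(isConj_iff.2 ⟨y, rfl⟩ : IsConj g (y * g * y⁻¹)).symm.trans h.1,
    ((isConj_iff.2 ⟨y, cm_conj hy⟩ : IsConj (g * F.rep 3) (y * g * y⁻¹ * F.rep 3))).symm.trans h.2⟩

theorem Ctrl.fzBoth_iff (D : Ctrl F fs) (ok : FsOK fs) {x : ℕ} (hx : x ∈ els) :
    fzBoth fs x = true ↔ F.BothC (F.el x) := by
  rw [fzBoth, Bool.and_eq_true, D.fz_iff ok.lt hx, D.fz_iff ok.lt (mulc_mem hx mC_mem), F.el_mul hx mC_mem]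
  rfl

theorem Ctrl.fzSome_iff (D : Ctrl F fs) (ok : FsOK fs) {x : ℕ} (hx : x ∈ els) :
    fzSome fs x = true ↔ IsConj (F.el x) z ∨ IsConj (F.el x * F.rep 3) z := by
  rw [fzSome, Bool.or_eq_true, D.fz_iff ok.lt hx, D.fz_iff ok.lt (mulc_mem hx mC_mem), F.el_mul hx mC_mem]
  rfl

theorem Fr.z_rep_three (F : Fr G z) : Commute z (F.rep 3) := (F.rep_comm (by norm_num)).symm

theorem Fr.kEl_facts (F : Fr G z) : F.el kCode * F.el kCode = 1 ∧ Commute (F.el kCode) (F.rep 3) ∧
    Commute (F.el kCode) z := by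
  refine ⟨?_, ?_, F.el_comm kCode_mem.1⟩
  · rw [← F.el_mul kCode_mem.1 kCode_mem.1, k_facts.1, F.el_one]
  · exact (F.comm_iff mC_mem kCode_mem.1).2 kCode_mem.2

/-- the elements moving `k` only to its product with the representative -/
theorem Ctrl.stab_le (D : Ctrl F fs) (hW : F.wSub ≤ D.H) {y : G} (hy : Commute y (F.rep 3))
    (h : y * F.el kCode * y⁻¹ = F.el kCode ∨ y * F.el kCode * y⁻¹ = F.el kCode * F.rep 3) : y ∈ D.H := by
  rcases h with h | h
  · exact hW (F.mem_wSub.2 ⟨hy, mul_inv_eq_iff_eq_mul.1 h⟩)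
  · obtain ⟨-, -, -, hs, hs2, hsk, -⟩ := k_facts
    obtain ⟨hse, hsm⟩ := mem_sList.1 hs
    set s := F.el swapK
    have hsS : Commute s (F.rep 3) := (F.comm_iff mC_mem hse).2 hsm
    have si : s⁻¹ = s := inv_eq_of_mul_eq_one_right (by rw [← F.el_mul hse hse, hs2, F.el_one])
    have hk : s * F.el kCode * s⁻¹ = F.el kCode * F.rep 3 := by
      rw [si, ← F.el_mul hse kCode_mem.1, ← F.el_mul (mulc_mem hse kCode_mem.1) hse, hsk,
        F.el_mul kCode_mem.1 mC_mem]
      rfl
    have hw : s * y ∈ F.wSub := F.mem_wSub.2 ⟨hsS.mul_left hy, by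
      refine mul_inv_eq_iff_eq_mul.1 ?_
      rw [show s * y * F.el kCode * (s * y)⁻¹ = s * (y * F.el kCode * y⁻¹) * s⁻¹ by group, h, cm_conj hsS, hk,
        mul_assoc, F.rep_sq (by norm_num), mul_one]⟩
    have := mul_mem (D.cent_le s (F.el_comm hse)) (hW hw)
    rwa [← mul_assoc, ← F.el_mul hse hse, hs2, F.el_one, one_mul] at this

/-- the centraliser of a fused element with both lifts fused is a two-group -/
theorem Ctrl.two_power (D : Ctrl F fs) (hfs : ∀ i, i < 8 → i ∉ fs → i = 3 ∨ i = 5 ∨ i = 6 ∨ i = 7) {a g : G}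
    (ha : IsConj a z) (ham : Commute (F.rep 3) a) (hga : Commute g a) (hgm : Commute g (F.rep 3))
    (hm : ¬ IsConj (F.rep 3) z) : g ^ 16 = 1 := by
  obtain ⟨h, hh⟩ := isConj_iff.1 ha
  set m' := MulAut.conj h (F.rep 3)
  have hmz : Commute m' z := by
    have := ham.map (MulAut.conj h)
    rwa [MulAut.conj_apply h a, hh] at this
  obtain ⟨i, hi, c, hc, hci⟩ := F.exists_rep hmz (by rw [← map_mul, F.rep_sq (by norm_num), map_one])
    (fun e => F.rep_ne_one (i := 3) (by norm_num) ((MulAut.conj h).injective (e.trans (map_one _).symm)))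
  have hconj : IsConj (F.rep 3) (F.rep i) := isConj_iff.2 ⟨c * h, by
    rw [← hci]; show _ = c * (h * F.rep 3 * h⁻¹) * c⁻¹; group⟩
  have hifs : i ∉ fs := fun hi' => by
    obtain ⟨u, -, hu⟩ := D.fused i hi hi'
    exact hm (hconj.trans (isConj_iff.2 ⟨u, hu⟩))
  have g1 : Commute (MulAut.conj (c * h) g) z := by
    have := hga.map (MulAut.conj (c * h))
    rwa [show MulAut.conj (c * h) a = z by
      rw [map_mul, MulAut.mul_apply, MulAut.conj_apply h a, hh, MulAut.conj_apply]
      exact mul_inv_eq_iff_eq_mul.2 hc.eq] at this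
  have g2 : Commute (MulAut.conj (c * h) g) (F.rep i) := by
    have := hgm.map (MulAut.conj (c * h))
    rwa [show MulAut.conj (c * h) (F.rep 3) = F.rep i by rw [map_mul, MulAut.mul_apply]; exact hci] at this
  have := two_of_cent F (hfs i hi hifs) g1 g2
  rwa [← map_pow, MulEquiv.map_eq_one_iff] at this

theorem fsAll_compl {fs : List ℕ} (ok : FsOK fs) : ∀ i, i < 8 → i ∉ fs → i = 3 ∨ i = 5 ∨ i = 6 ∨ i = 7 := by
  have h : ∀ fs ∈ fsAll, ∀ i, i < 8 → i ∉ fs → i = 3 ∨ i = 5 ∨ i = 6 ∨ i = 7 := by decide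
  exact h fs ok.mem

/-- elements moving a fused element only inside its coset lie in the two-group -/
theorem Ctrl.stabA (D : Ctrl F fs) (ok : FsOK fs) {c : G} (hc : Commute c (F.rep 3))
    (hca : c * F.el (mulc kCode tc) * c⁻¹ = F.el (mulc kCode tc) ∨
      c * F.el (mulc kCode tc) * c⁻¹ = F.el (mulc kCode tc) * F.rep 3) : c ∈ F.sSub := by
  set a := F.el (mulc kCode tc) with ha
  have hke := mulc_mem kCode_mem.1 tc_mem
  have haz : IsConj a z := (((D.fzBoth_iff ok hke).1 (fs_facts ok).2.1)).1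
  obtain ⟨hk2, hkm, hkz⟩ := F.kEl_facts
  have hakz : a = F.el kCode * z := by rw [ha, F.el_mul kCode_mem.1 tc_mem, F.el_tc]
  have ham : Commute a (F.rep 3) := hakz ▸ hkm.mul_left F.z_rep_three
  have m2 : F.rep 3 * F.rep 3 = 1 := F.rep_sq (by norm_num)
  have hmn : ¬ IsConj (F.rep 3) z := D.el_not ok mC_mem (fs_facts ok).2.2.1
  let T : Subgroup G :=
    { carrier := {g | Commute g (F.rep 3) ∧ (g * a * g⁻¹ = a ∨ g * a * g⁻¹ = a * F.rep 3)}
      one_mem' := ⟨Commute.one_left _, Or.inl (by simp)⟩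
      mul_mem' := by
        rintro g h ⟨gm, hg⟩ ⟨hm, hh⟩
        refine ⟨gm.mul_left hm, ?_⟩
        rw [show g * h * a * (g * h)⁻¹ = g * (h * a * h⁻¹) * g⁻¹ by group]
        rcases hh with e | e <;> rw [e]
        · exact hg
        · rw [cm_conj gm]
          rcases hg with e' | e' <;> rw [e']
          · exact Or.inr rfl
          · exact Or.inl (by rw [mul_assoc, m2, mul_one])
      inv_mem' := by
        rintro g ⟨gm, hg⟩
        refine ⟨gm.inv_left, ?_⟩
        rw [inv_inv]
        rcases hg with e | e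
        · left
          conv_lhs => rw [← e]
          group
        · right
          have e2 : g⁻¹ * (a * F.rep 3) * g = a := by rw [← e]; group
          have e3 := cm_conj (x := a) gm.inv_left
          rw [inv_inv] at e3
          rw [e3] at e2
          calc g⁻¹ * a * g = g⁻¹ * a * g * F.rep 3 * F.rep 3 := by rw [mul_assoc _ (F.rep 3), m2, mul_one]
            _ = a * F.rep 3 := by rw [e2] }
  have hsq : ∀ g ∈ T, g ^ 32 = 1 := by
    rintro g ⟨gm, hg⟩
    have h2 : Commute (g * g) a := by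
      refine mul_inv_eq_iff_eq_mul.1 ?_
      rw [show g * g * a * (g * g)⁻¹ = g * (g * a * g⁻¹) * g⁻¹ by group]
      rcases hg with e | e <;> rw [e]
      · exact e
      · rw [cm_conj gm, e, mul_assoc, m2, mul_one]
    rw [show 32 = 2 * 16 from rfl, pow_mul, pow_two]
    exact D.two_power (fsAll_compl ok) haz ham.symm h2 (gm.mul_left gm) hmn
  have hp : IsPGroup 2 T := fun g => ⟨5, Subtype.ext (hsq g g.2)⟩
  have hST : F.sSub ≤ T := by
    intro u hu
    obtain ⟨s, hs, rfl⟩ := F.mem_sSub.1 hu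
    obtain ⟨hse, hsm⟩ := mem_sList.1 hs
    have hum : Commute (F.el s) (F.rep 3) := (F.comm_iff mC_mem hse).2 hsm
    refine ⟨hum, ?_⟩
    rw [hakz, show F.el s * (F.el kCode * z) * (F.el s)⁻¹ =
      F.el s * F.el kCode * (F.el s)⁻¹ * (F.el s * z * (F.el s)⁻¹) by group,
      show F.el s * z * (F.el s)⁻¹ = z from mul_inv_eq_iff_eq_mul.2 (F.el_comm hse).eq]
    rcases k_facts.2.2.2.2.2.2 s hs with e | e <;> have e := congrArg F.el e
    · left
      rw [F.el_mul hse kCode_mem.1, F.el_mul kCode_mem.1 hse] at e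
      rw [e, mul_inv_cancel_right]
    · right
      rw [F.el_mul hse kCode_mem.1, F.el_mul (mulc_mem kCode_mem.1 mC_mem) hse, F.el_mul kCode_mem.1 mC_mem] at e
      rw [e, mul_inv_cancel_right, mul_assoc, mul_assoc, show F.el mC * z = z * F.rep 3 from
        F.z_rep_three.eq.symm]
  have hTK : T ≤ Subgroup.centralizer ({F.rep 3} : Set G) :=
    fun g hg => Subgroup.mem_centralizer_singleton_iff.2 hg.1.eq
  rw [← D.sSub_max ok T hTK hp hST]
  exact ⟨hc, hca⟩

theorem Fr.sSub_le (F : Fr G z) (D : Ctrl F fs) : F.sSub ≤ D.H :=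
  fun g hg => D.cent_le g (Subgroup.mem_centralizer_singleton_iff.1 (Subgroup.mem_inf.1 hg).1)

/-- conjugates of `k` under the centraliser of the representative stay in the subgroup -/
theorem Ctrl.k_stays (D : Ctrl F fs) (ok : FsOK fs) (hW : F.wSub ≤ D.H) {x : G}
    (hx : Commute x (F.rep 3)) : x * F.el kCode * x⁻¹ ∈ D.H := by
  set a := F.el (mulc kCode tc) with ha
  set k := F.el kCode with hk
  set m := F.rep 3 with hm
  set b := x * k * x⁻¹ with hb
  obtain ⟨hk2, hkm, hkz⟩ := F.kEl_facts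
  have hke := mulc_mem kCode_mem.1 tc_mem
  have haB : F.BothC a := (D.fzBoth_iff ok hke).1 (fs_facts ok).2.1
  have hakz : a = k * z := by rw [ha, F.el_mul kCode_mem.1 tc_mem, F.el_tc]
  have ham : Commute a m := hakz ▸ hkm.mul_left F.z_rep_three
  have haH : a ∈ D.H := D.cent_le a (F.el_comm hke)
  have hmH : m ∈ D.H := D.cent_le m (F.rep_comm (by norm_num))
  have m2 : m * m = 1 := F.rep_sq (by norm_num)
  have mi : m⁻¹ = m := inv_eq_of_mul_eq_one_right m2
  have a2 : a * a = 1 := (F.isConj_z_sq haB.1).1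
  have ai : a⁻¹ = a := inv_eq_of_mul_eq_one_right a2
  have b2 : b * b = 1 := by rw [hb, ← MulAut.conj_apply, ← map_mul, hk2, map_one]
  have hbm : Commute b m := (hx.mul_left hkm).mul_left hx.inv_left
  have hV : ∀ v ∈ F.pairSub, Commute v a ∧ Commute v b ∧ v * v = 1 := by
    intro v hv
    rcases F.el_pair hv with rfl | rfl
    exacts [⟨Commute.one_left _, Commute.one_left _, one_mul 1⟩, ⟨ham.symm, hbm.symm, m2⟩]
  have m_mem : m ∈ F.pairSub := ⟨mC, List.mem_cons_of_mem _ List.mem_cons_self, rfl⟩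
  obtain ⟨-, -, -, hfk, hfkm, -, -, -⟩ := fs_facts ok
  rcases dihedral_mod F.pairSub a2 b2 hV with ⟨v, hv, g, -, he⟩ | ⟨c, hcV, hc2, hcV', hac, hbc, g, hgV, hg⟩
  · exfalso
    have h1 : IsConj (b * v) z := (isConj_iff.2 ⟨g, he⟩ : IsConj a (b * v)).symm.trans haB.1
    rcases F.el_pair hv with rfl | rfl
    · rw [mul_one] at h1
      exact D.el_not ok kCode_mem.1 hfk ((isConj_iff.2 ⟨x, rfl⟩ : IsConj k b).trans h1)
    · refine D.el_not ok (mulc_mem kCode_mem.1 mC_mem) hfkm
        ((isConj_iff.2 ⟨x, ?_⟩ : IsConj _ (b * m)).trans h1)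
      rw [F.el_mul kCode_mem.1 mC_mem, ← F.mEl, cm_conj hx]
  · have hcm : Commute c m := (hcV' m m_mem).symm
    -- `c` moves `a` only inside its coset
    have hcinv : c⁻¹ = c ∨ c⁻¹ = c * m := by
      rcases F.el_pair hc2 with e | e
      · exact Or.inl (inv_eq_of_mul_eq_one_right e)
      · exact Or.inr (inv_eq_of_mul_eq_one_right (by rw [← mul_assoc, e, m2]))
    have hflip : ∀ {y : G}, y * y = 1 → Commute y m → y * c * y⁻¹ = c⁻¹ →
        c * y * c⁻¹ = y ∨ c * y * c⁻¹ = y * m := by
      intro y y2 ym hy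
      have h1 : y * c = c⁻¹ * y := mul_inv_eq_iff_eq_mul.1 hy
      have h2 : c * y * c⁻¹ = y * (c⁻¹ * c⁻¹) := by
        have h3 : c * y = y * c⁻¹ := by
          calc c * y = y * (y * c) * y := by rw [← mul_assoc, y2, one_mul]
            _ = y * c⁻¹ * (y * y) := by rw [h1]; simp only [mul_assoc]
            _ = y * c⁻¹ := by rw [y2, mul_one]
        rw [h3, mul_assoc]
      rcases F.el_pair hc2 with e | e
      · exact Or.inl (by rw [h2, ← mul_inv_rev, e, inv_one, mul_one])
      · exact Or.inr (by rw [h2, ← mul_inv_rev, e, ← hm, mi])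
    have hcS : c ∈ F.sSub := D.stabA ok hcm (hflip a2 ham hac)
    obtain ⟨cc, hcc, ec⟩ := F.mem_sSub.1 hcS
    obtain ⟨hce, -⟩ := mem_sList.1 hcc
    have hcH : c ∈ D.H := F.sSub_le D hcS
    by_cases hsome : fzSome fs cc = true
    · -- a lift is conjugate to `z`, so `b` lies in the subgroup
      have hbb : ∀ v ∈ F.pairSub, IsConj (c * v) z → b ∈ D.H := by
        intro v hv hc'
        have hvH : v ∈ D.H := by
          rcases F.el_pair hv with rfl | rfl
          exacts [one_mem _, hmH]
        refine D.of_conj (mul_mem hcH hvH) hc' ?_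
        rw [show b * (c * v) * b⁻¹ = b * c * b⁻¹ * (b * v * b⁻¹) by group, hbc,
          show b * v * b⁻¹ = v from mul_inv_eq_iff_eq_mul.2 (hV v hv).2.1.eq.symm]
        exact mul_mem (inv_mem hcH) hvH
      rw [D.fzSome_iff ok hce, ec] at hsome
      rcases hsome with h | h
      · exact hbb 1 (one_mem _) (by rwa [mul_one])
      · exact hbb m m_mem h
    exfalso
    have hpure : ¬ (IsConj c z ∨ IsConj (c * m) z) := fun h => hsome (by rwa [D.fzSome_iff ok hce, ec])
    have hnot : cc ∉ [onec, mC] := fun h => hcV ⟨cc, h, ec⟩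
    have hsq : ∀ {u : G} {uc : ℕ}, uc ∈ els → F.el uc = u → u * u ∈ F.pairSub → mulc uc uc ∈ [onec, mC] := by
      intro u uc hu e h
      obtain ⟨w, hw, ew⟩ := h
      rw [← F.el_inj (pair_els w hw) (mulc_mem hu hu) (by rw [F.el_mul hu hu, e, ew])]
      exact hw
    have table : ∀ uc ∈ sList, uc ∉ [onec, mC] → mulc uc uc ∈ [onec, mC] → fzSome fs uc = false →
        fzBoth fs (mulc uc (mulc kCode tc)) = false ∧ fzBoth fs (mulc uc kCode) = false := by
      intro uc hu h1 h2 h3
      have h := List.all_eq_true.mp three_cover uc hu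
      simp only [Bool.or_eq_true, Bool.not_eq_true', List.all_eq_true, inL_iff, Bool.and_eq_true,
        ← Bool.not_eq_true] at h
      rcases h with (h | h) | h
      · exact absurd h h1
      · exact absurd h2 h
      · rcases h fs ok.mem with h | h
        · rw [h3] at h; exact Bool.noConfusion h
        · simpa using h
    obtain ⟨t1, -⟩ := table cc hcc hnot (hsq hce ec hc2) (by simpa using hsome)
    have hg' : Commute g m := (hgV m m_mem).symm
    rcases hg with hg | hg
    · have hB := haB.conj F hg'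
      rw [hg, ha, ← ec, ← F.el_mul hce hke] at hB
      rw [(D.fzBoth_iff ok (mulc_mem hce hke)).2 hB] at t1
      exact Bool.noConfusion t1
    have hB : F.BothC (x⁻¹ * c * x * k) := by
      have h1 := (haB.conj F hg').conj F hx.inv_left
      rw [hg, inv_inv, show x⁻¹ * (c * b) * x = x⁻¹ * c * x * k by rw [hb]; group] at h1
      exact h1
    set c' := x⁻¹ * c * x with hc'
    have hc'm : Commute c' m := (hx.inv_left.mul_left hcm).mul_left hx
    have hpx : x⁻¹ * m * x = m := by rw [mul_assoc, ← hx.eq, inv_mul_cancel_left]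
    have hc'stab : c' * k * c'⁻¹ = k ∨ c' * k * c'⁻¹ = k * m := by
      have e : c' * k * c'⁻¹ = x⁻¹ * (c * b * c⁻¹) * x := by rw [hc', hb]; group
      rcases hflip b2 hbm hbc with h | h <;> rw [e, h]
      · exact Or.inl (by rw [hb]; group)
      · refine Or.inr ?_
        rw [show x⁻¹ * (b * m) * x = x⁻¹ * b * x * (x⁻¹ * m * x) by group, hpx,
          show x⁻¹ * b * x = k by rw [hb]; group]
    let Tk : Subgroup G :=
      { carrier := {y | Commute y m ∧ (y * k * y⁻¹ = k ∨ y * k * y⁻¹ = k * m)}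
        one_mem' := ⟨Commute.one_left _, Or.inl (by simp)⟩
        mul_mem' := by
          rintro g h ⟨gm, hg⟩ ⟨hm', hh⟩
          refine ⟨gm.mul_left hm', ?_⟩
          rw [show g * h * k * (g * h)⁻¹ = g * (h * k * h⁻¹) * g⁻¹ by group]
          rcases hh with e | e <;> rw [e]
          · exact hg
          · rw [cm_conj gm]
            rcases hg with e' | e' <;> rw [e']
            · exact Or.inr rfl
            · exact Or.inl (by rw [mul_assoc, m2, mul_one])
        inv_mem' := by
          rintro g ⟨gm, hg⟩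
          refine ⟨gm.inv_left, ?_⟩
          rw [inv_inv]
          rcases hg with e | e
          · left
            conv_lhs => rw [← e]
            group
          · right
            have e2 : g⁻¹ * (k * m) * g = k := by rw [← e]; group
            have e3 := cm_conj (x := k) gm.inv_left
            rw [inv_inv] at e3
            rw [e3] at e2
            calc g⁻¹ * k * g = g⁻¹ * k * g * m * m := by rw [mul_assoc _ m, m2, mul_one]
              _ = k * m := by rw [e2] }
    have hSTk : F.sSub ≤ Tk := by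
      intro u hu
      obtain ⟨s, hs, rfl⟩ := F.mem_sSub.1 hu
      obtain ⟨hse, hsm⟩ := mem_sList.1 hs
      refine ⟨(F.comm_iff mC_mem hse).2 hsm, ?_⟩
      rcases k_facts.2.2.2.2.2.2 s hs with e | e <;> have e := congrArg F.el e
      · left
        rw [F.el_mul hse kCode_mem.1, F.el_mul kCode_mem.1 hse, ← hk] at e
        rw [e, mul_inv_cancel_right]
      · right
        rw [F.el_mul hse kCode_mem.1, F.el_mul (mulc_mem kCode_mem.1 mC_mem) hse, F.el_mul kCode_mem.1 mC_mem,
          ← hk] at e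
        rw [e, mul_inv_cancel_right]
        rfl
    have hTk : Tk ≤ Subgroup.centralizer ({F.rep 3} : Set G) :=
      fun g hg => Subgroup.mem_centralizer_singleton_iff.2 hg.1.eq
    have hc'2 : c' * c' ∈ F.pairSub := by
      rw [hc', show x⁻¹ * c * x * (x⁻¹ * c * x) = x⁻¹ * (c * c) * x by group]
      rcases F.el_pair hc2 with e | e <;> rw [e]
      · rw [mul_one, inv_mul_cancel]; exact one_mem _
      · rw [hpx]; exact m_mem
    have hU : IsPGroup 2 (Subgroup.zpowers c') := by
      have h4 : c' ^ (2 ^ 2) = 1 := by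
        rw [show (2:ℕ) ^ 2 = 2 * 2 from rfl, pow_mul, pow_two c', pow_two]
        rcases F.el_pair hc'2 with e | e <;> rw [e]
        exacts [one_mul 1, m2]
      obtain ⟨j, -, hj⟩ := (Nat.dvd_prime_pow Nat.prime_two).1 (orderOf_dvd_of_pow_eq_one h4)
      exact IsPGroup.of_card (n := j) (by rw [Nat.card_zpowers, hj])
    obtain ⟨y, hy, hyU⟩ := exists_conj_mem hSTk F.sSub_two
      (fun P hP hp hS => D.sSub_max ok P (hP.trans hTk) hp hS) (Subgroup.zpowers_le.2 ⟨hc'm, hc'stab⟩) hU
    obtain ⟨uc, huc, eu⟩ := F.mem_sSub.1 (hyU c' (Subgroup.mem_zpowers _))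
    obtain ⟨hue, -⟩ := mem_sList.1 huc
    obtain ⟨hym, hyk⟩ := hy
    have hyp : y * m * y⁻¹ = m := mul_inv_eq_iff_eq_mul.2 hym.eq
    have hu1 : uc ∉ [onec, mC] := by
      intro h
      refine hcV ?_
      have he : y * c' * y⁻¹ ∈ F.pairSub := ⟨uc, h, eu⟩
      rcases F.el_pair he with e | e
      · have e1 : c' = 1 := by
          calc c' = y⁻¹ * (y * c' * y⁻¹) * y := by group
            _ = 1 := by rw [e, mul_one, inv_mul_cancel]
        rw [show c = x * c' * x⁻¹ by rw [hc']; group, e1, mul_one, mul_inv_cancel]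
        exact one_mem _
      · have e1 : c' = m := by
          calc c' = y⁻¹ * (y * c' * y⁻¹) * y := by group
            _ = m := by rw [e, mul_assoc, ← hym.eq, inv_mul_cancel_left]
        rw [show c = x * c' * x⁻¹ by rw [hc']; group, e1, show x * m * x⁻¹ = m from
          mul_inv_eq_iff_eq_mul.2 hx.eq]
        exact m_mem
    have hu2 : mulc uc uc ∈ [onec, mC] := by
      refine hsq hue eu ?_
      rw [show y * c' * y⁻¹ * (y * c' * y⁻¹) = y * (c' * c') * y⁻¹ by group]
      rcases F.el_pair hc'2 with e | e <;> rw [e]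
      · rw [mul_one, mul_inv_cancel]; exact one_mem _
      · rw [hyp]; exact m_mem
    have hu3 : fzSome fs uc = false := by
      rw [Bool.eq_false_iff]
      intro h
      rw [D.fzSome_iff ok hue, eu] at h
      refine hpure (h.imp (fun h => ?_) fun h => ?_)
      · exact (isConj_iff.2 ⟨y * x⁻¹, by rw [hc']; group⟩ : IsConj c (y * c' * y⁻¹)).trans h
      · refine (isConj_iff.2 ⟨y * x⁻¹, ?_⟩ : IsConj (c * m) (y * c' * y⁻¹ * m)).trans h
        rw [cm_conj (hym.mul_left hx.inv_left), hc']
        group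
    obtain ⟨-, t2⟩ := table uc huc hu1 hu2 hu3
    have hB2 : F.BothC (F.el uc * k) := by
      have hB3 := hB.conj F hym
      rw [show y * (c' * k) * y⁻¹ = y * c' * y⁻¹ * (y * k * y⁻¹) by group, ← eu] at hB3
      rcases hyk with e | e <;> rw [e] at hB3
      · exact hB3
      · refine ⟨?_, ?_⟩
        · have := hB3.2
          rwa [← mul_assoc, ← hm, mul_assoc _ m m, m2, mul_one] at this
        · have := hB3.1
          rwa [← mul_assoc] at this
    rw [hk, ← F.el_mul hue kCode_mem.1] at hB2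
    rw [(D.fzBoth_iff ok (mulc_mem hue kCode_mem.1)).2 hB2] at t2
    exact Bool.noConfusion t2

/-- the centraliser of the third representative lies in the subgroup if that of the four group does -/
theorem Ctrl.three_le (D : Ctrl F fs) (ok : FsOK fs) (hW : F.wSub ≤ D.H) {x : G}
    (hx : Commute x (F.rep 3)) : x ∈ D.H := by
  obtain ⟨hk2, hkm, hkz⟩ := F.kEl_facts
  set k := F.el kCode with hk
  set m := F.rep 3 with hm
  set b := x * k * x⁻¹ with hb
  have hbH : b ∈ D.H := D.k_stays ok hW hx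
  have hbm : Commute b m := (hx.mul_left hkm).mul_left hx.inv_left
  have m2 : m * m = 1 := F.rep_sq (by norm_num)
  have hmH : m ∈ D.H := D.cent_le m (F.rep_comm (by norm_num))
  set Y : Subgroup G := Subgroup.centralizer ({m} : Set G) ⊓ D.H
  have hSY : F.sSub ≤ Y := le_inf inf_le_right (F.sSub_le D)
  have hb2 : b * b = 1 := by rw [hb, ← MulAut.conj_apply, ← map_mul, hk2, map_one]
  have hU : IsPGroup 2 (Subgroup.zpowers b) := by
    obtain ⟨j, -, hj⟩ := (Nat.dvd_prime_pow Nat.prime_two).1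
      (orderOf_dvd_of_pow_eq_one (show b ^ (2 ^ 1) = 1 by rw [pow_one, pow_two, hb2]))
    exact IsPGroup.of_card (n := j) (by rw [Nat.card_zpowers, hj])
  obtain ⟨y, hy, hyU⟩ := exists_conj_mem hSY F.sSub_two
    (fun P hP hp hS => D.sSub_max ok P (hP.trans inf_le_left) hp hS)
    (Subgroup.zpowers_le.2 ⟨Subgroup.mem_centralizer_singleton_iff.2 hbm.eq, hbH⟩) hU
  obtain ⟨hym', hyH⟩ := Subgroup.mem_inf.1 hy
  have hym : Commute y m := Subgroup.mem_centralizer_singleton_iff.1 hym'
  obtain ⟨u, hu, eu⟩ := F.mem_sSub.1 (hyU b (Subgroup.mem_zpowers _))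
  obtain ⟨hue, hum⟩ := mem_sList.1 hu
  have hyx : Commute (y * x) m := hym.mul_left hx
  have eub : F.el u = y * x * k * (y * x)⁻¹ := by rw [eu, hb]; group
  by_cases hv : u ∈ vList
  · have hyxH : y * x ∈ D.H := by
      refine D.stab_le hW hyx ?_
      rw [← eub]
      simp only [vList, List.mem_cons, List.not_mem_nil, or_false] at hv
      rcases hv with rfl | rfl | rfl | rfl
      · exfalso
        rw [F.el_one, eq_comm, conj_eq_one_iff] at eub
        exact F.el_ne_one kCode_mem.1 (fun e => k_facts.2.1 (by rw [e]; exact List.mem_cons_self)) eub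
      · exfalso
        rw [← F.mEl, ← hm] at eub
        have e : k = m := by
          calc k = (y * x)⁻¹ * (y * x * k * (y * x)⁻¹) * (y * x) := by group
            _ = m := by rw [← eub, mul_assoc, ← hyx.eq, inv_mul_cancel_left]
        exact k_facts.2.1 (List.mem_cons_of_mem _ (List.mem_singleton.2 (F.el_inj kCode_mem.1 mC_mem e)))
      · exact Or.inl rfl
      · exact Or.inr (F.el_mul kCode_mem.1 mC_mem)
    have := mul_mem (inv_mem hyH) hyxH
    rwa [inv_mul_cancel_left] at this
  · have hu2 : mulc u u = onec := by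
      refine F.el_inj (mulc_mem hue hue) onec_mem ?_
      rw [F.el_mul hue hue, F.el_one, eub, ← MulAut.conj_apply, ← map_mul, hk2, map_one]
    have hus : fzSome fs u = false := by
      rw [Bool.eq_false_iff]
      intro h
      rw [D.fzSome_iff ok hue, eub] at h
      rcases h with h | h
      · exact D.el_not ok kCode_mem.1 (fs_facts ok).2.2.2.1 ((isConj_iff.2 ⟨y * x, rfl⟩ : IsConj k _).trans h)
      · refine D.el_not ok (mulc_mem kCode_mem.1 mC_mem) (fs_facts ok).2.2.2.2.1
          ((isConj_iff.2 ⟨y * x, ?_⟩ : IsConj _ _).trans h)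
        rw [F.el_mul kCode_mem.1 mC_mem, ← F.mEl, cm_conj hyx]
    have h := List.all_eq_true.mp three_closure u hu
    simp only [Bool.or_eq_true, Bool.not_eq_true', List.all_eq_true, List.any_eq_true, inL_iff, Bool.and_eq_true,
      eqv_iff, ← Bool.not_eq_true] at h
    rcases h with (h | h) | h
    · exact absurd h hv
    · exact absurd hu2 h
    rcases h fs ok.mem with h | ⟨s, hs, hs2, hτ⟩
    · rw [hus] at h; exact Bool.noConfusion h
    obtain ⟨hse, hsm⟩ := mem_sList.1 hs
    have si : (F.el s)⁻¹ = F.el s := inv_eq_of_mul_eq_one_right (by rw [← F.el_mul hse hse, hs2, F.el_one])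
    have hsC : Commute (F.el s) m := (F.comm_iff mC_mem hse).2 hsm
    have hsus := mulc_mem (mulc_mem hse hue) hse
    have hte : mulc u (mulc (mulc s u) s) ∈ els := mulc_mem hue hsus
    have hall : ∀ {w : G}, Commute w m → w * F.el (mulc u (mulc (mulc s u) s)) * w⁻¹ ∈ D.H := by
      intro w hw
      rw [F.el_mul hue hsus, F.el_mul (mulc_mem hse hue) hse, F.el_mul hse hue]
      rw [show w * (F.el u * (F.el s * F.el u * F.el s)) * w⁻¹ =
        w * F.el u * w⁻¹ * (w * F.el s * F.el u * (F.el s * w⁻¹)) by group]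
      refine mul_mem ?_ ?_
      · have := D.k_stays ok hW (hw.mul_left hyx)
        rw [eub, show w * (y * x * k * (y * x)⁻¹) * w⁻¹ = w * (y * x) * k * (w * (y * x))⁻¹ by group]
        exact this
      · have := D.k_stays ok hW ((hw.mul_left hsC).mul_left hyx)
        rw [eub, show F.el s * w⁻¹ = (w * F.el s)⁻¹ by rw [mul_inv_rev, si],
          show w * F.el s * (y * x * k * (y * x)⁻¹) * (w * F.el s)⁻¹ =
            w * F.el s * (y * x) * k * (w * F.el s * (y * x))⁻¹ by group]
        exact this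
    have hself := hall (Commute.one_left m)
    rw [one_mul, inv_one, mul_one] at hself
    rw [D.fzSome_iff ok hte] at hτ
    rcases hτ with h | h
    · exact D.of_conj hself h (hall hx)
    · refine D.of_conj (mul_mem hself hmH) h ?_
      rw [cm_conj hx]
      exact mul_mem (hall hx) hmH

end Cfsg.Agent.Spor.TranCent
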