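import Cfsg.Agent.Lib.Spor.TranCent.CasesCheck
import Cfsg.Agent.Lib.Spor.TranCent.ThreeMain
import Cfsg.Agent.Lib.Spor.TranCent.FourW
import Cfsg.Agent.Lib.Spor.TranCent.Model
import Cfsg.Agent.Lib.Spor.TranCent.Affine
import Cfsg.Agent.Lib.Spor.WedgeFive
import Cfsg.Agent.S0249

/-!
In each case the model maps onto the whole group.
-/

set_option autoImplicit false
set_option linter.style.haveILetI false
set_option maxRecDepth 100000

namespace Cfsg.Agent.Spor.TranCent

attribute [local irreducible] mulc clsOf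

local notation "F₂" => ZMod 2
local notation "SL5" => Matrix.SpecialLinearGroup (Fin 5) (ZMod 2)

variable {G : Type*} [Group G] {z : G}

theorem Fr.word_rep (F : Fr G z) (a b : G) {i : ℕ} (hi : i < 8) :
    ((repWords.getD i []).map (F.lm a b)).prod = F.rep i := by
  have ht := classes_tab
  simp only [Bool.and_eq_true, List.all_eq_true, List.mem_range, eqv] at ht
  obtain ⟨⟨⟨he, hb⟩, -⟩, -⟩ := ht.2 i hi
  exact F.word_eq a b ⟨below_iff.2 fun j hj => Nat.le_of_ble_eq_true (hb j hj), Nat.eq_of_beq_eq_true he⟩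

theorem Fr.fusion_word (F : Fr G z) {a b : G} (ha : a * a = 1) (hb : b * b = 1) {w : List ℕ} {i j : ℕ}
    (hi : i < 8) (hj : j < 8) (h : ((fusionRel w i j).map (F.lm a b)).prod = 1) :
    (w.map (F.lm a b)).prod * F.rep i * (w.map (F.lm a b)).prod⁻¹ = F.rep j := by
  simp only [fusionRel, List.map_append, List.prod_append, prod_rev (F.lm_sq ha hb), F.word_rep a b hi,
    F.word_rep a b hj] at h
  exact mul_inv_eq_one.1 h

theorem Fr.cent_le_words (F : Fr G z) (a b : G) {ks : List ℕ} (hks : ∀ j < 5, j ∈ ks) {g : G}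
    (hg : Commute g z) : g ∈ wordsSub (F.lm a b) ks := by
  obtain ⟨x, hx, rfl⟩ := F.el_surj hg
  obtain ⟨w, hw, e⟩ := exists_word hx
  rw [← e, F.el_evalw hw, ← List.map_congr_left (f := F.lm a b) fun j hj => F.lm_lt a b (hw j hj)]
  exact word_mem_wordsSub _ fun j hj => hks j (hw j hj)

theorem Side.conj_rep {F : Fr G z} (S : Side F) : S.g * F.rep 1 * S.g⁻¹ = z := by
  rw [inv_eq_of_mul_eq_one_right S.sq, ← S.conj_z]
  calc S.g * (S.g * z * S.g) * S.g = S.g * S.g * z * (S.g * S.g) := by simp only [mul_assoc]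
    _ = z := by rw [S.sq, one_mul, mul_one]

theorem mem_six {j : ℕ} (hj : j < 6) : j ∈ [0, 1, 2, 3, 4, 5] := by
  simp only [List.mem_cons, List.not_mem_nil, or_false]; omega

theorem mem_seven {j : ℕ} (hj : j < 7) : j ∈ [0, 1, 2, 3, 4, 5, 6] := by
  simp only [List.mem_cons, List.not_mem_nil, or_false]; omega

/-- the third and fifth class are never fused -/
theorem Fr.not_three_five [Finite G] (F : Fr G z) {i : ℕ} (hi : i = 3 ∨ i = 5) : ¬ IsConj (F.rep i) z := fun h => by
  obtain ⟨j, -, -, -, hj⟩ := F.partner (by omega) (by omega) h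
  omega

/-- a class moved onto the third one in the subgroup -/
theorem Ctrl.reduce [Finite G] {F : Fr G z} {fs : List ℕ} (D : Ctrl F fs) (ok : FsOK fs) (hW : F.wSub ≤ D.H)
    {i : ℕ} {h : G} (hh : h ∈ D.H) (he : h * F.rep i * h⁻¹ = F.rep 3) {g : G} (hg : Commute g (F.rep i)) :
    g ∈ D.H := by
  have hg' : Commute (h * g * h⁻¹) (F.rep 3) := by
    have := hg.map (MulAut.conj h)
    rwa [MulAut.conj_apply, MulAut.conj_apply, he] at this
  have := mul_mem (mul_mem (inv_mem hh) (D.three_le ok hW hg')) hh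
  rwa [show h⁻¹ * (h * g * h⁻¹) * h = g by group] at this

variable {T : Type*} [Group T]

/-- a simple target satisfying the relators maps isomorphically onto the generated subgroup -/
theorem exists_simple_model [Finite G] [Finite T] [IsSimpleGroup T] (F : Fr G z) {a b : G} (ha : a * a = 1)
    (hb : b * b = 1) {ks : List ℕ} {n : ℕ} {f : ℕ → T} (hks : ∀ j, j ∉ ks → f j = 1 ∧ F.lm a b j = 1)
    (h5 : ∀ j < 5, j ∈ ks) (hsq : ∀ j, f j * f j = 1) (hhigh : ∀ j, 7 ≤ j → f j = 1)
    (hgen : wordsSub f ks = ⊤) {R extra : List (List ℕ)} (hR : Sat (F.lm a b) R) (hRf : Sat f (R ++ extra))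
    (hn : n ≤ Nat.card T) (hbound : ∀ {g : ℕ → G × T}, Inv7 g → Sat g R → Nat.card (wordsSub g ks) ≤ n) :
    ∃ φ : T →* G, Function.Injective φ ∧ φ.range = wordsSub (F.lm a b) ks ∧ (∀ j, φ (f j) = F.lm a b j) ∧
      Sat (F.lm a b) extra := by
  obtain ⟨φ, hφ, hrange⟩ := exists_model hks hgen
    ((hbound (pairMap_inv7 (F.inv7 ha hb) ⟨hsq, hhigh⟩) (pairMap_sat hR (hRf.mono fun r hr =>
      List.mem_append_left _ hr))).trans hn)
  refine ⟨φ, ?_, hrange, hφ, fun r hr => ?_⟩
  · rcases IsSimpleGroup.eq_bot_or_eq_top_of_normal φ.ker inferInstance with h | h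
    · exact (MonoidHom.ker_eq_bot_iff φ).1 h
    · exfalso
      have hz : z ∈ φ.range := by rw [hrange]; exact F.cent_le_words a b h5 rfl
      obtain ⟨t, ht⟩ := hz
      exact F.z_ne_one (by rw [← ht]; exact MonoidHom.mem_ker.1 (h ▸ Subgroup.mem_top t))
  · rw [← funext hφ, show (fun j => φ (f j)) = φ ∘ f from rfl, ← List.map_map, ← map_list_prod,
      hRf r (List.mem_append_right _ hr), map_one]

/-- the data of the first kind of side -/
theorem twist_hks (F : Fr G z) (a : G) {f : ℕ → T} (h6 : ∀ j, 6 ≤ j → f j = 1) :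
    ∀ j, j ∉ [0, 1, 2, 3, 4, 5] → f j = 1 ∧ F.lm a 1 j = 1 := by
  intro j hj
  have h : 6 ≤ j := by by_contra hc; exact hj (mem_six (by omega))
  refine ⟨h6 j h, ?_⟩
  by_cases h7 : j = 6
  · rw [h7, F.lm_six]
  · exact F.lm_high a 1 (by omega)

theorem Side.twist_fused {F : Fr G z} (S : Side F)
    (h : ∀ j < 4, S.g * F.lt j * S.g = F.el ((autImg 0).getD j 0)) {i : ℕ} (hi : i ∈ [0, 1, 2, 4, 7]) :
    ∃ g ∈ wordsSub (F.lm S.g 1) [0, 1, 2, 3, 4, 5], g * F.rep i * g⁻¹ = z := by
  by_cases h0 : i = 0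
  · exact ⟨1, one_mem _, by rw [h0, F.rep_zero, one_mul, inv_one, mul_one]⟩
  obtain ⟨w, hw⟩ : ∃ w, (i, w) ∈ twistMoves := by
    simp only [List.mem_cons, List.not_mem_nil, or_false] at hi
    rcases hi with rfl | rfl | rfl | rfl | rfl
    · exact absurd rfl h0
    all_goals simp [twistMoves]
  have ht := List.all_eq_true.mp twist_moves _ hw
  simp only [Bool.and_eq_true] at ht
  have hi8 : i < 8 := by
    simp only [List.mem_cons, List.not_mem_nil, or_false] at hi
    omega
  obtain ⟨-, e⟩ := F.trace_sound (movesOK_one (S.moveOK (i := 0) (by norm_num) wordOne h) (b := 1))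
    (rp_spec hi8).1 (isCode_eq ht.1)
  refine ⟨_, word_mem_wordsSub _ fun j hj => mem_six (below_iff.1 ht.2 j hj), ?_⟩
  rwa [F.el_tc, ← F.rep_eq, MulAut.conj_apply] at e

variable [Finite G]

/-- the Held group -/
theorem Side.twist_he {F : Fr G z} (S : Side F)
    (h : ∀ j < 4, S.g * F.lt j * S.g = F.el ((autImg 0).getD j 0)) (hR : Sat (F.lm S.g 1) heRel)
    [Finite T] [IsSimpleGroup T] (hn : 4030387200 ≤ Nat.card T) {f : ℕ → T} (hsq : ∀ j, f j * f j = 1)
    (h6 : ∀ j, 6 ≤ j → f j = 1) (hRf : Sat f (heRel ++ heFusion ++ sevenRel))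
    (hgen : wordsSub f [0, 1, 2, 3, 4, 5] = ⊤) (hx : (sevenX.map f).prod ≠ 1) : Nonempty (G ≃* T) := by
  set ks := [0, 1, 2, 3, 4, 5] with hksd
  obtain ⟨φ, hinj, hrange, hφ, hex⟩ := exists_simple_model F S.sq (one_mul 1) (twist_hks F S.g h6)
    (fun j hj => mem_six (by omega)) hsq (fun j hj => h6 j (by omega)) hgen hR (extra := heFusion ++ sevenRel)
    (by rwa [← List.append_assoc]) hn (fun hg hs => (he_card hg hs).2)
  have hsh := fusion_shape.1
  have hs := seven_shape
  simp only [Bool.and_eq_true] at hs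
  obtain ⟨⟨⟨⟨⟨⟨⟨-, hk⟩, h45⟩, hbx⟩, hbw⟩, hb5⟩, hb6⟩, -⟩ := hs
  have mem : ∀ {w : List ℕ}, below 6 w = true → (w.map (F.lm S.g 1)).prod ∈ wordsSub (F.lm S.g 1) ks := fun hw =>
    word_mem_wordsSub _ fun j hj => mem_six (below_iff.1 hw j hj)
  have e5 := F.fusion_word S.sq (one_mul 1) (i := 5) (j := 3) (by norm_num) (by norm_num)
    (hex (fusionRel fiveWord 5 3) (List.mem_append_left _ (by rw [hsh]; simp)))
  have e6 := F.fusion_word S.sq (one_mul 1) (i := 6) (j := 0) (by norm_num) (by norm_num)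
    (hex (fusionRel sixHe 6 0) (List.mem_append_left _ (by rw [hsh]; simp)))
  rw [F.rep_zero] at e6
  let D : Ctrl F fsHe :=
    { H := wordsSub (F.lm S.g 1) ks
      cent_le := fun g hg => F.cent_le_words S.g 1 (fun j hj => mem_six (by omega)) hg
      zero_mem := by simp [fsHe]
      fused := fun i _ hi => by
        by_cases h6i : i = 6
        · exact ⟨_, mem hb6, by rw [h6i]; exact e6⟩
        · exact S.twist_fused h (by simp only [fsHe, List.mem_cons, List.not_mem_nil, or_false] at hi ⊢; omega)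
      not_fused := fun i hi hn => F.not_three_five (by
        simp only [fsHe, List.mem_cons, List.not_mem_nil, or_false] at hn; omega) }
  have ok : FsOK fsHe := fsAll_ok.1
  have rel : ∀ r ∈ sevenRel, (r.map (F.lm S.g 1)).prod = 1 := fun r hr => hex r (List.mem_append_right _ hr)
  simp only [sevenRel, List.forall_mem_cons, List.map_append, List.prod_append,
    prod_rev (F.lm_sq S.sq (one_mul 1)), F.word_rep S.g 1 (show (3 : ℕ) < 8 by norm_num)] at rel
  obtain ⟨r1, r2, r3, r4, r5, r6, -⟩ := rel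
  rw [F.word_eq S.g 1 ⟨h45, Nat.eq_of_beq_eq_true hk⟩] at r2 r4
  set x := (sevenX.map (F.lm S.g 1)).prod
  set w := (sevenW.map (F.lm S.g 1)).prod
  have hxW : x ∈ F.wSub := F.mem_wSub.2 ⟨mul_inv_eq_iff_eq_mul.1 (mul_inv_eq_one.1 r1),
    mul_inv_eq_iff_eq_mul.1 (mul_inv_eq_one.1 r2)⟩
  have hwW : w ∈ F.wSub := F.mem_wSub.2 ⟨mul_inv_eq_iff_eq_mul.1 (mul_inv_eq_one.1 r3),
    mul_inv_eq_iff_eq_mul.1 (mul_inv_eq_one.1 r4)⟩
  have hxV : x ∉ F.fourSub := fun hm => by
    have e := mul_inv_eq_one.1 r5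
    rw [mul_inv_eq_iff_eq_mul.2 ((F.four_spec hm).2.2 w hwW).eq.symm, left_eq_mul] at e
    refine hx (hinj ?_)
    rw [map_list_prod, List.map_map, map_one, show φ ∘ f = F.lm S.g 1 from funext hφ]
    exact e
  have hW : F.wSub ≤ D.H :=
    D.four_seven ok hxW (mem hbx) hwW (mem hbw) hxV (mul_inv_eq_one.1 r5) r6
  have htop := D.eq_top (b := 3) (by norm_num) (by simp [fsHe]) fun i hi hn g hg => by
    rcases (show i = 3 ∨ i = 5 by
      simp only [fsHe, List.mem_cons, List.not_mem_nil, or_false] at hn; omega) with rfl | rfl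
    · exact D.three_le ok hW hg
    · exact D.reduce ok hW (mem hb5) e5 hg
  exact ⟨(MulEquiv.ofBijective φ ⟨hinj, MonoidHom.range_eq_top.1 (hrange.trans htop)⟩).symm⟩

/-- the Mathieu group -/
theorem Side.twist_mathieu {F : Fr G z} (S : Side F)
    (h : ∀ j < 4, S.g * F.lt j * S.g = F.el ((autImg 0).getD j 0)) (hR : Sat (F.lm S.g 1) mathieuRel)
    [Finite T] [IsSimpleGroup T] (hn : 244823040 ≤ Nat.card T) {f : ℕ → T} (hsq : ∀ j, f j * f j = 1)
    (h6 : ∀ j, 6 ≤ j → f j = 1) (hRf : Sat f (mathieuRel ++ mathieuFusion))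
    (hgen : wordsSub f [0, 1, 2, 3, 4, 5] = ⊤) : Nonempty (G ≃* T) := by
  set ks := [0, 1, 2, 3, 4, 5] with hksd
  set m := F.lm S.g 1
  obtain ⟨φ, hinj, hrange, -, hex⟩ := exists_simple_model F S.sq (one_mul 1) (twist_hks F S.g h6)
    (fun j hj => mem_six (by omega)) hsq (fun j hj => h6 j (by omega)) hgen hR hRf hn
    (fun hg hs => (mathieu_card hg hs).2)
  have hsh := fusion_shape.2
  have hs := seven_shape
  simp only [Bool.and_eq_true] at hs
  obtain ⟨⟨⟨-, hb5⟩, -⟩, hb6⟩ := hs
  have mem : ∀ {w : List ℕ}, below 6 w = true → (w.map m).prod ∈ wordsSub m ks := fun hw =>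
    word_mem_wordsSub _ fun j hj => mem_six (below_iff.1 hw j hj)
  have e5 := F.fusion_word S.sq (one_mul 1) (i := 5) (j := 3) (by norm_num) (by norm_num)
    (hex (fusionRel fiveWord 5 3) (by rw [hsh]; simp))
  have e6 := F.fusion_word S.sq (one_mul 1) (i := 6) (j := 3) (by norm_num) (by norm_num)
    (hex (fusionRel sixMathieu 6 3) (by rw [hsh]; simp))
  let D : Ctrl F fsMathieu :=
    { H := wordsSub m ks
      cent_le := fun g hg => F.cent_le_words S.g 1 (fun j hj => mem_six (by omega)) hg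
      zero_mem := by simp [fsMathieu]
      fused := fun i _ hi => S.twist_fused h hi
      not_fused := fun i hi hn hc => by
        rcases (show (i = 3 ∨ i = 5) ∨ i = 6 by
          simp only [fsMathieu, List.mem_cons, List.not_mem_nil, or_false] at hn; omega) with h35 | rfl
        · exact F.not_three_five h35 hc
        · exact F.not_three_five (Or.inl rfl) ((isConj_iff.2 ⟨_, e6⟩ : IsConj (F.rep 6) _).symm.trans hc) }
  have ok : FsOK fsMathieu := fsAll_ok.2.1
  have hW := D.four_single ok (Or.inl rfl)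
  have htop := D.eq_top (b := 3) (by norm_num) (by simp [fsMathieu]) fun i hi hn g hg => by
    rcases (show i = 3 ∨ i = 5 ∨ i = 6 by
      simp only [fsMathieu, List.mem_cons, List.not_mem_nil, or_false] at hn; omega) with rfl | rfl | rfl
    · exact D.three_le ok hW hg
    · exact D.reduce ok hW (mem hb5) e5 hg
    · exact D.reduce ok hW (mem hb6) e6 hg
  exact ⟨(MulEquiv.ofBijective φ ⟨hinj, MonoidHom.range_eq_top.1 (hrange.trans htop)⟩).symm⟩

theorem two_pow_five : ∀ c : ZMod 2, c ^ 5 = 1 → c = 1 := by decide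

/-- the special linear group is simple -/
theorem sl_five_simple : IsSimpleGroup SL5 := by
  haveI : Fact (Nat.Prime 2) := ⟨Nat.prime_two⟩
  haveI := Cfsg.Agent.S0249.result (F := ZMod 2) 5 (by norm_num)
  let q : SL5 ≃* Matrix.ProjectiveSpecialLinearGroup (Fin 5) (ZMod 2) :=
    MulEquiv.ofBijective (QuotientGroup.mk' _) ⟨(injective_iff_map_eq_one _).2 fun A hA => by
      obtain ⟨r, hr, hA'⟩ := Matrix.SpecialLinearGroup.mem_center_iff.1 ((QuotientGroup.eq_one_iff A).1 hA)
      have h1 := two_pow_five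
      rw [Fintype.card_fin] at hr
      refine Subtype.ext ?_
      rw [← hA', h1 r hr, map_one]
      rfl, QuotientGroup.mk'_surjective _⟩
  exact q.isSimpleGroup

/-- the target of both sides with the fusion words -/
theorem linear_target_fusion (v : ℕ) (hv : v = 0 ∨ v = 5) :
    ∃ f : ℕ → SL5, (∀ x, f x * f x = 1) ∧ (∀ x, 7 ≤ x → f x = 1) ∧
      Sat f (pRel ++ doubleRel v ++ linearFusion) ∧ Subgroup.closure (f '' {x | x < 7}) = ⊤ := by
  obtain ⟨k0, k5, -⟩ := linear_fusion_ok
  rcases hv with rfl | rfl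
  · obtain ⟨h, hr, ht⟩ := zero_ok
    exact ⟨genSL gensZero h, genSL_sq _ h, fun x hx => genSL_one _ h hx,
      prod_genSL_eq_one _ h _ (by rw [List.all_append, hr, k0]; rfl), genSL_top _ h _ ht⟩
  · obtain ⟨h, hr, ht⟩ := five_ok
    exact ⟨genSL gensFive h, genSL_sq _ h, fun x hx => genSL_one _ h hx,
      prod_genSL_eq_one _ h _ (by rw [List.all_append, hr, k5]; rfl), genSL_top _ h _ ht⟩

/-- both sides of the second kind -/
theorem Side.double_iso {F : Fr G z} (S : Side F) (S' : Side F.twist)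
    (h : ∀ j < 4, S.g * F.lt j * S.g = F.el ((autImg 1).getD j 0))
    (h' : ∀ j < 4, S'.g * F.twist.lt j * S'.g = F.twist.el ((autImg 1).getD j 0)) : Nonempty (G ≃* SL5) := by
  haveI := sl_five_simple
  obtain ⟨v, hv, hR⟩ := S.double_cases S' h h'
  obtain ⟨f, hsq, hhigh, hRf, hgen⟩ := linear_target_fusion v hv
  set ks := [0, 1, 2, 3, 4, 5, 6] with hksd
  set m := F.lm S.g S'.g
  have hks : ∀ j, j ∉ ks → f j = 1 ∧ m j = 1 := fun j hj => by
    have h7 : 7 ≤ j := by by_contra hc; exact hj (mem_seven (by omega))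
    exact ⟨hhigh j h7, F.lm_high _ _ h7⟩
  have hgen' : wordsSub f ks = ⊤ := by
    rw [← hgen, wordsSub]
    congr 2
    ext j
    exact ⟨fun hj => by simp only [hksd, Set.mem_setOf_eq, List.mem_cons, List.not_mem_nil, or_false] at hj ⊢; omega,
      fun hj => mem_seven hj⟩
  obtain ⟨φ, hinj, hrange, -, hex⟩ := exists_simple_model F S.sq S'.sq hks (fun j hj => mem_seven (by omega)) hsq
    hhigh hgen' hR hRf (n := 9999360) (le_of_eq Wedge5.card_SL5.symm) (fun hg hs => (double_card hg hv hs).2)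
  have hlw := linear_fusion_ok.2.2
  have moves : ∀ p ∈ linearWords, p.2.1 < 8 → p.2.2 < 8 →
      ∃ g ∈ wordsSub m ks, g * F.rep p.2.1 * g⁻¹ = F.rep p.2.2 := fun p hp a b =>
    ⟨_, word_mem_wordsSub _ fun j hj => mem_seven (below_iff.1 (List.all_eq_true.mp hlw p hp) j hj),
      F.fusion_word S.sq S'.sq a b (hex _ (List.mem_map.2 ⟨p, hp, rfl⟩))⟩
  have to3 : ∀ i, i = 5 ∨ i = 6 ∨ i = 7 → ∃ g ∈ wordsSub m ks, g * F.rep i * g⁻¹ = F.rep 3 := by
    rintro i (rfl | rfl | rfl)
    · exact moves ([1, 6, 2], 5, 3) (by simp [linearWords]) (by norm_num) (by norm_num)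
    · exact moves ([1, 0, 6, 1, 0], 6, 3) (by simp [linearWords]) (by norm_num) (by norm_num)
    · exact moves ([5, 3, 2, 4, 5, 0], 7, 3) (by simp [linearWords]) (by norm_num) (by norm_num)
  let D : Ctrl F fsLinear :=
    { H := wordsSub m ks
      cent_le := fun g hg => F.cent_le_words S.g S'.g (fun j hj => mem_seven (by omega)) hg
      zero_mem := by simp [fsLinear]
      fused := fun i _ hi => by
        suffices hs : ∃ g ∈ wordsSub m ks, g * F.rep i * g⁻¹ = F.rep 0 by
          obtain ⟨g, hg, e⟩ := hs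
          exact ⟨g, hg, e.trans F.rep_zero⟩
        simp only [fsLinear, List.mem_cons, List.not_mem_nil, or_false] at hi
        rcases hi with rfl | rfl | rfl | rfl
        · exact ⟨1, one_mem _, by rw [one_mul, inv_one, mul_one]⟩
        · exact moves ([5], 1, 0) (by simp [linearWords]) (by norm_num) (by norm_num)
        · exact moves ([6], 2, 0) (by simp [linearWords]) (by norm_num) (by norm_num)
        · exact moves ([5, 4, 6, 2], 4, 0) (by simp [linearWords]) (by norm_num) (by norm_num)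
      not_fused := fun i hi hn hc => by
        rcases (show i = 3 ∨ i = 5 ∨ i = 6 ∨ i = 7 by
          simp only [fsLinear, List.mem_cons, List.not_mem_nil, or_false] at hn; omega) with rfl | h57
        · exact F.not_three_five (Or.inl rfl) hc
        · obtain ⟨g, -, hg⟩ := to3 i h57
          exact F.not_three_five (Or.inl rfl) ((isConj_iff.2 ⟨g, hg⟩ : IsConj (F.rep i) _).symm.trans hc) }
  have ok : FsOK fsLinear := fsAll_ok.2.2
  have hW := D.four_single ok (Or.inr rfl)
  have htop := D.eq_top (b := 3) (by norm_num) (by simp [fsLinear]) fun i hi hn g hg => by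
    rcases (show i = 3 ∨ i = 5 ∨ i = 6 ∨ i = 7 by
      simp only [fsLinear, List.mem_cons, List.not_mem_nil, or_false] at hn; omega) with rfl | h57
    · exact D.three_le ok hW hg
    · obtain ⟨y, hy, e⟩ := to3 i h57
      exact D.reduce ok hW hy e hg
  exact ⟨(MulEquiv.ofBijective φ ⟨hinj, MonoidHom.range_eq_top.1 (hrange.trans htop)⟩).symm⟩

theorem stab_bound (v : Fin 5 → F₂) (hv : v ≠ 0) : 322560 ≤ Nat.card (MulAction.stabilizer SL5 v) := by
  have h := (MulAction.stabilizer SL5 v).card_mul_index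
  rw [MulAction.index_stabilizer, Wedge5.card_SL5] at h
  have hle : (MulAction.orbit SL5 v).ncard ≤ 31 := by
    have hsub : MulAction.orbit SL5 v ⊆ ↑((Finset.univ : Finset (Fin 5 → F₂)).erase 0) := by
      rintro _ ⟨g, rfl⟩
      simp only [Finset.coe_erase, Finset.coe_univ, Set.mem_diff, Set.mem_univ, Set.mem_singleton_iff, true_and]
      intro e
      apply hv
      calc v = g⁻¹ • (g • v) := (inv_smul_smul g v).symm
        _ = 0 := by rw [show g • v = 0 from e, smul_zero]
    refine (Set.ncard_le_ncard hsub (Finset.finite_toSet _)).trans ?_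
    rw [Set.ncard_coe_finset, Finset.card_erase_of_mem (Finset.mem_univ _), Finset.card_univ]
    simp
  have := Nat.mul_le_mul_left (Nat.card (MulAction.stabilizer SL5 v)) hle
  omega

/-- the stabiliser of a vector -/
theorem Side.affine_iso {F : Fr G z} (S : Side F)
    (h : ∀ j < 4, S.g * F.lt j * S.g = F.el ((autImg 1).getD j 0)) (h2 : ¬ IsConj (F.rep 2) z) :
    ∃ v : Fin 5 → ZMod 2, v ≠ 0 ∧ Nonempty (G ≃* MulAction.stabilizer SL5 v) := by
  obtain ⟨v, hv, f, hsq, hhigh, hRf, hgen⟩ := stab_target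
  refine ⟨v, hv, ?_⟩
  set ks := [0, 1, 2, 3, 4, 5] with hksd
  set m := F.lm S.g 1
  have hgen' : wordsSub f ks = ⊤ := by
    rw [← hgen, wordsSub]
    congr 2
    ext j
    exact ⟨fun hj => by simp only [hksd, Set.mem_setOf_eq, List.mem_cons, List.not_mem_nil, or_false] at hj ⊢; omega,
      fun hj => mem_six hj⟩
  have hR : Sat m (pRel ++ closedRel) :=
    (F.sat_cent S.g 1 fun w hw => List.mem_append_right _ hw).append (S.sat_closed (one_mul 1) h)
  obtain ⟨φ, -, hrange⟩ := exists_model (twist_hks F S.g hhigh) hgen'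
    (((closed_card (pairMap_inv7 (F.inv7 S.sq (one_mul 1)) ⟨hsq, fun j hj => hhigh j (by omega)⟩)
      (pairMap_sat hR hRf)).2).trans (stab_bound v hv))
  have g1H : S.g ∈ wordsSub m ks := Subgroup.subset_closure ⟨5, mem_six (by norm_num), F.lm_five _ _⟩
  let D : Ctrl F [0, 1] :=
    { H := wordsSub m ks
      cent_le := fun g hg => F.cent_le_words S.g 1 (fun j hj => mem_six (by omega)) hg
      zero_mem := List.mem_cons_self
      fused := fun i _ hi => by
        simp only [List.mem_cons, List.not_mem_nil, or_false] at hi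
        rcases hi with rfl | rfl
        · exact ⟨1, one_mem _, by rw [F.rep_zero, one_mul, inv_one, mul_one]⟩
        · exact ⟨S.g, g1H, S.conj_rep⟩
      not_fused := fun i hi hn hc => by
        simp only [List.mem_cons, List.not_mem_nil, or_false] at hn
        rcases (show i = 2 ∨ (i = 3 ∨ i = 5) ∨ i = 4 ∨ i = 6 ∨ i = 7 by omega) with rfl | h35 | rfl | rfl | rfl
        · exact h2 hc
        · exact F.not_three_five h35 hc
        · exact h2 (F.fused_special (Or.inl rfl) hc)
        · exact h2 (F.fused_six hc)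
        · have hmem : ∀ t ∈ affMoves, t.1 = 7 → False := by
            intro t ht h7
            have ha := List.all_eq_true.mp aff_moves t ht
            simp only [Bool.and_eq_true] at ha
            obtain ⟨-, e⟩ := F.trace_sound (movesOK_one (S.moveOK (i := 1) (by norm_num) wordOne h) (b := 1))
              (rp_spec (i := t.1) (by omega)).1 (isCode_eq ha.1)
            have h3 : t.2.1 = 3 := (show ∀ t ∈ affMoves, t.1 = 7 → t.2.1 = 3 by decide) t ht h7
            rw [h3, h7] at e
            exact F.not_three_five (Or.inl rfl) ((isConj_iff.2 ⟨_, e⟩ : IsConj (F.rep 7) _).symm.trans hc)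
          exact hmem (affMoves.getD 2 (0, 0, [])) (by simp [affMoves]) (by simp [affMoves]) }
  have htop : D.H = ⊤ := D.eq_top (b := 3) (by norm_num) (by simp) (affine_cent S h D rfl)
  have hsur : Function.Surjective φ := MonoidHom.range_eq_top.1 (hrange.trans htop)
  have hlow : Nat.card (MulAction.stabilizer SL5 v) ≤ Nat.card G := by
    have hub : Nat.card (MulAction.stabilizer SL5 v) ≤ 322560 := by
      rw [← Subgroup.card_top, ← hgen']
      exact (closed_card ⟨hsq, fun j hj => hhigh j (by omega)⟩ hRf).2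
    refine hub.trans ?_
    obtain ⟨hf, hnd, hin⟩ := first_facts
    simp only [Bool.and_eq_true, eqv, Nat.beq_eq] at hf
    have hcard : Nat.card (Subgroup.centralizer ({z} : Set G)) = 21504 := by
      have e := F.card_eq (fun _ => true) (fun g => g ∈ Subgroup.centralizer ({z} : Set G))
        (fun g hg => Subgroup.mem_centralizer_singleton_iff.1 hg)
        (fun a ha => ⟨fun _ => rfl, fun _ => Subgroup.mem_centralizer_singleton_iff.2 (F.el_comm ha).eq⟩)
      rw [List.filter_true] at e
      exact e.trans hf.2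
    have hels : ∀ x ∈ firstList, x ∈ els := fun x hx => List.contains_iff_mem.1 (List.all_eq_true.mp hin x hx)
    have hconj : ∀ x ∈ firstList, IsConj z (F.el x) := by
      intro x hx
      rcases List.mem_cons.1 hx with rfl | hx'
      · rw [F.el_tc]
      · obtain ⟨p, hp, rfl⟩ := List.mem_map.1 hx'
        obtain ⟨hp, h1⟩ := List.mem_filter.1 hp
        have hc := F.isConj_hit hp (hels _ hx)
        rw [Nat.eq_of_beq_eq_true h1] at hc
        exact ((isConj_iff.2 ⟨S.g, S.conj_rep⟩ : IsConj (F.rep 1) z).symm).trans hc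
    choose c hc using fun x : {x // x ∈ firstList} => isConj_iff.1 (hconj x.1 x.2)
    have hinj : Function.Injective
        (fun x : {x // x ∈ firstList} => ((c x : G) : G ⧸ Subgroup.centralizer ({z} : Set G))) := by
      intro x y e
      have e' := Subgroup.mem_centralizer_singleton_iff.1 (QuotientGroup.eq.1 e)
      refine Subtype.ext (F.el_inj (hels _ x.2) (hels _ y.2) ?_)
      rw [← hc x, ← hc y]
      calc c x * z * (c x)⁻¹ = c x * (z * ((c x)⁻¹ * c y)) * (c y)⁻¹ := by group
        _ = c x * ((c x)⁻¹ * c y * z) * (c y)⁻¹ := by rw [e']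
        _ = c y * z * (c y)⁻¹ := by group
    have hidx : 15 ≤ (Subgroup.centralizer ({z} : Set G)).index := by
      rw [Subgroup.index_eq_card]
      refine le_trans (le_of_eq ?_) (Nat.card_le_card_of_injective _ hinj)
      rw [← hf.1, Nat.card_eq_fintype_card, ← List.toFinset_card_of_nodup hnd]
      exact (Fintype.card_of_subtype _ fun x => List.mem_toFinset).symm
    rw [← (Subgroup.centralizer ({z} : Set G)).card_mul_index, hcard]
    omega
  exact ⟨(MulEquiv.ofBijective φ (hsur.bijective_of_nat_card_le hlow)).symm⟩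

end Cfsg.Agent.Spor.TranCent
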