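import Cfsg.Agent.Lib.Spor.TranCent.RelData

/-!
The relators in the letters `0`–`4` of the centraliser and the letters `5`, `6` of the exchanging involutions,
and the lists of relators of the four possible groups.
-/

set_option autoImplicit false

namespace Cfsg.Agent.Spor.TranCent

/-- a word repeated -/
def powWord (k : ℕ) (w : List ℕ) : List ℕ := (List.replicate k w).flatten

/-- relators of the first exchanging involution inducing the automorphism `i` -/
def sideRel (i : ℕ) : List (List ℕ) :=
  [[5, 5]] ++ ((List.range 4).map fun j => [5, j, 5] ++ ((imgW.getD i []).getD j []).reverse) ++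
    [powWord 3 (5 :: repTwoW)]

/-- the relator saying that power number `n` has value number `v` -/
def powRel (n v : ℕ) : List ℕ :=
  let e := powTab.getD n (0, [], [], [], [], [])
  powWord e.1 (5 :: e.2.1) ++ (e.2.2.2.2.1.getD v []).reverse

/-- the same with words inside the subgroup on the letters `0`, `1`, `2`, `4` -/
def powRelP (n v : ℕ) : List ℕ :=
  let e := powTab.getD n (0, [], [], [], [], [])
  powWord e.1 (5 :: e.2.2.1) ++ (e.2.2.2.2.2.getD v []).reverse

/-- relators of the local subgroup -/
def planeRel (v3 v5 v6 : ℕ) : List (List ℕ) :=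
  pRel ++ [[5, 5]] ++ ((List.range 3).map fun j => [5, j, 5] ++ (imgP.getD j []).reverse) ++
    [powWord 3 (5 :: repTwoP), powRelP 1 v5, powRelP 0 v3, powRelP 2 v6]

/-- relators of the first kind with all three values -/
def twistRel (v3 v5 v6 : ℕ) : List (List ℕ) :=
  cRel ++ sideRel 0 ++ [powRel 1 v5, powRel 0 v3, powRel 2 v6]

/-- relators of the Held group -/
def heRel : List (List ℕ) := twistRel 0 1 1 ++ planeRel 0 1 1

/-- relators of the Mathieu group -/
def mathieuRel : List (List ℕ) := twistRel 0 3 0 ++ planeRel 0 3 0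

/-- relators of the second kind -/
def closedRel : List (List ℕ) := cRel ++ sideRel 1 ++ [powWord 5 closedW]

/-- relators of both sides of the second kind, the join having value number `v` -/
def doubleRel (v : ℕ) : List (List ℕ) :=
  closedRel ++ [[6, 6]] ++
    ((List.range 4).map fun j => [6] ++ dualW.getD j [] ++ [6] ++ (dualImgW.getD j []).reverse) ++
    [powWord 3 (6 :: dualTwoW), powWord 5 (6 :: closedW.tail.flatMap fun j => dualW.getD j [])] ++
    [powWord 2 joinW ++ (joinValW.getD v []).reverse]

/-- in both twisted groups the fifth representative is conjugate to the third -/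
def fiveFusion : List ℕ := [1, 4, 5, 4, 2, 1, 2, 4, 2, 3, 2, 3, 0, 2, 2, 4, 5, 4, 1, 4, 2, 1, 4, 0, 2, 1, 0]

/-- in the Held group the sixth representative is conjugate to the transvection -/
def heFusion : List (List ℕ) := [fiveFusion, [5, 4, 1, 5, 4, 1, 5, 4, 3, 4, 5, 4, 1, 2, 5, 4, 5, 1, 3, 0, 1, 2, 3, 0, 3, 4, 1, 5, 4, 5, 2, 1, 4, 5, 4, 3, 4, 5, 1, 4, 5, 1, 4, 5, 2, 1, 2, 1]]

/-- in the Mathieu group the sixth representative is conjugate to the third -/
def mathieuFusion : List (List ℕ) := [fiveFusion, [5, 4, 1, 5, 4, 5, 4, 3, 0, 1, 2, 3, 0, 3, 4, 4, 5, 4, 5, 1, 4, 5, 4, 2, 1, 4, 0, 2, 1, 0]]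

end Cfsg.Agent.Spor.TranCent
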