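import Cfsg.Agent.Lib.Spor.TranCent.FusionCheck
import Cfsg.Agent.Lib.Spor.TranCent.RepThreeData

/-!
Checks on the centraliser of the third representative: classes of the lifts of its involutions modulo it,
and modulo the four group with the central involution.
-/

set_option autoImplicit false
set_option maxRecDepth 100000

namespace Cfsg.Agent.Spor.TranCent

/-- the class of an involution, `8` for other elements -/
def clsOf (x : ℕ) : ℕ := ((hitTab.find? fun p => eqv p.1 x).map fun p => p.2.2).getD 8

/-- whether the class is listed -/
def fz (fs : List ℕ) (x : ℕ) : Bool := fs.any fun i => eqv i (clsOf x)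

/-- the third representative -/
def mC : ℕ := rp 3

/-- some lift modulo the third representative is listed -/
def fzSome (fs : List ℕ) (x : ℕ) : Bool := fz fs x || fz fs (mulc x mC)

/-- both lifts are listed -/
def fzBoth (fs : List ℕ) (x : ℕ) : Bool := fz fs x && fz fs (mulc x mC)

/-- the four group -/
def vList : List ℕ := [onec, mC, kCode, mulc kCode mC]

/-- membership in a list -/
def inL (l : List ℕ) (x : ℕ) : Bool := l.any fun y => eqv y x

/-- the listed lifts of a coset of the four group -/
def cntV (fs : List ℕ) (x : ℕ) : ℕ := (vList.filter fun v => fz fs (mulc x v)).length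

/-- the list for the Held group -/
def fsHe : List ℕ := [0, 1, 2, 4, 6, 7]

/-- the list for the Mathieu group -/
def fsMathieu : List ℕ := [0, 1, 2, 4, 7]

/-- the list for the linear group -/
def fsLinear : List ℕ := [0, 1, 2, 4]

/-- the three lists -/
def fsAll : List (List ℕ) := [fsHe, fsMathieu, fsLinear]

/-- an element with a single listed lift modulo the four group -/
def singleC : ℕ := 17043529

theorem sList_eq : (els.filter fun a => eqv (mulc mC a) (mulc a mC)) = sList := by decide +kernel

theorem class_unique : ((List.range 8).all fun i => eqv (clsOf (rp i)) i) = true := by decide +kernel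

theorem three_cover : (sList.all fun x => inL [onec, mC] x ||
    !(inL [onec, mC] (mulc x x)) || fsAll.all fun fs => fzSome fs x ||
      (!(fzBoth fs (mulc x (mulc kCode tc))) && !(fzBoth fs (mulc x kCode)))) = true := by decide +kernel

theorem three_closure : (sList.all fun x => inL vList x || !(eqv (mulc x x) onec) || fsAll.all fun fs => fzSome fs x ||
    sList.any fun s => eqv (mulc s s) onec && fzSome fs (mulc x (mulc (mulc s x) s))) = true := by decide +kernel

theorem three_four : (sList.all fun x => !(eqv (mulc kCode x) (mulc x kCode)) || inL vList x ||
    !(inL vList (mulc x x)) || fsAll.all fun fs => vList.any fun v => fz fs (mulc x v)) = true := by decide +kernel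

theorem three_central : (sList.all fun x => inL [onec, tc, mC, mulc tc mC] x ||
    sList.any fun s => !(eqv (mulc s x) (mulc x s))) = true := by decide +kernel

theorem three_facts :
    (fsAll.all fun fs => eqv (cntV fs tc) 3 && fzBoth fs (mulc kCode tc) && !(fz fs mC) && !(fz fs kCode) &&
      !(fz fs (mulc kCode mC)) && fz fs tc && !(fzBoth fs tc) && !(fz fs (mulc tc mC))) &&
    eqv (cntV fsMathieu singleC) 1 && eqv (cntV fsLinear singleC) 1 && fz fsMathieu singleC && fz fsLinear singleC &&
    eqv (mulc kCode singleC) (mulc singleC kCode) && inL sList singleC && inL sList kCode && inL sList swapK &&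
    eqv (mulc swapK swapK) onec && eqv (mulc (mulc swapK kCode) swapK) (mulc kCode mC) &&
    eqv (mulc kCode kCode) onec && !(inL [onec, mC] kCode) && eqv (mulc kCode tc) (mulc tc kCode) &&
    (sList.all fun s => inL [kCode, mulc kCode mC] (mulc (mulc s kCode) s) || !(eqv (mulc s s) onec)) &&
    (sList.all fun s => eqv (mulc s kCode) (mulc kCode s) || eqv (mulc s kCode) (mulc (mulc kCode mC) s)) &&
    eqv sList.length 512 && eqv (sList.filter fun x => eqv (mulc kCode x) (mulc x kCode)).length 256 = true := by
  decide +kernel

end Cfsg.Agent.Spor.TranCent
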