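import Cfsg.Agent.Lib.Spor.TranCent.FactsData

/-!
In the Held group: an element of order seven commuting with a four group, and one squaring it.
-/

set_option autoImplicit false

namespace Cfsg.Agent.Spor.TranCent

/-- the second involution of the four group -/
def fourW : List ℕ := [0, 4, 1, 3, 1, 2, 3, 2]

/-- the element of order seven -/
def sevenX : List ℕ := [0, 1, 2, 0, 4, 1, 2, 4, 2, 3, 0, 4, 3, 5, 0, 1, 2, 0, 4, 1, 2, 4, 5, 3, 4, 0, 3, 2, 5, 4, 5, 4, 0, 1, 2, 0, 4, 1, 2, 4, 4, 5, 4, 5, 0, 1, 2, 0, 4, 1, 2, 4, 5, 4, 5, 4]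

/-- the element conjugating it to its square -/
def sevenW : List ℕ := [0, 4, 5, 4, 5, 0, 1, 2, 0, 4, 1, 2, 4, 5, 4, 5, 0, 1, 2, 0, 4, 1, 2, 4, 5, 4, 5, 3, 0, 3, 0, 3]

/-- the relators -/
def sevenRel : List (List ℕ) :=
  let m := repWords.getD 3 []
  [sevenX ++ m ++ sevenX.reverse ++ m.reverse, sevenX ++ fourW ++ sevenX.reverse ++ fourW.reverse,
    sevenW ++ m ++ sevenW.reverse ++ m.reverse, sevenW ++ fourW ++ sevenW.reverse ++ fourW.reverse,
    sevenW ++ sevenX ++ sevenW.reverse ++ (sevenX ++ sevenX).reverse, sevenW ++ sevenW ++ sevenW]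

end Cfsg.Agent.Spor.TranCent
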