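import Cfsg.Agent.Lib.Spor.TranCent.Frame
import Cfsg.Agent.Lib.Spor.TranCent.FactsData
import Cfsg.Agent.Lib.Spor.TranCent.RelWords
import Cfsg.Agent.Lib.Classical.LinBasic

/-!
The special linear group of dimension five over the field with two elements, and the stabiliser of a non-zero
vector in it, as targets of the relator lists.
-/

set_option autoImplicit false
set_option maxRecDepth 100000

namespace Cfsg.Agent.Spor.TranCent

open Matrix

local notation "F₂" => ZMod 2
local notation "M5" => Matrix (Fin 5) (Fin 5) (ZMod 2)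
local notation "SL5" => Matrix.SpecialLinearGroup (Fin 5) (ZMod 2)
local notation "SL4" => Matrix.SpecialLinearGroup (Fin 4) (ZMod 2)

/-- the matrix of an arbitrary code -/
def codeMat (c : ℕ) : M5 := Matrix.of fun i j => entry c i j

/-- a code of an involution, or of the identity -/
def invCode (c : ℕ) : Bool := Nat.beq (code (codeMat c)) c && Nat.beq (mulc c c) onec

/-- code of the product of a word in a list of codes -/
def evalIn (gs : List ℕ) (w : List ℕ) : ℕ := w.foldr (fun j x => mulc (gs.getD j onec) x) onec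

theorem codeMat_onec : codeMat onec = 1 ∧ invCode onec = true := by decide +kernel

theorem invCode_getD {gs : List ℕ} (h : gs.all invCode = true) (x : ℕ) : invCode (gs.getD x onec) = true := by
  by_cases hx : x < gs.length
  · rw [List.getD_eq_getElem gs onec hx]
    exact List.all_eq_true.1 h _ (List.getElem_mem hx)
  · rw [List.getD_eq_default _ _ (by omega)]
    exact codeMat_onec.2

theorem invCode_sq {c : ℕ} (h : invCode c = true) : codeMat c * codeMat c = 1 ∧ (codeMat c).det = 1 := by
  simp only [invCode, Bool.and_eq_true] at h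
  have e : codeMat c * codeMat c = 1 := code_inj (by
    rw [code_mul, code_one, Nat.eq_of_beq_eq_true h.1]
    exact Nat.eq_of_beq_eq_true h.2)
  refine ⟨e, ?_⟩
  have hd : (codeMat c).det * (codeMat c).det = 1 := by rw [← Matrix.det_mul, e, Matrix.det_one]
  generalize (codeMat c).det = x at hd
  revert x
  decide

/-- the generator with a number, the identity beyond the list -/
def genSL (gs : List ℕ) (h : gs.all invCode = true) (x : ℕ) : SL5 :=
  ⟨codeMat (gs.getD x onec), (invCode_sq (invCode_getD h x)).2⟩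

theorem genSL_sq (gs : List ℕ) (h : gs.all invCode = true) (x : ℕ) : genSL gs h x * genSL gs h x = 1 :=
  Subtype.ext (by
    rw [Matrix.SpecialLinearGroup.coe_mul]
    exact (invCode_sq (invCode_getD h x)).1)

theorem genSL_one (gs : List ℕ) (h : gs.all invCode = true) {x : ℕ} (hx : gs.length ≤ x) : genSL gs h x = 1 :=
  Subtype.ext (by
    show codeMat (gs.getD x onec) = _
    rw [List.getD_eq_default _ _ hx, codeMat_onec.1]
    rfl)

theorem genSL_coe (gs : List ℕ) (h : gs.all invCode = true) (x : ℕ) :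
    ((genSL gs h x : SL5) : M5) = codeMat (gs.getD x onec) := rfl

theorem evalIn_cons (gs : List ℕ) (a : ℕ) (l : List ℕ) :
    evalIn gs (a :: l) = mulc (gs.getD a onec) (evalIn gs l) := by
  unfold evalIn
  exact List.foldr_cons ..

theorem evalIn_nil (gs : List ℕ) : evalIn gs [] = onec := by
  unfold evalIn
  exact List.foldr_nil

theorem code_coe_one : code ((1 : SL5) : M5) = onec :=
  (congrArg code (Matrix.SpecialLinearGroup.coe_one (n := Fin 5) (R := F₂))).trans code_one

theorem code_prod (gs : List ℕ) (h : gs.all invCode = true) (w : List ℕ) :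
    code (((w.map (genSL gs h)).prod : SL5) : M5) = evalIn gs w := by
  induction w with
  | nil => rw [evalIn_nil, List.map_nil, List.prod_nil, code_coe_one]
  | cons a l ih =>
    have e := invCode_getD h a
    simp only [invCode, Bool.and_eq_true] at e
    rw [List.map_cons, List.prod_cons, Matrix.SpecialLinearGroup.coe_mul, code_mul, ih, evalIn_cons, genSL_coe,
      Nat.eq_of_beq_eq_true e.1]

theorem prod_genSL_eq_one (gs : List ℕ) (h : gs.all invCode = true) (rs : List (List ℕ))
    (hr : rs.all (fun r => Nat.beq (evalIn gs r) onec) = true) :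
    ∀ r ∈ rs, (r.map (genSL gs h)).prod = 1 := fun r hm => Subtype.ext (code_inj (by
  rw [code_prod, Matrix.SpecialLinearGroup.coe_one, code_one]
  exact Nat.eq_of_beq_eq_true (List.all_eq_true.1 hr r hm)))

/-- the word for an elementary matrix is correct and uses the generators only -/
def wordOK (gs : List ℕ) (t : List (List (List ℕ))) (i j : Fin 5) : Prop :=
  evalIn gs ((t.getD i []).getD j []) = code (Matrix.transvection i j (1 : F₂)) ∧
    ∀ x ∈ (t.getD i []).getD j [], x < gs.length

theorem transvection_mem_closure (gs : List ℕ) (h : gs.all invCode = true) (t : List (List (List ℕ)))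
    {i j : Fin 5} (hij : i ≠ j) (ht : wordOK gs t i j) (c : F₂) :
    Matrix.SpecialLinearGroup.transvection hij c ∈ Subgroup.closure (genSL gs h '' {x | x < gs.length}) := by
  rcases (show c = 0 ∨ c = 1 by revert c; decide) with rfl | rfl
  · rw [Matrix.SpecialLinearGroup.transvection_coeff_zero]
    exact one_mem _
  · have e : Matrix.SpecialLinearGroup.transvection hij (1 : F₂) =
        (((t.getD i []).getD j []).map (genSL gs h)).prod := Subtype.ext (code_inj (by
      rw [code_prod, ht.1]
      rfl))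
    rw [e]
    refine Subgroup.list_prod_mem _ fun g hg => ?_
    obtain ⟨x, hx, rfl⟩ := List.mem_map.1 hg
    exact Subgroup.subset_closure ⟨x, ht.2 x hx, rfl⟩

theorem genSL_top (gs : List ℕ) (h : gs.all invCode = true) (t : List (List (List ℕ)))
    (ht : ∀ i j : Fin 5, i ≠ j → wordOK gs t i j) :
    Subgroup.closure (genSL gs h '' {x | x < gs.length}) = ⊤ := by
  rw [eq_top_iff, ← Cfsg.Agent.Classical.sl_closure_transvections, Subgroup.closure_le]
  rintro g ⟨i, j, hij, c, rfl⟩
  exact transvection_mem_closure gs h t hij (ht i j hij) c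

/-- generators for the first value of the join -/
def gensZero : List ℕ := letters ++ [14345308, 15428511]

/-- generators for the other value of the join -/
def gensFive : List ℕ := letters ++ [14345308, 15428481]

/-- generators of the stabiliser -/
def gensStab : List ℕ := dualL ++ [15428481]

/-- words for the elementary matrices in the first set -/
def tabZero : List (List (List ℕ)) := [
  [[], [1, 2, 1, 2], [1, 4, 2, 6, 4, 2, 4, 6], [1, 2, 4, 2, 1, 4], [1, 4, 1, 2, 4, 2]],
  [[6, 0, 5, 0, 6], [], [6, 1, 5, 1, 5, 6], [0, 2, 0, 6, 0, 2, 0], [6, 0, 2, 0, 2, 6]],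
  [[5, 4, 2, 3, 2, 4, 5], [6, 1, 2, 6, 2, 1, 6], [], [6, 4, 6, 4, 6], [1, 3, 2, 1, 4, 3, 2]],
  [[1, 5, 4, 3, 4, 5, 1], [1, 3, 1, 2, 3, 2], [2, 4, 3, 4, 2], [], [1, 3, 4, 3, 4, 1]],
  [[1, 6, 4, 5, 4, 6, 1], [0, 1, 0, 5, 2, 1, 5], [0, 1, 0, 2, 4, 3, 2, 3], [1, 2, 4, 3, 1, 2, 3], []]]

/-- words for the elementary matrices in the second set -/
def tabFive : List (List (List ℕ)) := [
  [[], [1, 2, 1, 2], [1, 4, 2, 6, 4, 2, 4, 6], [1, 2, 4, 2, 1, 4], [1, 4, 1, 2, 4, 2]],
  [[1, 5, 2, 1, 6, 1, 2, 5, 1], [], [6, 0, 2, 3, 2, 3, 0, 6], [6, 1, 2, 3, 2, 3, 1, 6], [0, 3, 2, 1, 6, 1, 2, 3, 0]],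
  [[5, 4, 2, 3, 2, 4, 5], [6, 1, 2, 6, 2, 1, 6], [], [6, 4, 6, 4, 6], [1, 3, 2, 1, 4, 3, 2]],
  [[1, 5, 4, 3, 4, 5, 1], [1, 3, 1, 2, 3, 2], [2, 4, 3, 4, 2], [], [1, 3, 4, 3, 4, 1]],
  [[5, 4, 2, 3, 2, 3, 4, 5], [0, 1, 0, 5, 2, 1, 5], [0, 1, 0, 2, 4, 3, 2, 3], [1, 2, 4, 3, 1, 2, 3], []]]

/-- words for the elementary matrices fixing the first coordinate vector -/
def tabStab : List (List (List ℕ)) := [
  [[], [1, 2, 1, 2], [0, 1, 2, 3, 1, 2, 3, 0], [1, 3, 1, 2, 3, 2], [0, 1, 0, 5, 2, 1, 5]],
  [[], [], [5, 4, 2, 3, 2, 4, 5], [1, 5, 4, 3, 4, 5, 1], [5, 4, 2, 3, 2, 3, 4, 5]],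
  [[], [3, 1, 4, 1, 2, 4, 2, 3], [], [2, 4, 3, 4, 2], [0, 1, 0, 2, 4, 3, 2, 3]],
  [[], [1, 2, 4, 2, 1, 4], [1, 2, 3, 4, 1, 2, 3], [], [1, 2, 4, 3, 1, 2, 3]],
  [[], [1, 4, 1, 2, 4, 2], [1, 3, 2, 1, 4, 3, 2], [1, 3, 4, 3, 4, 1], []]]

theorem zero_ok : gensZero.all invCode = true ∧
    (pRel ++ doubleRel 0).all (fun r => Nat.beq (evalIn gensZero r) onec) = true ∧
    ∀ i j : Fin 5, i ≠ j → wordOK gensZero tabZero i j := by
  unfold wordOK
  decide +kernel

theorem five_ok : gensFive.all invCode = true ∧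
    (pRel ++ doubleRel 5).all (fun r => Nat.beq (evalIn gensFive r) onec) = true ∧
    ∀ i j : Fin 5, i ≠ j → wordOK gensFive tabFive i j := by
  unfold wordOK
  decide +kernel

theorem linear_target (v : ℕ) (hv : v = 0 ∨ v = 5) :
    ∃ f : ℕ → SL5, (∀ x, f x * f x = 1) ∧ (∀ x, 7 ≤ x → f x = 1) ∧
      (∀ r ∈ pRel ++ doubleRel v, (r.map f).prod = 1) ∧ Subgroup.closure (f '' {x | x < 7}) = ⊤ := by
  rcases hv with rfl | rfl
  · obtain ⟨h, hr, ht⟩ := zero_ok
    exact ⟨genSL gensZero h, genSL_sq _ h, fun x hx => genSL_one _ h hx, prod_genSL_eq_one _ h _ hr,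
      genSL_top _ h _ ht⟩
  · obtain ⟨h, hr, ht⟩ := five_ok
    exact ⟨genSL gensFive h, genSL_sq _ h, fun x hx => genSL_one _ h hx, prod_genSL_eq_one _ h _ hr,
      genSL_top _ h _ ht⟩

/-! ### the stabiliser of the first coordinate vector -/

/-- the first coordinate vector -/
def firstVec : Fin 5 → F₂ := Pi.single 0 1

theorem stab_ok : gensStab.all invCode = true ∧
    (pRel ++ closedRel).all (fun r => Nat.beq (evalIn gensStab r) onec) = true ∧
    (∀ i j : Fin 5, i ≠ j → j ≠ 0 → wordOK gensStab tabStab i j) ∧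
    ∀ c ∈ onec :: gensStab, ∀ i : Fin 5, codeMat c i 0 = firstVec i := by
  unfold wordOK
  decide +kernel

/-- block diagonal matrix with a one in the corner -/
def cornerM (A : Matrix (Fin 4) (Fin 4) F₂) : M5 :=
  Matrix.of (Fin.cases (Fin.cases 1 fun _ => 0) fun i => Fin.cases 0 (A i))

theorem cornerM_mul (A B : Matrix (Fin 4) (Fin 4) F₂) : cornerM (A * B) = cornerM A * cornerM B := by
  ext i j
  cases i using Fin.cases <;> cases j using Fin.cases <;>
    simp [cornerM, Matrix.mul_apply, Fin.sum_univ_succ]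

theorem cornerM_det (A : Matrix (Fin 4) (Fin 4) F₂) : (cornerM A).det = A.det := by
  rw [Matrix.det_succ_column_zero, Fin.sum_univ_succ, Finset.sum_eq_zero fun i _ => ?_]
  · simp [cornerM]
    rfl
  · simp [cornerM]

/-- the special linear group of one dimension less inside the stabiliser -/
def cornerHom : SL4 →* SL5 where
  toFun A := ⟨cornerM A.1, (cornerM_det A.1).trans A.2⟩
  map_one' := Subtype.ext (by
    show cornerM ((1 : SL4) : Matrix (Fin 4) (Fin 4) F₂) = ((1 : SL5) : M5)
    rw [Matrix.SpecialLinearGroup.coe_one, Matrix.SpecialLinearGroup.coe_one]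
    decide +kernel)
  map_mul' A B := Subtype.ext (cornerM_mul A.1 B.1)

theorem corner_transvection : ∀ (i j : Fin 4) (c : F₂),
    cornerM (Matrix.transvection i j c) = Matrix.transvection i.succ j.succ c := by decide +kernel

theorem slTransvection_coe {i j : Fin 5} (hij : i ≠ j) (c : F₂) :
    ((Matrix.SpecialLinearGroup.transvection hij c : SL5) : M5) = Matrix.transvection i j c := rfl

/-- a row operation moving the first coordinate -/
def rowSL (b : Fin 4 → F₂) : SL5 :=
  Matrix.SpecialLinearGroup.transvection (show (0 : Fin 5) ≠ 1 by decide) (b 0) *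
    Matrix.SpecialLinearGroup.transvection (show (0 : Fin 5) ≠ 2 by decide) (b 1) *
    Matrix.SpecialLinearGroup.transvection (show (0 : Fin 5) ≠ 3 by decide) (b 2) *
    Matrix.SpecialLinearGroup.transvection (show (0 : Fin 5) ≠ 4 by decide) (b 3)

theorem rowSL_apply : ∀ (b : Fin 4 → F₂) (i j : Fin 5),
    (Matrix.transvection 0 1 (b 0) * Matrix.transvection 0 2 (b 1) * Matrix.transvection 0 3 (b 2) *
      Matrix.transvection 0 4 (b 3) : M5) i j =
    (Fin.cases (Fin.cases 1 b) (fun i' => Fin.cases 0 fun j' => if i' = j' then 1 else 0) i : Fin 5 → F₂) j := by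
  decide +kernel

theorem fixed_decompose (g : SL5) (hg : ∀ i, (g : M5) i 0 = firstVec i) :
    ∃ A : SL4, g = cornerHom A * rowSL (fun j => (g : M5) 0 j.succ) := by
  set A₀ : Matrix (Fin 4) (Fin 4) F₂ := Matrix.of fun i j => (g : M5) i.succ j.succ
  have hm : (g : M5) = cornerM A₀ * (Matrix.of (Fin.cases (Fin.cases 1 fun j => (g : M5) 0 j.succ)
      fun i' => Fin.cases 0 fun j' => if i' = j' then 1 else 0) : M5) := by
    ext i j
    cases i using Fin.cases <;> cases j using Fin.cases <;>
      simp [cornerM, A₀, Matrix.mul_apply, Fin.sum_univ_succ, hg, firstVec, Fin.succ_ne_zero]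
  have hu : ((rowSL fun j => (g : M5) 0 j.succ : SL5) : M5) = Matrix.of (Fin.cases (Fin.cases 1 fun j => (g : M5) 0 j.succ)
      fun i' => Fin.cases 0 fun j' => if i' = j' then 1 else 0) := by
    simp only [rowSL, Matrix.SpecialLinearGroup.coe_mul, slTransvection_coe]
    ext i j
    simp only [Matrix.of_apply]
    exact rowSL_apply (fun j => (g : M5) 0 j.succ) i j
  have hd : A₀.det = 1 := by
    have := congrArg Matrix.det hm
    rw [Matrix.det_mul, cornerM_det, ← hu, Matrix.SpecialLinearGroup.det_coe, Matrix.SpecialLinearGroup.det_coe,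
      mul_one] at this
    exact this.symm
  refine ⟨⟨A₀, hd⟩, Subtype.ext ?_⟩
  rw [Matrix.SpecialLinearGroup.coe_mul, hu]
  exact hm

theorem smul_firstVec (g : SL5) : g • firstVec = fun i => (g : M5) i 0 := by
  show (g : M5) *ᵥ firstVec = _
  funext i
  simp [firstVec]

theorem fixed_mem (h : gensStab.all invCode = true) (g : SL5) (hg : g • firstVec = firstVec) :
    g ∈ Subgroup.closure (genSL gensStab h '' {x | x < gensStab.length}) := by
  obtain ⟨-, -, ht, -⟩ := stab_ok
  obtain ⟨A, e⟩ := fixed_decompose g fun i => congrFun ((smul_firstVec g).symm.trans hg) i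
  rw [e]
  refine mul_mem ?_ ?_
  · set K := Subgroup.closure (genSL gensStab h '' {x | x < gensStab.length})
    have hA : A ∈ K.comap cornerHom := by
      have : (⊤ : Subgroup SL4) ≤ K.comap cornerHom := by
        rw [← Cfsg.Agent.Classical.sl_closure_transvections, Subgroup.closure_le]
        rintro s ⟨i, j, hij, c, rfl⟩
        have hs : i.succ ≠ j.succ := fun q => hij (Fin.succ_injective _ q)
        have e' : cornerHom (Matrix.SpecialLinearGroup.transvection hij c) =
            Matrix.SpecialLinearGroup.transvection hs c := Subtype.ext (corner_transvection i j c)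
        show cornerHom _ ∈ K
        rw [e']
        exact transvection_mem_closure _ h _ hs (ht _ _ hs (Fin.succ_ne_zero j)) c
      exact this (Subgroup.mem_top A)
    exact hA
  · unfold rowSL
    refine mul_mem (mul_mem (mul_mem ?_ ?_) ?_) ?_ <;>
      exact transvection_mem_closure _ h tabStab _ (ht _ _ (by decide) (by decide)) _

theorem stab_target : ∃ v : Fin 5 → ZMod 2, v ≠ 0 ∧ ∃ f : ℕ → MulAction.stabilizer SL5 v,
    (∀ x, f x * f x = 1) ∧ (∀ x, 6 ≤ x → f x = 1) ∧ (∀ r ∈ pRel ++ closedRel, (r.map f).prod = 1) ∧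
      Subgroup.closure (f '' {x | x < 6}) = ⊤ := by
  obtain ⟨h, hr, -, hc⟩ := stab_ok
  have hfix : ∀ x, genSL gensStab h x ∈ MulAction.stabilizer SL5 firstVec := fun x => by
    rw [MulAction.mem_stabilizer_iff, smul_firstVec]
    funext i
    refine hc _ ?_ i
    by_cases hx : x < gensStab.length
    · rw [List.getD_eq_getElem gensStab onec hx]
      exact List.mem_cons_of_mem _ (List.getElem_mem hx)
    · rw [List.getD_eq_default _ _ (by omega)]
      exact List.mem_cons_self
  refine ⟨firstVec, by decide, fun x => ⟨genSL gensStab h x, hfix x⟩, fun x => Subtype.ext (genSL_sq _ h x),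
    fun x hx => Subtype.ext (genSL_one _ h hx), fun r hm => Subtype.ext ?_, ?_⟩
  · rw [Subgroup.val_list_prod, List.map_map, OneMemClass.coe_one]
    exact prod_genSL_eq_one _ h _ hr r hm
  · refine eq_top_iff.2 fun g _ => ?_
    have hg := fixed_mem h g.1 g.2
    set f : ℕ → MulAction.stabilizer SL5 firstVec := fun x => ⟨genSL gensStab h x, hfix x⟩
    rw [show genSL gensStab h '' {x | x < gensStab.length} =
        (MulAction.stabilizer SL5 firstVec).subtype '' (f '' {x | x < 6}) by
      rw [Set.image_image]; rfl, ← MonoidHom.map_closure] at hg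
    obtain ⟨g', hg', e⟩ := hg
    rwa [Subtype.ext e] at hg'

end Cfsg.Agent.Spor.TranCent
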