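import Cfsg.Agent.Lib.Spor.TranCent.RelCheck
import Cfsg.Agent.Lib.Spor.TranCent.RelWords
import Cfsg.Agent.Lib.Spor.TranCent.SevenWords
import Cfsg.Agent.Lib.Spor.TranCent.RepThreeCheck
import Cfsg.Agent.Lib.Spor.TranCent.TargetLinear

/-!
Words giving the fusion of the representatives in the possible groups.
-/

set_option autoImplicit false
set_option maxRecDepth 100000

namespace Cfsg.Agent.Spor.TranCent

/-- a word saying that conjugation by `w` takes representative `i` to representative `j` -/
def fusionRel (w : List ℕ) (i j : ℕ) : List ℕ :=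
  w ++ repWords.getD i [] ++ w.reverse ++ (repWords.getD j []).reverse

/-- the fifth to the third -/
def fiveWord : List ℕ := [1, 4, 5, 4, 2]

/-- the sixth to the transvection -/
def sixHe : List ℕ := [5, 4, 1, 5, 4, 1, 5, 4, 3, 4, 5, 4, 1, 2, 5, 4, 5, 1]

/-- the sixth to the third -/
def sixMathieu : List ℕ := [5, 4, 1, 5, 4, 5, 4]

theorem fusion_shape : heFusion = [fusionRel fiveWord 5 3, fusionRel sixHe 6 0] ∧
    mathieuFusion = [fusionRel fiveWord 5 3, fusionRel sixMathieu 6 3] := by decide +kernel

/-- traced conjugations to the transvection in the twisted groups -/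
def twistMoves : List (ℕ × List ℕ) :=
  [(1, [5]), (2, [5, 4, 5, 1, 4, 5, 1, 4, 5, 3, 4, 0]), (4, [5, 4, 5, 1, 4, 5, 3, 2, 4, 3]),
    (7, [5, 4, 5, 3, 0, 2, 4, 1])]

theorem twist_moves : (twistMoves.all fun p =>
    isCode (trace [moveOne 0] p.2 (rp p.1)) tc && below 6 p.2) = true := by decide +kernel

/-- conjugations in the linear group -/
def linearWords : List (List ℕ × ℕ × ℕ) :=
  [([5], 1, 0), ([6], 2, 0), ([5, 4, 6, 2], 4, 0), ([1, 6, 2], 5, 3), ([1, 0, 6, 1, 0], 6, 3),
    ([5, 3, 2, 4, 5, 0], 7, 3)]

/-- their relators -/
def linearFusion : List (List ℕ) := linearWords.map fun p => fusionRel p.1 p.2.1 p.2.2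

theorem linear_fusion_ok : linearFusion.all (fun r => Nat.beq (evalIn gensZero r) onec) = true ∧
    linearFusion.all (fun r => Nat.beq (evalIn gensFive r) onec) = true ∧
    linearWords.all (fun p => below 7 p.1) = true := by decide +kernel

theorem seven_shape : (below 6 fourW && eqv (evalw fourW) kCode && below 5 fourW && below 6 sevenX &&
    below 6 sevenW && below 6 fiveWord && below 6 sixHe && below 6 sixMathieu) = true := by decide +kernel

/-- `z` and the conjugates of the first representative under the centraliser -/
def firstList : List ℕ := tc :: (hitTab.filter fun p => eqv p.2.2 1).map fun p => p.1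

theorem first_facts : (eqv firstList.length 15 && eqv els.length 21504) = true ∧ firstList.Nodup ∧
    (firstList.all fun x => els.contains x) = true := by decide +kernel

end Cfsg.Agent.Spor.TranCent
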