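import Cfsg.Agent.Lib.Spor.SL5Transvection

/-!
Matrices of dimension five over the field with two elements as numbers: a row is a five-bit number, the
product of two codes, and the codes of the centraliser of a transvection.
-/

set_option autoImplicit false

namespace Cfsg.Agent.Spor.TranCent

open Matrix

local notation "F₂" => ZMod 2
local notation "M5" => Matrix (Fin 5) (Fin 5) (ZMod 2)

/-- row `i` of a code -/
def row (c i : ℕ) : ℕ := Nat.land (Nat.shiftRight c (Nat.mul 5 i)) 31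

/-- `v` if bit `j` of `x` is set, else zero -/
def pick (x j v : ℕ) : ℕ := bif Nat.beq (Nat.land (Nat.shiftRight x j) 1) 1 then v else 0

/-- image of a row vector under a code -/
def img (n x : ℕ) : ℕ :=
  Nat.xor (Nat.xor (Nat.xor (Nat.xor (pick x 0 (row n 0)) (pick x 1 (row n 1))) (pick x 2 (row n 2)))
    (pick x 3 (row n 3))) (pick x 4 (row n 4))

/-- five rows as a code -/
def join (r0 r1 r2 r3 r4 : ℕ) : ℕ :=
  Nat.add (Nat.add (Nat.add (Nat.add r0 (Nat.shiftLeft r1 5)) (Nat.shiftLeft r2 10)) (Nat.shiftLeft r3 15))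
    (Nat.shiftLeft r4 20)

/-- product of codes -/
def mulc (a b : ℕ) : ℕ :=
  join (img b (row a 0)) (img b (row a 1)) (img b (row a 2)) (img b (row a 3)) (img b (row a 4))

/-- code of the identity -/
def onec : ℕ := join 1 2 4 8 16

/-- number of a row vector -/
def enc (v : Fin 5 → F₂) : ℕ := (v 0).val + 2 * (v 1).val + 4 * (v 2).val + 8 * (v 3).val + 16 * (v 4).val

/-- code of a matrix -/
def code (M : M5) : ℕ := join (enc (M 0)) (enc (M 1)) (enc (M 2)) (enc (M 3)) (enc (M 4))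

theorem enc_facts : ∀ v : Fin 5 → F₂, enc v < 32 ∧ ∀ j : Fin 5, pick (enc v) j 1 = (v j).val := by
  decide +kernel

theorem enc_lt (v : Fin 5 → F₂) : enc v < 32 := (enc_facts v).1

theorem enc_add : ∀ v w : Fin 5 → F₂, enc (v + w) = Nat.xor (enc v) (enc w) := by decide +kernel

theorem enc_inj : ∀ v w : Fin 5 → F₂, enc v = enc w → v = w := by decide +kernel

theorem join_div (r0 r1 r2 r3 r4 : ℕ) :
    join r0 r1 r2 r3 r4 = r0 + r1 * 32 + r2 * 1024 + r3 * 32768 + r4 * 1048576 := by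
  unfold join
  rw [show Nat.shiftLeft r1 5 = r1 * 32 from Nat.shiftLeft_eq r1 5,
    show Nat.shiftLeft r2 10 = r2 * 1024 from Nat.shiftLeft_eq r2 10,
    show Nat.shiftLeft r3 15 = r3 * 32768 from Nat.shiftLeft_eq r3 15,
    show Nat.shiftLeft r4 20 = r4 * 1048576 from Nat.shiftLeft_eq r4 20]
  rfl

theorem row_eq (c i : ℕ) : row c i = c / 2 ^ (5 * i) % 32 := by
  show (c >>> (5 * i)) &&& 31 = _
  rw [show (31 : ℕ) = 2 ^ 5 - 1 from rfl, Nat.and_two_pow_sub_one_eq_mod, Nat.shiftRight_eq_div_pow]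

theorem row_join {r0 r1 r2 r3 r4 : ℕ} (h0 : r0 < 32) (h1 : r1 < 32) (h2 : r2 < 32) (h3 : r3 < 32) (h4 : r4 < 32) :
    row (join r0 r1 r2 r3 r4) 0 = r0 ∧ row (join r0 r1 r2 r3 r4) 1 = r1 ∧ row (join r0 r1 r2 r3 r4) 2 = r2 ∧
      row (join r0 r1 r2 r3 r4) 3 = r3 ∧ row (join r0 r1 r2 r3 r4) 4 = r4 := by
  simp only [row_eq, join_div]
  norm_num
  omega

theorem row_code (M : M5) (i : Fin 5) : row (code M) i = enc (M i) := by
  obtain ⟨e0, e1, e2, e3, e4⟩ :=
    row_join (enc_lt (M 0)) (enc_lt (M 1)) (enc_lt (M 2)) (enc_lt (M 3)) (enc_lt (M 4))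
  fin_cases i
  · exact e0
  · exact e1
  · exact e2
  · exact e3
  · exact e4

theorem code_inj {M N : M5} (h : code M = code N) : M = N := by
  ext1 i
  exact congrFun (enc_inj _ _ ((row_code M i).symm.trans ((congrArg (row · i) h).trans (row_code N i))))

theorem pick_enc : ∀ (v w : Fin 5 → F₂) (j : Fin 5), pick (enc v) j (enc w) = enc (v j • w) := by
  decide +kernel

theorem img_code (N : M5) (v : Fin 5 → F₂) : img (code N) (enc v) = enc (v ᵥ* N) := by
  have h : ∀ j : Fin 5, pick (enc v) j (row (code N) j) = enc (v j • N j) := fun j => by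
    rw [row_code, pick_enc]
  have e : v ᵥ* N = v 0 • N 0 + v 1 • N 1 + v 2 • N 2 + v 3 • N 3 + v 4 • N 4 := by
    funext k
    simp [Matrix.vecMul, dotProduct, Fin.sum_univ_five]
  rw [e, enc_add, enc_add, enc_add, enc_add, ← h 0, ← h 1, ← h 2, ← h 3, ← h 4]
  rfl

theorem code_mul (M N : M5) : code (M * N) = mulc (code M) (code N) := by
  have h : ∀ i : Fin 5, img (code N) (row (code M) i) = enc ((M * N) i) := fun i => by
    rw [row_code, img_code]
    rfl
  unfold mulc code
  rw [← h 0, ← h 1, ← h 2, ← h 3, ← h 4]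
  rfl

theorem code_one : code (1 : M5) = onec := by decide +kernel

/-! ### the codes of the centraliser -/

/-- the determinant of the block, as a bit -/
def blockBit (r2 r3 r4 : ℕ) : Bool :=
  let b := fun x j => Nat.beq (Nat.land (Nat.shiftRight x j) 1) 1
  xor (xor (b r2 2 && xor (b r3 3 && b r4 4) (b r3 4 && b r4 3))
    (b r2 3 && xor (b r3 2 && b r4 4) (b r3 4 && b r4 2)))
    (b r2 4 && xor (b r3 2 && b r4 3) (b r3 3 && b r4 2))

/-- all codes of the centraliser -/
def els : List ℕ :=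
  (List.range 16).flatMap fun a => (List.range 16).flatMap fun b => (List.range 16).flatMap fun c =>
    bif blockBit (Nat.mul 2 a) (Nat.mul 2 b) (Nat.mul 2 c) then
      (List.range 16).map fun r => join (Nat.add 1 (Nat.mul 2 r)) 2 (Nat.mul 2 a) (Nat.mul 2 b) (Nat.mul 2 c)
    else []

/-- the transvection -/
def sM : M5 := Matrix.transvection 0 1 1

/-- the code of the transvection -/
def tc : ℕ := join 3 2 4 8 16

theorem code_sM : code sM = tc := by decide +kernel

theorem tvShape_mem {M : M5} (h : tvShape M) (hd : M.det = 1) : code M ∈ els := by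
  have h1 := tv_det h
  rw [hd, ← h.2.2] at h1
  obtain ⟨e0, eb⟩ := (by decide : ∀ x y : F₂, 1 = x * (x * y) → x = 1 ∧ y = 1) _ _ h1
  obtain ⟨⟨a1, a2, a3, a4⟩, ⟨b2, b3, b4⟩, e01⟩ := h
  rw [e0] at e01
  have hv : ∀ x : F₂, x.val < 2 := fun x => x.val_lt
  have := hv (M 0 1); have := hv (M 0 2); have := hv (M 0 3); have := hv (M 0 4)
  have := hv (M 2 1); have := hv (M 2 2); have := hv (M 2 3); have := hv (M 2 4)
  have := hv (M 3 1); have := hv (M 3 2); have := hv (M 3 3); have := hv (M 3 4)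
  have := hv (M 4 1); have := hv (M 4 2); have := hv (M 4 3); have := hv (M 4 4)
  have hhalf : ∀ v : Fin 5 → F₂, (enc v / 2 < 16) ∧ (v 0 = 0 → 2 * (enc v / 2) = enc v) ∧
      (v 0 = 1 → 1 + 2 * (enc v / 2) = enc v) := by decide +kernel
  have e2 : Nat.mul 2 (enc (M 2) / 2) = enc (M 2) := (hhalf _).2.1 a2
  have e3 : Nat.mul 2 (enc (M 3) / 2) = enc (M 3) := (hhalf _).2.1 a3
  have e4 : Nat.mul 2 (enc (M 4) / 2) = enc (M 4) := (hhalf _).2.1 a4
  have e5 : Nat.add 1 (Nat.mul 2 (enc (M 0) / 2)) = enc (M 0) := (hhalf _).2.2 e0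
  have r1 : (2 : ℕ) = enc (M 1) := by
    simp only [enc, a1, b2, b3, b4, ← e01, ZMod.val_zero, ZMod.val_one]
  simp only [els, List.mem_flatMap, List.mem_range]
  refine ⟨_, (hhalf (M 2)).1, _, (hhalf (M 3)).1, _, (hhalf (M 4)).1, ?_⟩
  rw [e2, e3, e4]
  have hgood : blockBit (enc (M 2)) (enc (M 3)) (enc (M 4)) = true := by
    have key : ∀ (a b c : Fin 5 → F₂), a 2 * (b 3 * c 4) - a 2 * (b 4 * c 3) - a 3 * (b 2 * c 4)
        + a 3 * (b 4 * c 2) + a 4 * (b 2 * c 3) - a 4 * (b 3 * c 2) = 1 →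
        blockBit (enc a) (enc b) (enc c) = true := by
      intro a b c
      have hb : ∀ (v : Fin 5 → F₂) (j : Fin 5), Nat.beq (Nat.land (Nat.shiftRight (enc v) j) 1) 1 = decide (v j = 1) := by
        decide +kernel
      have hb' : ∀ (v : Fin 5 → F₂), Nat.beq (Nat.land (Nat.shiftRight (enc v) 2) 1) 1 = decide (v 2 = 1) ∧
          Nat.beq (Nat.land (Nat.shiftRight (enc v) 3) 1) 1 = decide (v 3 = 1) ∧
          Nat.beq (Nat.land (Nat.shiftRight (enc v) 4) 1) 1 = decide (v 4 = 1) :=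
        fun v => ⟨hb v 2, hb v 3, hb v 4⟩
      simp only [blockBit, (hb' a).1, (hb' a).2.1, (hb' a).2.2, (hb' b).1, (hb' b).2.1, (hb' b).2.2,
        (hb' c).1, (hb' c).2.1, (hb' c).2.2]
      generalize a 2 = a2; generalize a 3 = a3; generalize a 4 = a4
      generalize b 2 = b2; generalize b 3 = b3; generalize b 4 = b4
      generalize c 2 = c2; generalize c 3 = c3; generalize c 4 = c4
      revert a2 a3 a4 b2 b3 b4 c2 c3 c4
      decide +kernel
    refine key _ _ _ ?_
    rw [← eb, Matrix.det_fin_three]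
    simp only [tvBlock, Matrix.submatrix_apply]
    rw [show ((0 : Fin 3).succ.succ : Fin 5) = 2 from rfl, show ((1 : Fin 3).succ.succ : Fin 5) = 3 from rfl,
      show ((2 : Fin 3).succ.succ : Fin 5) = 4 from rfl]
    ring
  rw [hgood, cond_true, List.mem_map]
  exact ⟨enc (M 0) / 2, List.mem_range.2 (hhalf _).1, by rw [e5, r1]; rfl⟩

attribute [irreducible] els code onec tc

end Cfsg.Agent.Spor.TranCent
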