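import Cfsg.Agent.Lib.Spor.TranCent.Trace

/-!
The relators satisfied by the letters and the exchanging involutions.
-/

set_option autoImplicit false
set_option linter.style.haveILetI false
set_option maxRecDepth 100000

namespace Cfsg.Agent.Spor.TranCent

attribute [local irreducible] mulc

variable {G : Type*} [Group G] {z : G}

/-- all relators in a list hold -/
def Sat {M : Type*} [Monoid M] (f : ℕ → M) (R : List (List ℕ)) : Prop := ∀ r ∈ R, (r.map f).prod = 1

theorem Sat.append {M : Type*} [Monoid M] {f : ℕ → M} {R R' : List (List ℕ)} (h : Sat f R) (h' : Sat f R') :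
    Sat f (R ++ R') := fun r hr => (List.mem_append.1 hr).elim (h r) (h' r)

theorem Sat.single {M : Type*} [Monoid M] {f : ℕ → M} {r : List ℕ} (h : (r.map f).prod = 1) : Sat f [r] := by
  intro r' hr
  rw [List.mem_singleton.1 hr]; exact h

/-- the data of a power -/
def pe (n : ℕ) : ℕ × List ℕ × List ℕ × List ℕ × List (List ℕ) × List (List ℕ) :=
  powTab.getD n (0, [], [], [], [], [])

theorem word_facts :
    (∀ w ∈ cRel ++ pRel, below 5 w = true ∧ evalw w = onec) ∧
    (∀ i < 2, ∀ j < 4, below 5 ((imgW.getD i []).getD j []) = true ∧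
      evalw ((imgW.getD i []).getD j []) = (autImg i).getD j 0) ∧
    (∀ j < 3, below 5 (imgP.getD j []) = true ∧ evalw (imgP.getD j []) = (autImg 0).getD j 0) ∧
    (below 5 repTwoW = true ∧ evalw repTwoW = rp 2) ∧ (below 5 repTwoP = true ∧ evalw repTwoP = rp 2) ∧
    (∀ n < 3, below 5 (pe n).2.1 = true ∧ below 5 (pe n).2.2.1 = true ∧ evalw (pe n).2.2.1 = evalw (pe n).2.1 ∧
      ∀ v < (pe n).2.2.2.1.length,
        (below 5 ((pe n).2.2.2.2.1.getD v []) = true ∧ evalw ((pe n).2.2.2.2.1.getD v []) = (pe n).2.2.2.1.getD v 0) ∧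
        below 5 ((pe n).2.2.2.2.2.getD v []) = true ∧
          evalw ((pe n).2.2.2.2.2.getD v []) = (pe n).2.2.2.1.getD v 0) ∧
    (∀ v < 8, below 5 (joinValW.getD v []) = true ∧ evalw (joinValW.getD v []) = joinVal.getD v 0) ∧
    (∀ j < 5, below 5 (dualW.getD j []) = true ∧ evalw (dualW.getD j []) = dualL.getD j 0) ∧
    below 5 dualTwoW = true := by
  have h := words_ok
  simp only [Bool.and_eq_true, List.all_eq_true, List.mem_range, eqv, List.mem_append] at h ⊢
  obtain ⟨⟨⟨⟨⟨⟨⟨⟨⟨⟨⟨⟨⟨⟨⟨h1, h2⟩, h3⟩, h4⟩, h5a⟩, h5b⟩, h6a⟩, h6b⟩, h7⟩, h8⟩, h9⟩, h10⟩, -⟩, -⟩, -⟩, -⟩ := h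
  refine ⟨fun w hw => ?_, fun i hi j hj => ⟨(h3 i hi j hj).2, Nat.eq_of_beq_eq_true (h3 i hi j hj).1⟩,
    fun j hj => ⟨(h4 j hj).2, Nat.eq_of_beq_eq_true (h4 j hj).1⟩, ⟨h5b, Nat.eq_of_beq_eq_true h5a⟩,
    ⟨h6b, Nat.eq_of_beq_eq_true h6a⟩, fun n hn => ?_,
    fun v hv => ⟨(h8 v hv).2, Nat.eq_of_beq_eq_true (h8 v hv).1⟩,
    fun j hj => ⟨(h9 j hj).2, Nat.eq_of_beq_eq_true (h9 j hj).1⟩, h10⟩
  · rcases hw with hw | hw
    exacts [⟨(h1 w hw).2, Nat.eq_of_beq_eq_true (h1 w hw).1⟩, ⟨(h2 w hw).2, Nat.eq_of_beq_eq_true (h2 w hw).1⟩]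
  · obtain ⟨⟨⟨e, b1⟩, b2⟩, hv⟩ := h7 n hn
    refine ⟨b1, b2, Nat.eq_of_beq_eq_true e, fun v hlt => ?_⟩
    obtain ⟨⟨⟨e1, e2⟩, c1⟩, c2⟩ := hv v hlt
    exact ⟨⟨c1, Nat.eq_of_beq_eq_true e1⟩, c2, Nat.eq_of_beq_eq_true e2⟩

theorem Fr.word_eq (F : Fr G z) (a b : G) {w : List ℕ} {c : ℕ} (h : below 5 w = true ∧ evalw w = c) :
    (w.map (F.lm a b)).prod = F.el c := by rw [F.lm_word a b h.1, h.2]

theorem Fr.rev_eq (F : Fr G z) {a b : G} (ha : a * a = 1) (hb : b * b = 1) {w : List ℕ} {c : ℕ}
    (h : below 5 w = true ∧ evalw w = c) : (w.reverse.map (F.lm a b)).prod = (F.el c)⁻¹ := by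
  rw [prod_rev (F.lm_sq ha hb), F.word_eq a b h]

theorem Fr.sat_cent (F : Fr G z) (a b : G) {R : List (List ℕ)} (hR : ∀ w ∈ R, w ∈ cRel ++ pRel) :
    Sat (F.lm a b) R := fun r hr => by rw [F.word_eq a b (word_facts.1 r (hR r hr)), F.el_one]

theorem Side.sat_side {F : Fr G z} (S : Side F) {i : ℕ} (hi : i < 2) {b : G} (hb : b * b = 1)
    (h : ∀ j < 4, S.g * F.lt j * S.g = F.el ((autImg i).getD j 0)) :
    Sat (F.lm S.g b) (sideRel i) := by
  refine ((Sat.single ?_).append ?_).append (Sat.single ?_)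
  · simp [F.lm_five, S.sq]
  · intro r hr
    obtain ⟨j, hj, rfl⟩ := List.mem_map.1 hr
    have hj' := List.mem_range.1 hj
    rw [List.map_append, List.prod_append, F.rev_eq S.sq hb (word_facts.2.1 i hi j hj'), ← h j hj']
    simp [F.lm_five, F.lm_lt _ _ (show j < 5 by omega), mul_assoc]
  · rw [prod_powWord, List.map_cons, List.prod_cons, F.word_eq S.g b word_facts.2.2.2.1, F.lm_five,
      pow_succ, pow_succ, pow_one]
    exact S.braid

theorem Side.sat_sideP {F : Fr G z} (S : Side F) {b : G} (hb : b * b = 1)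
    (h : ∀ j < 4, S.g * F.lt j * S.g = F.el ((autImg 0).getD j 0)) :
    Sat (F.lm S.g b) ([[5, 5]] ++ ((List.range 3).map fun j => [5, j, 5] ++ (imgP.getD j []).reverse) ++
      [powWord 3 (5 :: repTwoP)]) := by
  refine ((Sat.single ?_).append ?_).append (Sat.single ?_)
  · simp [F.lm_five, S.sq]
  · intro r hr
    obtain ⟨j, hj, rfl⟩ := List.mem_map.1 hr
    have hj' := List.mem_range.1 hj
    rw [List.map_append, List.prod_append, F.rev_eq S.sq hb (word_facts.2.2.1 j hj'), ← h j (by omega)]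
    simp [F.lm_five, F.lm_lt _ _ (show j < 5 by omega), mul_assoc]
  · rw [prod_powWord, List.map_cons, List.prod_cons, F.word_eq S.g b word_facts.2.2.2.2.1, F.lm_five,
      pow_succ, pow_succ, pow_one]
    exact S.braid

theorem pe_bounds : ∀ n < 3, (pe n).2.2.2.1.length = if n = 2 then 2 else 4 := by decide +kernel

/-- in the first case each recorded power has one of its values -/
theorem Side.exists_power {F : Fr G z} (S : Side F)
    (h : ∀ j < 4, S.g * F.lt j * S.g = F.el ((autImg 0).getD j 0)) {n : ℕ} (hn : n < 3) :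
    ∃ v < (pe n).2.2.2.1.length, ((powRel n v).map (F.lm S.g 1)).prod = 1 ∧
      ((powRelP n v).map (F.lm S.g 1)).prod = 1 := by
  have hms : MovesOK F [moveOne 0] S.g 1 := movesOK_one (S.moveOK (by omega) wordOne h)
  obtain ⟨v, -, hv, e⟩ := F.pow_value hms plane_mem plane_cent (List.all_eq_true.mp pows_ok n (List.mem_range.2 hn))
  obtain ⟨b1, b2, heq, hval⟩ := word_facts.2.2.2.2.2.1 n hn
  refine ⟨v, hv, ?_, ?_⟩
  · show (((powWord (pe n).1 (5 :: (pe n).2.1)) ++ ((pe n).2.2.2.2.1.getD v []).reverse).map (F.lm S.g 1)).prod = 1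
    rw [List.map_append, List.prod_append, prod_powWord, F.rev_eq S.sq (one_mul 1) (hval v hv).1]
    exact mul_inv_eq_one.2 e
  · show (((powWord (pe n).1 (5 :: (pe n).2.2.1)) ++ ((pe n).2.2.2.2.2.getD v []).reverse).map (F.lm S.g 1)).prod = 1
    rw [List.map_append, List.prod_append, prod_powWord, F.rev_eq S.sq (one_mul 1) (hval v hv).2,
      List.map_cons, List.prod_cons, F.word_eq S.g 1 ⟨b2, heq⟩]
    change ((List.map (F.lm S.g 1) (5 :: (pe n).2.1)).prod) ^ (pe n).1 = F.el ((pe n).2.2.2.1.getD v 0) at e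
    rw [List.map_cons, List.prod_cons, F.word_eq S.g 1 ⟨b1, rfl⟩] at e
    exact mul_inv_eq_one.2 e

/-- in the second case the relators hold -/
theorem Side.sat_closed {F : Fr G z} (S : Side F) {b : G} (hb : b * b = 1)
    (h : ∀ j < 4, S.g * F.lt j * S.g = F.el ((autImg 1).getD j 0)) : Sat (F.lm S.g b) closedRel := by
  refine ((F.sat_cent S.g b fun w hw => List.mem_append_left _ hw).append (S.sat_side (by norm_num) hb h)).append
    (Sat.single ?_)
  have hms : MovesOK F [moveOne 1] S.g b := movesOK_one (S.moveOK (by omega) wordOne h)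
  obtain ⟨v, -, hv, e⟩ := F.pow_value hms space_mem space_cent closed_ok
  obtain rfl : v = 0 := by simpa using hv
  rw [prod_powWord, e, List.getD_cons_zero, F.el_one]

theorem closedW_shape : closedW = 5 :: closedW.tail ∧ below 5 closedW.tail = true := by decide +kernel

theorem dual_list : (∀ j < 4, dualImg.getD j 0 = evalw (dualImgW.getD j [])) ∧
    (∀ j < 4, below 5 (dualImgW.getD j []) = true) := by decide +kernel

/-- in the second case with the other class fused as well, the relators of both sides hold -/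
theorem Side.sat_double {F : Fr G z} (S : Side F) (T : Side F.twist)
    (h : ∀ j < 4, S.g * F.lt j * S.g = F.el ((autImg 1).getD j 0))
    (h' : ∀ j < 4, T.g * F.twist.lt j * T.g = F.twist.el ((autImg 1).getD j 0)) :
    ∃ v < 8, Sat (F.lm S.g T.g) (doubleRel v) := by
  have hd5 := dual_checks.2.2.2.2.1
  have hd4 := dual_checks.2.2.2.2.2
  have hdl : ∀ j < 5, dualL.getD j 0 ∈ els ∧ F.twist.lt j = F.el (dualL.getD j 0) := by
    intro j hj
    obtain ⟨hw, e⟩ := word_facts.2.2.2.2.2.2.2.1 j hj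
    have hm : dualL.getD j 0 ∈ els := e ▸ evalw_mem (below_iff.1 hw)
    exact ⟨hm, congrArg F.el (dualC_eq (letters_mem hj) hm (hd5 j hj))⟩
  have hdi : ∀ j < 4, dualImg.getD j 0 ∈ els ∧ F.twist.el ((autImg 1).getD j 0) = F.el (dualImg.getD j 0) := by
    intro j hj
    have hm : dualImg.getD j 0 ∈ els := dual_list.1 j hj ▸ evalw_mem (below_iff.1 (dual_list.2 j hj))
    exact ⟨hm, congrArg F.el (dualC_eq (autImg_mem (by norm_num) hj) hm (hd4 j hj))⟩
  have hlen : ∀ j < 4, dualL.getD j onec = dualL.getD j 0 ∧ dualImg.getD j onec = dualImg.getD j 0 := by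
    intro j hj
    have l1 : dualL.length = 5 := by decide +kernel
    have l2 : dualImg.length = 4 := by decide +kernel
    rw [List.getD_eq_getElem _ _ (by omega), List.getD_eq_getElem _ _ (by omega),
      List.getD_eq_getElem _ _ (by omega), List.getD_eq_getElem _ _ (by omega)]
    exact ⟨rfl, rfl⟩
  have m2 : MoveOK F moveTwo T.g := by
    refine ⟨T.sq, fun j hj => ?_, fun j hj => ?_, fun j hj => ?_⟩
    · show dualL.getD j onec ∈ els
      rw [(hlen j hj).1]; exact (hdl j (by omega)).1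
    · show dualImg.getD j onec ∈ els
      rw [(hlen j hj).2]; exact (hdi j hj).1
    · show MulAut.conj T.g (F.el (dualL.getD j onec)) = F.el (dualImg.getD j onec)
      rw [(hlen j hj).1, (hlen j hj).2, ← (hdi j hj).2, ← (hdl j (by omega)).2, MulAut.conj_apply,
        inv_eq_of_mul_eq_one_right T.sq]
      exact h' j hj
  have m1 : MoveOK F (moveOne 1) S.g := S.moveOK (by omega) wordOne h
  have hms : MovesOK F [moveOne 1, moveTwo] S.g T.g := by
    intro n m hn
    match n with
    | 0 => obtain rfl : moveOne 1 = m := by simpa using hn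
           rwa [zero_add, F.lm_five]
    | 1 => obtain rfl : moveTwo = m := by simpa using hn
           rwa [show 1 + 5 = 6 from rfl, F.lm_six]
    | n + 2 => simp at hn
  obtain ⟨v, -, hv, e⟩ := F.pow_value hms plane_mem plane_cent join_ok
  have hv8 : v < 8 := lt_of_lt_of_eq hv (by decide +kernel)
  refine ⟨v, hv8, ((((S.sat_closed T.sq h).append (Sat.single ?_)).append ?_).append ?_).append (Sat.single ?_)⟩
  · simp [F.lm_six, T.sq]
  · intro r hr
    obtain ⟨j, hj, rfl⟩ := List.mem_map.1 hr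
    have hj' := List.mem_range.1 hj
    simp only [List.map_append, List.prod_append, List.map_cons, List.map_nil, List.prod_cons, List.prod_nil,
      mul_one, F.lm_six]
    rw [F.word_eq S.g T.g (word_facts.2.2.2.2.2.2.2.1 j (by omega)), ← (hdl j (by omega)).2,
      F.rev_eq S.sq T.sq ⟨dual_list.2 j hj', rfl⟩, ← dual_list.1 j hj', ← (hdi j hj').2, ← h' j hj', mul_inv_cancel]
  · have htail : ∀ {w : List ℕ}, (∀ j ∈ w, j < 5) →
        ((w.flatMap fun j => dualW.getD j []).map (F.lm S.g T.g)).prod = (w.map F.twist.lt).prod := by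
      intro w
      induction w with
      | nil => intro _; rfl
      | cons j w ih =>
        intro hw
        have hj := hw j List.mem_cons_self
        rw [List.flatMap_cons, List.map_append, List.prod_append, ih fun i hi => hw i (List.mem_cons_of_mem _ hi),
          F.word_eq S.g T.g (word_facts.2.2.2.2.2.2.2.1 j hj), ← (hdl j hj).2]
        rfl
    refine (Sat.single ?_).append (Sat.single ?_)
    · rw [prod_powWord, List.map_cons, List.prod_cons, F.lm_six, F.lm_word S.g T.g word_facts.2.2.2.2.2.2.2.2]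
      have hm : evalw dualTwoW ∈ els := evalw_mem (below_iff.1 word_facts.2.2.2.2.2.2.2.2)
      have e2 : F.el (evalw dualTwoW) = F.twist.rep 2 :=
        (congrArg F.el (dualC_eq (rp_spec (by norm_num)).1 hm dual_checks.2.2.2.1)).symm
      rw [e2, pow_succ, pow_succ, pow_one]
      exact T.braid
    · have e5 := T.sat_closed (one_mul 1) h' (powWord 5 closedW)
        (List.mem_append_right _ (List.mem_singleton.2 rfl))
      rw [closedW_shape.1, prod_powWord, List.map_cons, List.prod_cons, F.twist.lm_five,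
        F.twist.lm_word T.g 1 closedW_shape.2, F.twist.el_evalw (below_iff.1 closedW_shape.2)] at e5
      rw [prod_powWord, List.map_cons, List.prod_cons, F.lm_six, htail (below_iff.1 closedW_shape.2)]
      exact e5
  · rw [List.map_append, List.prod_append, prod_powWord,
      F.rev_eq S.sq T.sq (word_facts.2.2.2.2.2.2.1 v hv8)]
    exact mul_inv_eq_one.2 e

end Cfsg.Agent.Spor.TranCent
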