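import Cfsg.Agent.Lib.Spor.TranCent.Cert.BadCubeACert
import Cfsg.Agent.Lib.Spor.TranCent.Cert.BadCubeBCert
import Cfsg.Agent.Lib.Spor.TranCent.Cert.BadCubeCCert
import Cfsg.Agent.Lib.Spor.TranCent.Cert.BadFifthACert
import Cfsg.Agent.Lib.Spor.TranCent.Cert.BadFifthBCert
import Cfsg.Agent.Lib.Spor.TranCent.Cert.BadSixthACert
import Cfsg.Agent.Lib.Spor.TranCent.Cert.BadSixthBCert
import Cfsg.Agent.Lib.Spor.TranCent.Cert.PlaneOneCert
import Cfsg.Agent.Lib.Spor.TranCent.Cert.SevenCert
import Cfsg.Agent.Lib.Spor.TranCent.Cert.LocalHeCert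
import Cfsg.Agent.Lib.Spor.TranCent.Cert.LocalMathieuCert
import Cfsg.Agent.Lib.Spor.TranCent.Cert.HeCert
import Cfsg.Agent.Lib.Spor.TranCent.Cert.MathieuCert
import Cfsg.Agent.Lib.Spor.TranCent.Cert.ClosedCert
import Cfsg.Agent.Lib.Spor.TranCent.Cert.DoubleACert
import Cfsg.Agent.Lib.Spor.TranCent.Cert.DoubleBCert
import Cfsg.Agent.Lib.Spor.TranCent.Cert.DoubleCCert
import Cfsg.Agent.Lib.Spor.TranCent.Cert.DoubleDCert
import Cfsg.Agent.Lib.Spor.TranCent.Cert.DoubleECert
import Cfsg.Agent.Lib.Spor.TranCent.Cert.DoubleFCert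
import Cfsg.Agent.Lib.Spor.TranCent.Cert.DoubleGCert
import Cfsg.Agent.Lib.Spor.TranCent.Cert.DoubleHCert
import Cfsg.Agent.Lib.Spor.TranCent.Relations

/-!
What the certificates give: the impossible values, and bounds on the orders.
-/

set_option autoImplicit false
set_option linter.style.haveILetI false
set_option maxRecDepth 100000

namespace Cfsg.Agent.Spor.TranCent

open Cfsg.Agent.Spor.CC

variable {M : Type*} [Group M]

/-- letters squaring to one and trivial from seven on -/
structure Inv7 (f : ℕ → M) : Prop where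
  sq : ∀ j, f j * f j = 1
  high : ∀ j, 7 ≤ j → f j = 1

/-- the subgroup generated by some letters -/
def wordsSub (f : ℕ → M) (ks : List ℕ) : Subgroup M := Subgroup.closure (f '' {j | j ∈ ks})

theorem cert_cover {f : ℕ → M} (hf : Inv7 f) {D : Data} {m : ℕ} (hc : Checked D m) {ks : List ℕ}
    (hks : ks.length = D.ng) {R : List (List ℕ)} (hR : Sat f R) {wit : List (ℕ × ℕ × Bool)}
    {subW : List (List ℕ)} (hw : wordsOK D ks 15 R wit subW = true) {H : Subgroup M}
    (hH : ∀ w ∈ subW, (w.map f).prod ∈ H) :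
    let g := fun x => f (ks.getD x 15)
    (∀ x, g x * g x = 1) ∧ g 15 = 1 ∧ Subgroup.closure (g '' {x | x < D.ng}) = wordsSub f ks ∧
    ∀ k, k < D.nw → wLen (fld D.words 512 k) < 256 ∧
      (k < D.nr → ((wDecode (fld D.words 512 k)).map g).prod = 1) ∧
      ((wDecode (fld D.words 512 k)).map g).prod ∈ H := by
  intro g
  refine ⟨fun x => hf.sq _, ?_, ?_, ?_⟩
  · show f (ks.getD 15 15) = 1
    rw [List.getD_eq_default _ _ (by have := hc.ng_le; omega)]
    exact hf.high 15 (by norm_num)
  · rw [wordsSub]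
    congr 1
    ext s
    constructor
    · rintro ⟨x, hx, rfl⟩
      exact ⟨_, by rw [List.getD_eq_getElem _ _ (by rw [hks]; exact hx)]; exact List.getElem_mem _, rfl⟩
    · rintro ⟨y, hy, rfl⟩
      obtain ⟨i, hi, rfl⟩ := List.mem_iff_getElem.mp hy
      exact ⟨i, by rw [← hks]; exact hi, congrArg f (List.getD_eq_getElem _ _ hi)⟩
  · simp only [wordsOK, Bool.and_eq_true, List.all_eq_true, List.mem_range, beq_iff_eq] at hw
    obtain ⟨⟨⟨h1, h2⟩, hr⟩, hs⟩ := hw
    have h1' := Nat.eq_of_beq_eq_true h1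
    have h2' := Nat.eq_of_beq_eq_true h2
    intro k hk
    refine ⟨?_, ?_⟩
    · show fld D.words 512 k &&& 255 < 256
      exact lt_of_le_of_lt Nat.and_le_right (by omega)
    have hone : k < D.nr → ((wDecode (fld D.words 512 k)).map g).prod = 1 := by
      intro hkr
      rw [show g = f ∘ (fun x => ks.getD x 15) from rfl, ← List.map_map, hr k (by omega)]
      exact variant_one f hf.sq hR _
    refine ⟨hone, ?_⟩
    by_cases hkr : k < D.nr
    · rw [hone hkr]; exact one_mem _
    · have hj : k - D.nr < subW.length := by omega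
      have := hs (k - D.nr) hj
      rw [show D.nr + (k - D.nr) = k by omega] at this
      rw [show g = f ∘ (fun x => ks.getD x 15) from rfl, ← List.map_map, this, List.getD_eq_getElem _ _ hj]
      exact hH _ (List.getElem_mem hj)

/-- with a single coset every letter lies in the subgroup -/
theorem cert_mem {f : ℕ → M} (hf : Inv7 f) {D : Data} {m : ℕ} (hc : Checked D m) {ks : List ℕ}
    (hks : ks.length = D.ng) (h1 : D.nn = 1) {R : List (List ℕ)} (hR : Sat f R) {wit : List (ℕ × ℕ × Bool)}
    {subW : List (List ℕ)} (hw : wordsOK D ks 15 R wit subW = true) {H : Subgroup M}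
    (hH : ∀ w ∈ subW, (w.map f).prod ∈ H) {j : ℕ} (hj : j ∈ ks) : f j ∈ H := by
  obtain ⟨g2, g15, hcl, hrel⟩ := cert_cover hf hc hks hR hw hH
  obtain ⟨v, v0, hv⟩ := cover hc _ H g2 g15 hrel
  obtain ⟨u, hu, h⟩ := hv (f j) (by rw [hcl]; exact Subgroup.subset_closure ⟨j, hj, rfl⟩)
  obtain rfl : u = 0 := by omega
  rwa [v0, CC.Rel, inv_one, mul_one] at h

/-- order bound for generated subgroups -/
theorem cert_card {f : ℕ → M} (hf : Inv7 f) {D : Data} {m : ℕ} (hc : Checked D m) {ks : List ℕ}
    (hks : ks.length = D.ng) {R : List (List ℕ)} (hR : Sat f R) {wit : List (ℕ × ℕ × Bool)}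
    {subW : List (List ℕ)} (hw : wordsOK D ks 15 R wit subW = true) {H : Subgroup M}
    (hH : ∀ w ∈ subW, (w.map f).prod ∈ H) {n : ℕ} (hn : Finite H ∧ Nat.card H ≤ n) :
    Finite (wordsSub f ks) ∧ Nat.card (wordsSub f ks) ≤ D.nn * n := by
  obtain ⟨g2, g15, hcl, hrel⟩ := cert_cover hf hc hks hR hw hH
  haveI := hn.1
  have := card_le hc _ H g2 g15 hrel
  rw [hcl] at this
  exact ⟨this.1, this.2.trans (Nat.mul_le_mul_left _ hn.2)⟩

theorem singles_mem {f : ℕ → M} {ks : List ℕ} : ∀ w ∈ ks.map (fun x => [x]), (w.map f).prod ∈ wordsSub f ks := by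
  intro w hw
  obtain ⟨x, hx, rfl⟩ := List.mem_map.1 hw
  rw [List.map_cons, List.map_nil, List.prod_cons, List.prod_nil, mul_one]
  exact Subgroup.subset_closure ⟨x, hx, rfl⟩

theorem Sat.mono {M : Type*} [Monoid M] {f : ℕ → M} {R R' : List (List ℕ)} (h : Sat f R') (hs : ∀ r ∈ R, r ∈ R') :
    Sat f R := fun r hr => h r (hs r hr)

theorem plane_card {f : ℕ → M} (hf : Inv7 f) (hR : Sat f (cRel ++ pRel)) :
    Finite (wordsSub f [0, 1, 2, 4]) ∧ Nat.card (wordsSub f [0, 1, 2, 4]) ≤ 3072 := by
  exact cert_card hf PlaneOne.checked (ks := PlaneOne.letters) rfl hR PlaneOne.words_ok (H := ⊥)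
    (fun w hw => absurd hw List.not_mem_nil) bot_card

theorem centre_card {f : ℕ → M} (hf : Inv7 f) (hR : Sat f (cRel ++ pRel)) :
    Finite (wordsSub f [0, 1, 2, 3, 4]) ∧ Nat.card (wordsSub f [0, 1, 2, 3, 4]) ≤ 21504 := by
  exact cert_card hf Seven.checked (ks := Seven.letters) rfl hR Seven.words_ok
    (singles_mem (ks := [0, 1, 2, 4])) (plane_card hf hR)

theorem he_card {f : ℕ → M} (hf : Inv7 f) (hR : Sat f heRel) :
    Finite (wordsSub f [0, 1, 2, 3, 4, 5]) ∧ Nat.card (wordsSub f [0, 1, 2, 3, 4, 5]) ≤ 4030387200 := by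
  have hcp : Sat f (cRel ++ pRel) := hR.mono fun r hr => by
    simp only [heRel, twistRel, planeRel, List.mem_append] at hr ⊢
    tauto
  have h := cert_card hf LocalHe.checked (ks := LocalHe.letters) rfl hR LocalHe.words_ok
    (singles_mem (ks := [0, 1, 2, 4])) (plane_card hf hcp)
  exact cert_card hf He.checked (ks := He.letters) rfl hR He.words_ok
    (singles_mem (ks := [0, 1, 2, 4, 5])) h

theorem mathieu_card {f : ℕ → M} (hf : Inv7 f) (hR : Sat f mathieuRel) :
    Finite (wordsSub f [0, 1, 2, 3, 4, 5]) ∧ Nat.card (wordsSub f [0, 1, 2, 3, 4, 5]) ≤ 244823040 := by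
  have hcp : Sat f (cRel ++ pRel) := hR.mono fun r hr => by
    simp only [mathieuRel, twistRel, planeRel, List.mem_append] at hr ⊢
    tauto
  have h := cert_card hf LocalMathieu.checked (ks := LocalMathieu.letters) rfl hR LocalMathieu.words_ok
    (singles_mem (ks := [0, 1, 2, 4])) (plane_card hf hcp)
  exact cert_card hf Mathieu.checked (ks := Mathieu.letters) rfl hR Mathieu.words_ok
    (singles_mem (ks := [0, 1, 2, 4, 5])) h

theorem closed_card {f : ℕ → M} (hf : Inv7 f) (hR : Sat f (pRel ++ closedRel)) :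
    Finite (wordsSub f [0, 1, 2, 3, 4, 5]) ∧ Nat.card (wordsSub f [0, 1, 2, 3, 4, 5]) ≤ 322560 := by
  have hcp : Sat f (cRel ++ pRel) := hR.mono fun r hr => by
    simp only [closedRel, List.mem_append] at hr ⊢
    tauto
  exact cert_card hf Closed.checked (ks := Closed.letters) rfl (hR.mono fun r hr => List.mem_append_right _ hr)
    Closed.words_ok (singles_mem (ks := [0, 1, 2, 3, 4])) (centre_card hf hcp)

theorem double_card {f : ℕ → M} (hf : Inv7 f) {v : ℕ} (hv : v = 0 ∨ v = 5) (hR : Sat f (pRel ++ doubleRel v)) :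
    Finite (wordsSub f [0, 1, 2, 3, 4, 5, 6]) ∧ Nat.card (wordsSub f [0, 1, 2, 3, 4, 5, 6]) ≤ 9999360 := by
  have h := closed_card hf (hR.mono fun r hr => by
    simp only [doubleRel, List.mem_append] at hr ⊢
    tauto)
  have hd : Sat f (doubleRel v) := hR.mono fun r hr => List.mem_append_right _ hr
  rcases hv with rfl | rfl
  · exact cert_card hf DoubleA.checked (ks := DoubleA.letters) rfl hd DoubleA.words_ok
      (singles_mem (ks := [0, 1, 2, 3, 4, 5])) h
  · exact cert_card hf DoubleF.checked (ks := DoubleF.letters) rfl hd DoubleF.words_ok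
      (singles_mem (ks := [0, 1, 2, 3, 4, 5])) h

variable {G : Type*} [Group G] {z : G}

theorem Fr.inv7 (F : Fr G z) {a b : G} (ha : a * a = 1) (hb : b * b = 1) : Inv7 (F.lm a b) :=
  ⟨F.lm_sq ha hb, fun _ hj => F.lm_high a b hj⟩

theorem Fr.letters_le (F : Fr G z) (a b : G) :
    wordsSub (F.lm a b) [0, 1, 2, 3, 4] ≤ Subgroup.centralizer ({z} : Set G) := by
  rw [wordsSub, Subgroup.closure_le]
  rintro _ ⟨j, hj, rfl⟩
  have hj5 : j < 5 := by
    simp only [Set.mem_setOf_eq, List.mem_cons, List.not_mem_nil, or_false] at hj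
    omega
  rw [F.lm_lt a b hj5]
  exact Subgroup.mem_centralizer_singleton_iff.2 (F.el_comm (letters_mem hj5)).eq

theorem Side.not_cent {F : Fr G z} (S : Side F) : S.g ∉ Subgroup.centralizer ({z} : Set G) := by
  intro h
  have e := S.conj_z
  rw [Subgroup.mem_centralizer_singleton_iff.1 h, mul_assoc, S.sq, mul_one] at e
  have e : F.rep 0 = F.rep 1 := F.rep_zero.trans e
  exact absurd (F.rep_inj (by norm_num) (by norm_num) e) (by norm_num)

theorem Side.refute {F : Fr G z} (S : Side F) {D : Data} {m : ℕ} (hc : Checked D m) {ks : List ℕ}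
    (hks : ks.length = D.ng) (h1 : D.nn = 1) (h5 : 5 ∈ ks) {R : List (List ℕ)}
    (hR : Sat (F.lm S.g 1) R) {wit : List (ℕ × ℕ × Bool)}
    (hw : wordsOK D ks 15 R wit [[0], [1], [2], [3], [4]] = true) : False := by
  have := F.letters_le S.g 1 (cert_mem (F.inv7 S.sq (one_mul 1)) hc hks h1 hR hw
    (singles_mem (ks := [0, 1, 2, 3, 4])) h5)
  rw [F.lm_five] at this
  exact S.not_cent this

/-- the first automorphism leads to the relators of the Held or of the Mathieu group -/
theorem Side.twist_cases {F : Fr G z} (S : Side F)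
    (h : ∀ j < 4, S.g * F.lt j * S.g = F.el ((autImg 0).getD j 0)) :
    Sat (F.lm S.g 1) heRel ∨ Sat (F.lm S.g 1) mathieuRel := by
  obtain ⟨v3, hv3, a3, b3⟩ := S.exists_power h (n := 0) (by norm_num)
  obtain ⟨v5, hv5, a5, b5⟩ := S.exists_power h (n := 1) (by norm_num)
  obtain ⟨v6, hv6, a6, b6⟩ := S.exists_power h (n := 2) (by norm_num)
  rw [pe_bounds 0 (by norm_num), if_neg (by norm_num)] at hv3
  rw [pe_bounds 1 (by norm_num), if_neg (by norm_num)] at hv5
  rw [pe_bounds 2 (by norm_num), if_pos rfl] at hv6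
  have base : Sat (F.lm S.g 1) (cRel ++ sideRel 0) :=
    (F.sat_cent S.g 1 fun w hw => List.mem_append_left _ hw).append (S.sat_side (by norm_num) (one_mul 1) h)
  obtain rfl : v3 = 0 := by
    interval_cases v3
    · rfl
    · exact (S.refute BadCubeA.checked (ks := BadCubeA.letters) rfl rfl (by decide) (base.append (Sat.single a3))
        BadCubeA.words_ok).elim
    · exact (S.refute BadCubeB.checked (ks := BadCubeB.letters) rfl rfl (by decide) (base.append (Sat.single a3))
        BadCubeB.words_ok).elim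
    · exact (S.refute BadCubeC.checked (ks := BadCubeC.letters) rfl rfl (by decide) (base.append (Sat.single a3))
        BadCubeC.words_ok).elim
  have two : ∀ {x y : List ℕ}, (x.map (F.lm S.g 1)).prod = 1 → (y.map (F.lm S.g 1)).prod = 1 →
      Sat (F.lm S.g 1) [x, y] := fun hx hy => (Sat.single hx).append (Sat.single hy)
  have three : ∀ {x y w : List ℕ}, (x.map (F.lm S.g 1)).prod = 1 → (y.map (F.lm S.g 1)).prod = 1 →
      (w.map (F.lm S.g 1)).prod = 1 → Sat (F.lm S.g 1) [x, y, w] :=
    fun hx hy hw => (Sat.single hx).append (two hy hw)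
  have full : Sat (F.lm S.g 1) (twistRel 0 v5 v6 ++ planeRel 0 v5 v6) := by
    refine Sat.append (base.append (three a5 a3 a6)) ?_
    have hp := (F.sat_cent S.g 1 fun w hw => List.mem_append_right _ hw).append
      ((S.sat_sideP (one_mul 1) h).append (three b5 b3 b6))
    refine hp.mono fun r hr => ?_
    simp only [planeRel, List.mem_append, List.mem_cons, List.not_mem_nil, or_false] at hr ⊢
    tauto
  interval_cases v5
  · exact (S.refute BadFifthA.checked (ks := BadFifthA.letters) rfl rfl (by decide) (base.append (two a5 a3))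
      BadFifthA.words_ok).elim
  · interval_cases v6
    · exact (S.refute BadSixthA.checked (ks := BadSixthA.letters) rfl rfl (by decide) (base.append (three a5 a3 a6))
        BadSixthA.words_ok).elim
    · exact Or.inl full
  · exact (S.refute BadFifthB.checked (ks := BadFifthB.letters) rfl rfl (by decide) (base.append (two a5 a3))
      BadFifthB.words_ok).elim
  · interval_cases v6
    · exact Or.inr full
    · exact (S.refute BadSixthB.checked (ks := BadSixthB.letters) rfl rfl (by decide) (base.append (three a5 a3 a6))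
        BadSixthB.words_ok).elim

theorem space_inv : ((spaceList.all fun x => ((List.range 5).all fun j => spaceList.any fun y =>
      eqv (mulc (mulc (letters.getD j onec) x) (letters.getD j onec)) y) &&
      spaceList.any fun y => isCode (applyMove (moveOne 1) x) y) &&
    spaceList.any (fun y => eqv y tc) && !(spaceList.any fun y => eqv y (rp 2))) = true := by decide +kernel

/-- both sides of the second kind: the value of the join is one of two -/
theorem Side.double_cases {F : Fr G z} (S : Side F) (T : Side F.twist)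
    (h : ∀ j < 4, S.g * F.lt j * S.g = F.el ((autImg 1).getD j 0))
    (h' : ∀ j < 4, T.g * F.twist.lt j * T.g = F.twist.el ((autImg 1).getD j 0)) :
    ∃ v, (v = 0 ∨ v = 5) ∧ Sat (F.lm S.g T.g) (pRel ++ doubleRel v) := by
  obtain ⟨v, hv, hR⟩ := S.sat_double T h h'
  have hall : Sat (F.lm S.g T.g) (pRel ++ doubleRel v) :=
    (F.sat_cent S.g T.g fun w hw => List.mem_append_right _ hw).append hR
  have bad : ∀ {D : Data} {m : ℕ}, Checked D m → D.ng = 7 → D.nn = 1 → ∀ {wit : List (ℕ × ℕ × Bool)},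
      wordsOK D [0, 1, 2, 3, 4, 5, 6] 15 (doubleRel v) wit [[0], [1], [2], [3], [4], [5]] = true → False := by
    intro D m hc hg h1 wit hw
    have hm := cert_mem (F.inv7 S.sq T.sq) hc (ks := [0, 1, 2, 3, 4, 5, 6]) (by rw [hg]; rfl) h1 hR hw
      (singles_mem (ks := [0, 1, 2, 3, 4, 5])) (j := 6) (by decide)
    rw [F.lm_six] at hm
    have hs := space_inv
    simp only [Bool.and_eq_true, List.all_eq_true, List.any_eq_true, Bool.not_eq_true', List.mem_range,
      List.any_eq_false, eqv] at hs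
    obtain ⟨⟨hstep, yt, hyt, ht⟩, hno⟩ := hs
    have hsp : ∀ x ∈ spaceList, x ∈ els := fun x hx => by
      rw [← space_cent] at hx
      exact (List.mem_filter.1 hx).1
    have key : ∀ u ∈ wordsSub (F.lm S.g T.g) [0, 1, 2, 3, 4, 5], ∀ x ∈ spaceList,
        (∃ y ∈ spaceList, MulAut.conj u (F.el x) = F.el y) ∧ ∃ y ∈ spaceList, MulAut.conj u⁻¹ (F.el x) = F.el y := by
      intro u hu
      induction hu using Subgroup.closure_induction with
      | mem u hu =>
        obtain ⟨j, hj, rfl⟩ := hu
        have hinv : (F.lm S.g T.g j)⁻¹ = F.lm S.g T.g j := inv_eq_of_mul_eq_one_right (F.lm_sq S.sq T.sq j)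
        rw [hinv]
        intro x hx
        refine (and_self_iff).2 ?_
        simp only [Set.mem_setOf_eq, List.mem_cons, List.not_mem_nil, or_false] at hj
        by_cases hj5 : j < 5
        · obtain ⟨y, hy, e⟩ := (hstep x hx).1 j hj5
          refine ⟨y, hy, ?_⟩
          have hl := letters_mem hj5
          rw [← Nat.eq_of_beq_eq_true e, F.el_mul (mulc_mem hl (hsp x hx)) hl, F.el_mul hl (hsp x hx),
            MulAut.conj_apply, F.lm_lt _ _ hj5, inv_eq_of_mul_eq_one_right (F.lt_sq hj5)]
          rfl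
        · obtain rfl : j = 5 := by omega
          obtain ⟨y, hy, e⟩ := (hstep x hx).2
          refine ⟨y, hy, ?_⟩
          rw [F.lm_five]
          exact ((S.moveOK (i := 1) (by norm_num) wordOne h).apply (isCode_eq e)).2
      | one => intro x hx; exact ⟨⟨x, hx, by rw [map_one, MulAut.one_apply]⟩, x, hx, by
          rw [inv_one, map_one, MulAut.one_apply]⟩
      | mul a b _ _ ha hb =>
        intro x hx
        refine ⟨?_, ?_⟩
        · obtain ⟨y, hy, e⟩ := (hb x hx).1
          obtain ⟨w, hw, e'⟩ := (ha y hy).1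
          exact ⟨w, hw, by rw [map_mul, MulAut.mul_apply, e, e']⟩
        · obtain ⟨y, hy, e⟩ := (ha x hx).2
          obtain ⟨w, hw, e'⟩ := (hb y hy).2
          exact ⟨w, hw, by rw [mul_inv_rev, map_mul, MulAut.mul_apply, e, e']⟩
      | inv a _ ha => intro x hx; exact ⟨(ha x hx).2, by rw [inv_inv]; exact (ha x hx).1⟩
    obtain ⟨⟨y, hy, e⟩, -⟩ := key _ hm yt hyt
    rw [Nat.eq_of_beq_eq_true ht, F.el_tc, MulAut.conj_apply, inv_eq_of_mul_eq_one_right T.sq, T.conj_z,
      F.twist_rep_one, F.rep_eq] at e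
    have hy2 := hno y hy
    rw [← F.el_inj (rp_spec (by norm_num)).1 (hsp y hy) e] at hy2
    exact hy2 (Nat.beq_refl _)
  interval_cases v
  · exact ⟨0, Or.inl rfl, hall⟩
  · exact (bad DoubleB.checked rfl rfl DoubleB.words_ok).elim
  · exact (bad DoubleC.checked rfl rfl DoubleC.words_ok).elim
  · exact (bad DoubleD.checked rfl rfl DoubleD.words_ok).elim
  · exact (bad DoubleE.checked rfl rfl DoubleE.words_ok).elim
  · exact ⟨5, Or.inr rfl, hall⟩
  · exact (bad DoubleG.checked rfl rfl DoubleG.words_ok).elim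
  · exact (bad DoubleH.checked rfl rfl DoubleH.words_ok).elim

end Cfsg.Agent.Spor.TranCent
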