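import Cfsg.Agent.Lib.Spor.TranCent.Code

/-!
Data for the relations between the centraliser and the exchanging involutions.
-/

set_option autoImplicit false
set_option maxRecDepth 100000

namespace Cfsg.Agent.Spor.TranCent

/-- relators of the centraliser -/
def cRel : List (List ℕ) := [
  [0, 0],
  [1, 1],
  [2, 2],
  [3, 3],
  [4, 4],
  [4, 3, 4, 1, 3, 0, 4, 3, 1, 4, 3],
  [4, 3, 4, 1, 3, 4, 0, 3, 1, 4, 3],
  [3, 1, 2, 4, 1, 4, 1, 4, 1, 2, 1, 3],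
  [3, 1, 2, 4, 3, 1, 4, 0, 3, 4, 0, 2],
  [3, 1, 3, 2, 4, 0, 4, 0, 2, 3, 1, 3],
  [3, 1, 3, 4, 1, 4, 1, 4, 3, 1, 3, 1],
  [3, 1, 4, 1, 3, 2, 4, 3, 4, 2, 4, 0],
  [3, 1, 4, 1, 3, 4, 0, 2, 4, 3, 4, 2],
  [3, 1, 4, 2, 1, 2, 0, 1, 4, 1, 3, 1],
  [3, 1, 4, 2, 3, 1, 4, 2, 3, 1, 4, 2]]

/-- relators of the subgroup on four of the letters -/
def pRel : List (List ℕ) := [
  [0, 0],
  [1, 1],
  [2, 2],
  [4, 4],
  [4, 2, 4, 2, 0, 4, 2, 4, 2, 4, 0, 2, 4, 2, 0],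
  [0, 2, 4, 1, 0, 2, 4, 1, 0, 2, 4, 1, 0, 2, 4, 1],
  [0, 2, 4, 2, 4, 2, 4, 2, 4, 2, 4, 1, 2, 1, 4, 0],
  [0, 4, 1, 2, 1, 4, 1, 0, 4, 0, 1, 4, 2, 1, 4, 0],
  [0, 4, 1, 2, 4, 1, 0, 2, 0, 2, 0, 1, 4, 1, 2, 4],
  [0, 4, 2, 0, 1, 0, 1, 2, 0, 2, 1, 0, 1, 0, 2, 4]]

/-- words of the images of the first four letters, for the two automorphisms -/
def imgW : List (List (List ℕ)) := [
  [
  [2, 0, 2],
  [1],
  [1, 0, 1, 2, 1, 0, 1],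
  [1, 3, 2, 3, 1, 3, 2]],
  [
  [1, 0, 2, 1, 3, 1, 3, 2],
  [1, 3, 0, 2, 0, 2, 3],
  [1, 0, 1, 2, 1, 0, 1],
  [3]]]

/-- the same inside the subgroup -/
def imgP : List (List ℕ) := [
  [2, 0, 2],
  [1],
  [1, 0, 1, 2, 1, 0, 1]]

/-- words of the second representative -/
def repTwoW : List ℕ := [0, 1, 4, 1, 2, 4, 2, 0]

/-- the same inside the subgroup -/
def repTwoP : List ℕ := [0, 1, 4, 1, 2, 4, 2, 0]

/-- generators of the plane -/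
def planeGen : List ℕ := [19140673, 29626433, 17111105, 16916545, 17043523, 17043533]

/-- the plane -/
def planeList : List ℕ := [17043521, 17043523, 17043533, 17043535, 19140673, 19140675, 19140685, 19140687, 29626433, 29626435, 29626445, 29626447, 31723585, 31723587, 31723597, 31723599, 17111105, 17111107, 17111117, 17111119, 19208257, 19208259, 19208269, 19208271, 29694017, 29694019, 29694029, 29694031, 31791169, 31791171, 31791181, 31791183, 16916545, 16916547, 16916557, 16916559, 19013697, 19013699, 19013709, 19013711, 29499457, 29499459, 29499469, 29499471, 31596609, 31596611, 31596621, 31596623, 16984129, 16984131, 16984141, 16984143, 19081281, 19081283, 19081293, 19081295, 29567041, 29567043, 29567053, 29567055, 31664193, 31664195, 31664205, 31664207]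

/-- generators of the first normal four-space -/
def spaceGen : List ℕ := [19140673, 17109057, 17045569, 17043523]

/-- the first normal four-space -/
def spaceList : List ℕ := [17043521, 17043523, 19140673, 19140675, 17109057, 17109059, 19206209, 19206211, 17045569, 17045571, 19142721, 19142723, 17111105, 17111107, 19208257, 19208259]

/-- words with the letter five: exponent, word, the same inside the subgroup, possible values of the power, their words, these inside the subgroup -/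
def powTab : List (ℕ × List ℕ × List ℕ × List ℕ × List (List ℕ) × List (List ℕ)) := [
  (3, [1, 4, 1, 2, 4], [1, 4, 1, 2, 4], [17043521, 29626435, 31723597, 19140687], [
  [],
  [0, 1, 0, 1, 2, 0, 2],
  [1, 0, 2, 1, 3, 1, 3, 2],
  [0, 1, 2, 0, 2, 1]], [
  [],
  [0, 1, 0, 1, 2, 0, 2],
  [1, 0, 1, 2, 0, 1, 0, 1, 2],
  [0, 1, 2, 0, 2, 1]]), (5, [4, 2, 4], [4, 2, 4], [17043521, 16916547, 16984141, 17111119], [
  [],
  [0, 1, 4, 2, 0, 2, 4, 1],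
  [3, 0, 1, 2, 1, 3, 2, 0, 3],
  [1, 0, 2, 1, 0, 2]], [
  [],
  [0, 1, 4, 2, 0, 2, 4, 1],
  [1, 2, 0, 4, 2, 0, 2, 4, 1, 2],
  [1, 0, 2, 1, 0, 2]]), (6, [4], [4], [17043521, 31791181], [
  [],
  [1, 3, 0, 1, 2, 3, 2, 0, 3]], [
  [],
  [1, 2, 1, 0, 2, 4, 2, 0, 2, 4]])]

/-- the relation of the second automorphism -/
def closedW : List ℕ := [5, 4, 3, 2]

/-- the word joining the two sides -/
def joinW : List ℕ := [5, 3, 4, 0, 6, 0, 4, 3]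

/-- possible values of its square -/
def joinVal : List ℕ := [17043521, 16916545, 31791171, 31664195, 29626445, 29499469, 19208271, 19081295]

/-- their words -/
def joinValW : List (List ℕ) := [
  [],
  [0, 4, 2, 0, 2, 4],
  [1, 2, 0, 1, 2],
  [4, 3, 0, 3, 0, 1, 3, 4],
  [4, 3, 0, 3, 0, 3, 4],
  [1, 0, 2, 0, 2, 1],
  [2, 3, 0, 2, 0, 2, 3],
  [0, 3, 1, 3]]

/-- images of the letters under the outer automorphism of the centraliser -/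
def dualL : List ℕ := [17651791, 13242437, 15341633, 4472897, 17633367]

/-- their words -/
def dualW : List (List ℕ) := [
  [4, 2, 4],
  [1, 2, 1, 3, 0, 2, 4, 1, 3],
  [3, 1, 2, 1, 0, 4, 2, 3],
  [3],
  [0, 1, 3, 1, 4, 3, 0, 2]]

/-- words of the images under the second side -/
def dualImgW : List (List ℕ) := [
  [0, 1, 0, 2, 4, 2, 0, 4, 1, 2],
  [1, 3, 0, 2, 0, 2, 3],
  [0, 3, 0, 4, 3, 0],
  [3]]

/-- images of the second representative and of a word -/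
def dualTwoW : List ℕ := [0, 3, 0, 3, 0, 3]

/-- words in the first four letters -/
def wordOne : List (ℕ × List ℕ) := [
  (17043521, []),
  (19140673, [0, 3, 0, 2, 3, 2, 0, 1, 3]),
  (29626433, [2, 0, 2, 3, 1, 3]),
  (31723585, [3, 2, 0, 3, 0, 2, 3]),
  (17109057, [1, 3, 1, 2, 3, 2]),
  (19206209, [0, 2, 3, 2, 3, 0, 1]),
  (17045569, [0, 1, 2, 3, 1, 2, 3, 0]),
  (19142721, [1, 2, 3, 2, 1, 3]),
  (17111105, [3, 0, 2, 3, 2, 3, 0, 1, 3]),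
  (19208257, [0, 3, 0, 3, 0, 3]),
  (29694017, [3, 2, 3, 0, 3, 2, 3]),
  (31791169, [1, 2, 0, 2, 1]),
  (16916545, [3, 1, 2, 0, 3, 0, 2, 3]),
  (19013697, [2, 0, 2]),
  (29499457, [0, 3, 0, 2, 3, 2, 0, 3]),
  (31596609, [3, 1, 3]),
  (16984129, [0, 1, 0, 2, 0, 1, 2]),
  (19081281, [3, 1, 2, 3, 0, 3, 2, 3]),
  (29567041, [2, 0, 1, 0, 1, 2]),
  (31664193, [3, 0, 2, 3, 2, 3, 0, 3]),
  (17043523, [1, 2, 1, 2]),
  (19140675, [0, 1, 3, 0, 1, 2, 3, 2, 0, 3]),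
  (29626435, [0, 1, 0, 1, 2, 0, 2]),
  (31723587, [1, 3, 2, 3, 1, 0, 3, 2, 3]),
  (17109059, [1, 3, 2, 1, 3, 2]),
  (19206211, [0, 1, 3, 1, 2, 3, 2, 0]),
  (17045571, [0, 1, 2, 3, 2, 1, 3, 0]),
  (19142723, [1, 2, 3, 1, 2, 3]),
  (17111107, [0, 1, 3, 0, 2, 3, 2, 0, 3, 1]),
  (19208259, [1, 3, 2, 3, 1, 3, 2, 3]),
  (29694019, [1, 3, 2, 0, 3, 1, 0, 2, 3]),
  (31791171, [1, 2, 0, 1, 2]),
  (16916547, [3, 2, 0, 3, 0, 1, 2, 3]),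
  (19013699, [1, 2, 1, 0, 2]),
  (29499459, [0, 3, 0, 1, 2, 1, 3, 2, 0, 3]),
  (31596611, [0, 1, 0, 1]),
  (16984131, [0, 1, 0, 2, 0, 2, 1]),
  (19081283, [3, 2, 1, 3, 0, 3, 2, 3]),
  (29567043, [2, 3, 1, 3, 2]),
  (31664195, [0, 1, 3, 0, 2, 3, 1, 2, 0, 3]),
  (17043533, [2, 3, 1, 0, 2, 0, 2, 1, 3]),
  (19140685, [0, 1, 2, 0, 1, 2]),
  (29626445, [1, 3, 0, 2, 3, 2, 0, 3, 1]),
  (31723597, [1, 0, 2, 1, 3, 1, 3, 2]),
  (17111117, [1, 0, 1, 2, 0, 2]),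
  (19208269, [1, 2, 1, 3, 0, 2, 0, 2, 3]),
  (29694029, [0, 1, 2, 1, 2]),
  (31791181, [1, 3, 0, 1, 2, 3, 2, 0, 3]),
  (16916557, [0, 2, 3, 1, 3, 2]),
  (19013709, [1, 3, 0, 2, 3, 1, 2, 0, 3]),
  (29499469, [1, 0, 2, 0, 2, 1]),
  (31596621, [2, 3, 1, 0, 2, 0, 2, 3]),
  (16984141, [3, 0, 1, 2, 1, 3, 2, 0, 3]),
  (19081293, [1, 0, 1]),
  (29567053, [2, 3, 0, 2, 0, 1, 2, 3]),
  (31664205, [0, 1, 2, 1, 0, 2]),
  (17043535, [0, 3, 2, 3, 0, 3, 2, 3]),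
  (19140687, [0, 1, 2, 0, 2, 1]),
  (29626447, [2, 0, 3, 2, 1, 0, 2, 0, 3]),
  (31723599, [3, 0, 3, 0, 3]),
  (17111119, [1, 0, 2, 1, 0, 2]),
  (19208271, [2, 3, 0, 2, 0, 2, 3]),
  (29694031, [0]),
  (31791183, [3, 0, 2, 3, 2, 0, 1, 3]),
  (16916559, [3, 0, 3, 0, 1, 3]),
  (19013711, [2, 3, 0, 3, 2, 0, 2, 3]),
  (29499471, [1, 0, 2, 0, 1, 2]),
  (31596623, [2, 3, 2, 1, 0, 2, 0, 3]),
  (16984143, [3, 0, 2, 3, 2, 0, 3]),
  (19081295, [0, 3, 1, 3]),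
  (29567055, [2, 3, 0, 2, 0, 2, 1, 3]),
  (31664207, [0, 2, 0, 2])]

/-- words in the images of the first four letters -/
def wordTwo : List (ℕ × List ℕ) := [
  (17043521, []),
  (19206209, [0, 2, 0, 1, 3, 2, 3, 1, 2]),
  (13242433, [0, 1, 2, 3, 2, 3, 1, 0]),
  (15405121, [3, 1, 0, 2, 0, 2, 1, 3]),
  (19142721, [0, 2, 0, 3, 0, 2, 0, 3]),
  (17111105, [2, 3, 1, 0, 2, 0, 2, 1, 3]),
  (15341633, [2]),
  (13310017, [0, 2, 0, 1, 3, 2, 3, 1]),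
  (12869697, [2, 3, 2, 3]),
  (15032385, [1, 0, 1, 2, 1, 0, 1]),
  (17457217, [0, 3, 0, 2, 3, 2, 0, 3]),
  (19619905, [0, 3, 1, 2, 1, 3, 0]),
  (14968897, [0, 3, 0, 2, 0, 2, 3, 0]),
  (12937281, [1, 3, 0, 2, 0, 3, 1]),
  (19556417, [3, 2, 3]),
  (17524801, [1, 0, 2, 0, 2, 1]),
  (17043523, [1, 2, 1, 2]),
  (19206211, [0, 3, 0, 2, 0, 3, 0, 2]),
  (13242435, [0, 1, 3, 2, 3, 1, 2, 0]),
  (15405123, [0, 3, 0, 3, 2, 0, 2, 3]),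
  (19142723, [0, 1, 3, 2, 3, 1, 2, 0, 2]),
  (17111107, [0, 3, 2, 3, 0, 3, 2, 3]),
  (15341635, [1, 2, 1]),
  (13310019, [0, 3, 0, 2, 0, 3, 0]),
  (12869699, [1, 2, 1, 3, 2, 3]),
  (15032387, [1, 0, 2, 0, 1]),
  (17457219, [0, 3, 0, 1, 2, 1, 3, 2, 0, 3]),
  (19619907, [0, 3, 2, 3, 0]),
  (14968899, [0, 3, 0, 1, 2, 1, 0, 2, 3, 0]),
  (12937283, [0, 3, 2, 3, 0, 2]),
  (19556419, [3, 1, 2, 1, 3]),
  (17524803, [1, 0, 2, 0, 1, 2]),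
  (17043549, [0, 3, 0, 3, 0, 3]),
  (19206237, [0, 1, 2, 1, 0, 2, 3, 2, 3]),
  (13242461, [0, 2, 3, 2, 3, 0]),
  (15405149, [3, 0, 1, 2, 1, 0, 2, 3]),
  (19142749, [0, 2, 3, 2, 3, 0, 2]),
  (17111133, [1, 2, 1, 3, 0, 2, 0, 2, 3]),
  (15341661, [0, 1, 0, 2, 0, 1, 0]),
  (13310045, [0, 1, 2, 1, 0, 3, 2, 3]),
  (12869725, [1, 2, 3, 2, 3, 1]),
  (15032413, [0, 1, 2, 1, 0]),
  (17457245, [3, 0, 2, 3, 2, 3, 0, 3]),
  (19619933, [0, 1, 3, 2, 3, 1, 0]),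
  (14968925, [0, 3, 2, 0, 2, 3, 0, 3]),
  (12937309, [3, 0, 1, 2, 1, 0, 3]),
  (19556445, [0, 3, 0, 3, 0, 2, 3]),
  (17524829, [0, 1, 2, 1, 0, 2]),
  (17043551, [1, 3, 2, 3, 1, 3, 2, 3]),
  (19206239, [0, 2, 0, 2, 3, 2, 3]),
  (13242463, [0, 1, 2, 1, 3, 2, 3, 0]),
  (15405151, [3, 0, 2, 0, 2, 3]),
  (19142751, [0, 1, 2, 1, 3, 2, 3, 0, 2]),
  (17111135, [2, 3, 0, 2, 0, 2, 3]),
  (15341663, [3, 1, 3, 2, 3, 1, 3]),
  (13310047, [0, 2, 0, 3, 2, 3]),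
  (12869727, [1, 3, 2, 3, 1, 2]),
  (15032415, [0, 2, 0]),
  (17457247, [0, 1, 3, 0, 2, 3, 1, 2, 0, 3]),
  (19619935, [2, 3, 0, 2, 0, 3]),
  (14968927, [0, 3, 0, 1, 2, 0, 2, 3, 0, 1]),
  (12937311, [3, 0, 2, 0, 3]),
  (19556447, [1, 3, 2, 3, 1]),
  (17524831, [0, 2, 0, 2])]

end Cfsg.Agent.Spor.TranCent
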