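import Cfsg.Agent.Lib.Spor.TranCent.SearchCheck
import Cfsg.Agent.Lib.Spor.TranCent.RelData

/-!
Checks on the relations: tracing of conjugations and possible values of powers.
-/

set_option autoImplicit false
set_option maxRecDepth 100000

namespace Cfsg.Agent.Spor.TranCent

/-- generators, their images under a move, words in the generators -/
abbrev Move : Type := List ℕ × List ℕ × List (ℕ × List ℕ)

/-- image of a code under a move, if its word is known -/
def applyMove (m : Move) (x : ℕ) : Option ℕ :=
  match m.2.2.find? fun p => eqv p.1 x with
  | none => none
  | some p => bif eqv (evalG m.1 p.2) x && p.2.all (fun j => Nat.blt j 4) then some (evalG m.2.1 p.2) else none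

/-- image of a code under a letter -/
def stepT (ms : List Move) (j x : ℕ) : Option ℕ :=
  bif Nat.blt j 5 then some (mulc (mulc (letters.getD j onec) x) (letters.getD j onec))
  else match ms[Nat.sub j 5]? with
    | none => none
    | some m => applyMove m x

/-- image of a code under a word -/
def trace (ms : List Move) (w : List ℕ) (x : ℕ) : Option ℕ :=
  w.foldr (fun j o => o.bind (stepT ms j)) (some x)

/-- whether the result is the given code -/
def isCode (o : Option ℕ) (x : ℕ) : Bool :=
  match o with
  | none => false
  | some y => eqv y x

/-- a word repeated -/
def repW (k : ℕ) (w : List ℕ) : List ℕ := (List.replicate k w).flatten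

/-- the power fixes the generators, and the fixed members of the list are the possible values -/
def powOK (ms : List Move) (k : ℕ) (w gens cs vals : List ℕ) : Bool :=
  ((tc :: gens).all fun b => isCode (trace ms (repW k w) b) b) &&
    cs.all fun c => ((trace ms w c).isSome && !(isCode (trace ms w c) c)) || vals.any fun v => eqv v c

/-- the images of the letters under the two automorphisms -/
def autImg (i : ℕ) : List ℕ := autTab.getD i []

/-- the images of the dual letters under the second side -/
def dualImg : List ℕ := dualImgW.map evalw

/-- the first side -/
def moveOne (i : ℕ) : Move := (letters, autImg i, wordOne)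

/-- the second side -/
def moveTwo : Move := (dualL, dualImg, wordTwo)

theorem plane_cent : (els.filter fun a => planeGen.all fun b => eqv (mulc b a) (mulc a b)) = planeList := by
  decide +kernel

theorem space_cent : (els.filter fun a => spaceGen.all fun b => eqv (mulc b a) (mulc a b)) = spaceList := by
  decide +kernel

theorem pows_ok : ((List.range 3).all fun n =>
    (fun e => powOK [moveOne 0] e.1 (5 :: e.2.1) planeGen planeList e.2.2.2.1)
      (powTab.getD n (0, [], [], [], [], []))) = true := by decide +kernel

theorem closed_ok : powOK [moveOne 1] 5 closedW spaceGen spaceList [onec] = true := by decide +kernel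

theorem join_ok : powOK [moveOne 1, moveTwo] 2 joinW planeGen planeList joinVal = true := by decide +kernel

/-- all letters below a bound -/
def below (n : ℕ) (w : List ℕ) : Bool := w.all fun j => Nat.blt j n

theorem words_ok :
    ((cRel.all fun w => eqv (evalw w) onec && below 5 w) && (pRel.all fun w => eqv (evalw w) onec && below 5 w) &&
      ((List.range 2).all fun i => (List.range 4).all fun j =>
        eqv (evalw ((imgW.getD i []).getD j [])) ((autImg i).getD j 0) && below 5 ((imgW.getD i []).getD j [])) &&
      ((List.range 3).all fun j => eqv (evalw (imgP.getD j [])) ((autImg 0).getD j 0) && below 5 (imgP.getD j [])) &&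
      eqv (evalw repTwoW) (rp 2) && below 5 repTwoW && eqv (evalw repTwoP) (rp 2) && below 5 repTwoP &&
      ((List.range 3).all fun n => (fun e => eqv (evalw e.2.2.1) (evalw e.2.1) && below 5 e.2.1 && below 5 e.2.2.1 &&
          (List.range e.2.2.2.1.length).all fun v => eqv (evalw (e.2.2.2.2.1.getD v [])) (e.2.2.2.1.getD v 0) &&
            eqv (evalw (e.2.2.2.2.2.getD v [])) (e.2.2.2.1.getD v 0) && below 5 (e.2.2.2.2.1.getD v []) &&
            below 5 (e.2.2.2.2.2.getD v []))
        (powTab.getD n (0, [], [], [], [], []))) &&
      ((List.range 8).all fun v => eqv (evalw (joinValW.getD v [])) (joinVal.getD v 0) && below 5 (joinValW.getD v [])) &&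
      ((List.range 5).all fun j => eqv (evalw (dualW.getD j [])) (dualL.getD j 0) && below 5 (dualW.getD j [])) &&
      below 5 dualTwoW && dualImgW.all (below 5) &&
      (autTab.all fun t => t.all fun c => els.contains c) && below 6 closedW && below 7 joinW) = true := by
  decide +kernel

end Cfsg.Agent.Spor.TranCent
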