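import Cfsg.Agent.Lib.Spor.TranCent.Search
import Cfsg.Agent.Lib.Spor.TranCent.RelCheck
import Cfsg.Agent.Lib.Fusion.Cores

/-!
The outer automorphism of the centraliser of the transvection, and the largest normal two-subgroup.
-/

set_option autoImplicit false
set_option linter.style.haveILetI false
set_option maxRecDepth 100000

namespace Cfsg.Agent.Spor.TranCent

open scoped Matrix

local notation "M5" => Matrix (Fin 5) (Fin 5) (ZMod 2)
local notation "SL5" => Matrix.SpecialLinearGroup (Fin 5) (ZMod 2)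

/-- the permutation matrix exchanging the first two coordinates -/
def swM : M5 := !![0, 1, 0, 0, 0; 1, 0, 0, 0, 0; 0, 0, 1, 0, 0; 0, 0, 0, 1, 0; 0, 0, 0, 0, 1]

theorem swM_sq : swM * swM = 1 ∧ swMᵀ = swM ∧ code swM = join 2 1 4 8 16 := by decide +kernel

theorem swM_det : swM.det = 1 := by
  have h : swM.det * swM.det = 1 := by rw [← Matrix.det_mul, swM_sq.1, Matrix.det_one]
  generalize swM.det = x at h
  revert x
  decide

/-- the same in the special linear group -/
def swS : SL5 := ⟨swM, swM_det⟩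

/-- the transpose in the special linear group -/
def trS (g : SL5) : SL5 := ⟨(g : M5)ᵀ, by rw [Matrix.det_transpose]; exact g.2⟩

theorem swS_facts : swS * swS = 1 ∧ trS swS = swS :=
  ⟨Subtype.ext (by rw [Matrix.SpecialLinearGroup.coe_mul]; exact swM_sq.1), Subtype.ext swM_sq.2.1⟩

theorem trS_mul (g h : SL5) : trS (g * h) = trS h * trS g := Subtype.ext (Matrix.transpose_mul _ _)

theorem trS_inv (g : SL5) : trS g⁻¹ = (trS g)⁻¹ := by
  refine eq_inv_of_mul_eq_one_left ?_
  rw [← trS_mul, mul_inv_cancel]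
  exact Subtype.ext Matrix.transpose_one

/-- the outer automorphism -/
def dual (g : SL5) : SL5 := swS * (trS g)⁻¹ * swS

theorem dual_mul (g h : SL5) : dual (g * h) = dual g * dual h := by
  simp only [dual, trS_mul, mul_inv_rev, mul_assoc, ← mul_assoc swS swS, swS_facts.1, one_mul]

theorem dual_dual (g : SL5) : dual (dual g) = g := by
  have hi : swS⁻¹ = swS := inv_eq_of_mul_eq_one_right swS_facts.1
  have ht : trS (trS g) = g := Subtype.ext (Matrix.transpose_transpose _)
  simp only [dual, trS_mul, swS_facts.2, trS_inv, ht, mul_inv_rev, inv_inv, hi]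
  simp only [← mul_assoc, swS_facts.1, one_mul]
  rw [mul_assoc, swS_facts.1, mul_one]

/-- `d` is the code of the image of the code `c` -/
def isDual (c d : ℕ) : Prop := code (matOf d * swM * (matOf c)ᵀ * swM) = onec

theorem dual_slOf {c d : ℕ} (hc : c ∈ els) (hd : d ∈ els) (h : isDual c d) : dual (slOf c) = slOf d := by
  have e : slOf d * swS * trS (slOf c) * swS = 1 := by
    refine Subtype.ext (code_inj ?_)
    rw [Matrix.SpecialLinearGroup.coe_mul, Matrix.SpecialLinearGroup.coe_mul, Matrix.SpecialLinearGroup.coe_mul,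
      Matrix.SpecialLinearGroup.coe_one, code_one]
    show code ((slOf d : M5) * swM * ((slOf c : M5))ᵀ * swM) = onec
    rw [(slOf_spec hc).1, (slOf_spec hd).1]
    unfold isDual at h
    exact h
  have hi : swS⁻¹ = swS := inv_eq_of_mul_eq_one_right swS_facts.1
  rw [dual, eq_comm, ← mul_inv_eq_one]
  simp only [mul_inv_rev, inv_inv, hi]
  simpa only [mul_assoc] using e

theorem dual_checks : isDual tc tc ∧ isDual (rp 1) (rp 2) ∧ isDual (rp 2) (rp 1) ∧ isDual (rp 2) (evalw dualTwoW) ∧
    (∀ j < 5, isDual (letters.getD j onec) (dualL.getD j 0)) ∧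
    ∀ j < 4, isDual ((autImg 1).getD j 0) (dualImg.getD j 0) := by
  unfold isDual
  decide +kernel

theorem dual_sSL : dual sSL = sSL := by
  have h := dual_slOf tc_mem tc_mem dual_checks.1
  have e : slOf tc = sSL := by
    have := slOf_code (g := sSL) (Subgroup.mem_centralizer_singleton_iff.2 rfl)
    rwa [show code ((sSL : SL5) : M5) = tc from code_sM] at this
  rwa [e] at h

theorem dual_mem {g : SL5} (hg : g ∈ Subgroup.centralizer ({sSL} : Set SL5)) :
    dual g ∈ Subgroup.centralizer ({sSL} : Set SL5) := by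
  rw [Subgroup.mem_centralizer_singleton_iff] at hg ⊢
  conv_lhs => rw [← dual_sSL, ← dual_mul, hg, dual_mul, dual_sSL]

/-- the code of the image -/
noncomputable def dualC (c : ℕ) : ℕ := code ((dual (slOf c) : SL5) : M5)

theorem dualC_mem {c : ℕ} (hc : c ∈ els) : dualC c ∈ els := code_mem (dual_mem (slOf_mem hc))

theorem slOf_dualC {c : ℕ} (hc : c ∈ els) : slOf (dualC c) = dual (slOf c) := slOf_code (dual_mem (slOf_mem hc))

theorem slOf_inj {a b : ℕ} (ha : a ∈ els) (hb : b ∈ els) (h : slOf a = slOf b) : a = b := by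
  have := congrArg (fun g : SL5 => code (g : M5)) h
  simp only [(slOf_spec ha).1, (slOf_spec hb).1, (slOf_spec ha).2, (slOf_spec hb).2] at this
  exact this

theorem dualC_dualC {c : ℕ} (hc : c ∈ els) : dualC (dualC c) = c := by
  refine slOf_inj (dualC_mem (dualC_mem hc)) hc ?_
  rw [slOf_dualC (dualC_mem hc), slOf_dualC hc, dual_dual]

theorem dualC_mul {a b : ℕ} (ha : a ∈ els) (hb : b ∈ els) : dualC (mulc a b) = mulc (dualC a) (dualC b) := by
  refine slOf_inj (dualC_mem (mulc_mem ha hb)) (mulc_mem (dualC_mem ha) (dualC_mem hb)) ?_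
  rw [slOf_dualC (mulc_mem ha hb), slOf_mul ha hb, dual_mul, slOf_mul (dualC_mem ha) (dualC_mem hb),
    slOf_dualC ha, slOf_dualC hb]

theorem dualC_eq {c d : ℕ} (hc : c ∈ els) (hd : d ∈ els) (h : isDual c d) : dualC c = d :=
  slOf_inj (dualC_mem hc) hd ((slOf_dualC hc).trans (dual_slOf hc hd h))

variable {G : Type*} [Group G] {z : G}

/-- the frame composed with the outer automorphism -/
noncomputable def Fr.twist (F : Fr G z) : Fr G z where
  el c := F.el (dualC c)
  el_mul {a b} ha hb := by rw [dualC_mul ha hb, F.el_mul (dualC_mem ha) (dualC_mem hb)]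
  el_inj {a b} ha hb h := by
    rw [← dualC_dualC ha, ← dualC_dualC hb, F.el_inj (dualC_mem ha) (dualC_mem hb) h]
  el_tc := by rw [dualC_eq tc_mem tc_mem dual_checks.1, F.el_tc]
  el_comm {a} ha := F.el_comm (dualC_mem ha)
  el_surj {g} hg := by
    obtain ⟨a, ha, e⟩ := F.el_surj hg
    exact ⟨dualC a, dualC_mem ha, by rw [dualC_dualC ha, e]⟩

theorem Fr.twist_rep_one (F : Fr G z) : F.twist.rep 1 = F.rep 2 := by
  show F.el (dualC (rp 1)) = F.el (rp 2)
  rw [dualC_eq (rp_spec (by norm_num)).1 (rp_spec (by norm_num)).1 dual_checks.2.1]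

theorem Fr.twist_rep_two (F : Fr G z) : F.twist.rep 2 = F.rep 1 := by
  show F.el (dualC (rp 2)) = F.el (rp 1)
  rw [dualC_eq (rp_spec (by norm_num)).1 (rp_spec (by norm_num)).1 dual_checks.2.2.1]

theorem coreW_ok : ([4, 5, 6, 7].all fun i =>
    (fun x => !(eqv x onec) && eqv (mulc (mulc (mulc x x) x) (mulc (mulc x x) x)) onec &&
        !(eqv (mulc x x) onec))
      (mulc (rp i) (mulc (mulc (evalw [1]) (rp i)) (evalw [1])))) = true := by decide +kernel

/-- an involution class meeting the largest normal two-subgroup of the centraliser is one of the first four -/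
theorem Fr.rep_not_pCore (F : Fr G z) [Finite G] {i : ℕ} (hi : i < 8) (h4 : 4 ≤ i)
    (h : F.rep i ∈ Subgroup.centralizer ({z} : Set G)) :
    (⟨F.rep i, h⟩ : Subgroup.centralizer ({z} : Set G)) ∉ Cfsg.pCore 2 (Subgroup.centralizer ({z} : Set G)) := by
  intro hm
  have hw : evalw [1] ∈ els := evalw_mem (by simp)
  have hk := List.all_eq_true.mp coreW_ok i (by simp only [List.mem_cons, List.not_mem_nil, or_false]; omega)
  simp only [Bool.and_eq_true, Bool.not_eq_true', eqv] at hk
  set x := mulc (rp i) (mulc (mulc (evalw [1]) (rp i)) (evalw [1])) with hx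
  have hxm : x ∈ els := mulc_mem (rp_spec hi).1 (mulc_mem (mulc_mem hw (rp_spec hi).1) hw)
  have hw2 : F.el (evalw [1]) * F.el (evalw [1]) = 1 := by
    rw [← F.el_mul hw hw, show mulc (evalw [1]) (evalw [1]) = onec by decide +kernel, F.el_one]
  set c : Subgroup.centralizer ({z} : Set G) :=
    ⟨F.el (evalw [1]), Subgroup.mem_centralizer_singleton_iff.2 (F.el_comm hw).eq⟩ with hc
  set P := Cfsg.pCore 2 (Subgroup.centralizer ({z} : Set G))
  have hP : IsPGroup 2 P := Cfsg.Agent.Fusion.isPGroup_pCore 2 _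
  have hnorm : P.Normal := inferInstance
  set y : Subgroup.centralizer ({z} : Set G) := ⟨F.rep i, h⟩ * (c * ⟨F.rep i, h⟩ * c⁻¹) with hy
  have hym : y ∈ P := mul_mem hm (hnorm.conj_mem _ hm c)
  have hyv : (y : G) = F.el x := by
    rw [hy, Subgroup.coe_mul, Subgroup.coe_mul, Subgroup.coe_mul, Subgroup.coe_inv, hx,
      F.el_mul (rp_spec hi).1 (mulc_mem (mulc_mem hw (rp_spec hi).1) hw),
      F.el_mul (mulc_mem hw (rp_spec hi).1) hw, F.el_mul hw (rp_spec hi).1, hc,
      inv_eq_of_mul_eq_one_right hw2]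
    rfl
  obtain ⟨k, hk2⟩ := hP ⟨y, hym⟩
  have hyk : F.el x ^ 2 ^ k = 1 := by
    have := congrArg (fun v : P => ((v : Subgroup.centralizer ({z} : Set G)) : G)) hk2
    simp only [SubgroupClass.coe_pow, OneMemClass.coe_one] at this
    rwa [hyv] at this
  have hy6 : (F.el x ^ 3) ^ 2 = 1 := by
    have e := congrArg F.el (Nat.eq_of_beq_eq_true hk.1.2)
    rw [F.el_mul (mulc_mem (mulc_mem hxm hxm) hxm) (mulc_mem (mulc_mem hxm hxm) hxm),
      F.el_mul (mulc_mem hxm hxm) hxm, F.el_mul hxm hxm, F.el_one] at e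
    rw [← e]
    simp only [pow_succ, pow_zero, one_mul]
  have hd : orderOf (F.el x) ∣ 2 := by
    have h1 : orderOf (F.el x) ∣ 2 ^ k := orderOf_dvd_of_pow_eq_one hyk
    have h2 : orderOf (F.el x) ∣ 2 * 3 := orderOf_dvd_of_pow_eq_one (by rw [mul_comm, pow_mul]; exact hy6)
    exact (Nat.Coprime.pow_left k (by norm_num : Nat.Coprime 2 3)).coprime_dvd_left h1 |>.dvd_of_dvd_mul_right h2
  have h2x := orderOf_dvd_iff_pow_eq_one.1 hd
  rw [pow_two, ← F.el_mul hxm hxm, ← F.el_one] at h2x
  rw [F.el_inj (mulc_mem hxm hxm) onec_mem h2x, Nat.beq_refl] at hk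
  exact Bool.noConfusion hk.2

/-- a conjugate of `z` in the largest normal two-subgroup gives a fused class next to `z` -/
theorem Fr.fused_of_core (F : Fr G z) [Finite G]
    (hnwc : ∃ g : G, (∃ hq : g * z * g⁻¹ ∈ Subgroup.centralizer ({z} : Set G),
      (⟨g * z * g⁻¹, hq⟩ : Subgroup.centralizer ({z} : Set G)) ∈
        Cfsg.pCore 2 (Subgroup.centralizer ({z} : Set G))) ∧ g * z * g⁻¹ ≠ z) :
    IsConj (F.rep 1) z ∨ IsConj (F.rep 2) z := by
  obtain ⟨g, ⟨hq, hm⟩, hne⟩ := hnwc
  set y := g * z * g⁻¹ with hy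
  have hyc : Commute y z := Subgroup.mem_centralizer_singleton_iff.1 hq
  have hy' : y = MulAut.conj g z := rfl
  have hy2 : y * y = 1 := by rw [hy', ← map_mul, F.z_sq, map_one]
  have hy1 : y ≠ 1 := fun e => F.z_ne_one ((MulAut.conj g).injective ((hy'.symm.trans e).trans (map_one _).symm))
  obtain ⟨i, hi, c, hc, hci⟩ := F.exists_rep hyc hy2 hy1
  have hconj : IsConj (F.rep i) z := (isConj_iff.2 ⟨c * g, by rw [← hci, hy]; group⟩ : IsConj z (F.rep i)).symm
  have hi0 : i ≠ 0 := by
    rintro rfl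
    refine hne ?_
    rw [F.rep_zero] at hci
    calc y = c⁻¹ * (c * y * c⁻¹) * c := by group
      _ = c⁻¹ * z * c := by rw [hci]
      _ = z := by rw [mul_assoc, hc.symm.eq, inv_mul_cancel_left]
  have hi3 : i < 4 := by
    by_contra h4
    have hcm : c ∈ Subgroup.centralizer ({z} : Set G) := Subgroup.mem_centralizer_singleton_iff.2 hc.eq
    have hr : F.rep i ∈ Subgroup.centralizer ({z} : Set G) :=
      Subgroup.mem_centralizer_singleton_iff.2 (F.rep_comm hi).eq
    refine F.rep_not_pCore hi (by omega) hr ?_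
    have := (inferInstance : (Cfsg.pCore 2 (Subgroup.centralizer ({z} : Set G))).Normal).conj_mem _ hm ⟨c, hcm⟩
    rwa [show (⟨F.rep i, hr⟩ : Subgroup.centralizer ({z} : Set G)) = ⟨c, hcm⟩ * ⟨y, hq⟩ * ⟨c, hcm⟩⁻¹ from
      Subtype.ext hci.symm]
  obtain ⟨j, -, -, -, h⟩ := F.partner hi hi0 hconj
  rcases h with ⟨rfl | rfl, -⟩ | ⟨rfl, -⟩ | ⟨rfl | rfl, -⟩
  · exact Or.inl hconj
  · exact Or.inr hconj
  all_goals omega

end Cfsg.Agent.Spor.TranCent
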