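import Cfsg.Agent.Lib.Spor.TranCent.FactsCheck

/-!
Generation of the centraliser by five involutions, its classes of involutions, and counting in it.
-/

set_option autoImplicit false
set_option linter.style.haveILetI false
set_option maxRecDepth 100000

namespace Cfsg.Agent.Spor.TranCent

theorem letters_mem {j : ℕ} (hj : j < 5) : letters.getD j onec ∈ els := by
  have := parts_ok
  simp only [Bool.and_eq_true] at this
  have hlen : letters.length = 5 := rfl
  rw [List.getD_eq_getElem _ _ (hlen.symm ▸ hj)]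
  exact List.contains_iff_mem.1 (List.all_eq_true.mp this.2 _ (List.getElem_mem _))

theorem evalw_cons (j : ℕ) (w : List ℕ) : evalw (j :: w) = mulc (letters.getD j onec) (evalw w) := by
  simp only [evalw, List.foldr_cons]

theorem evalw_nil : evalw [] = onec := by simp only [evalw, List.foldr_nil]


theorem evalw_mem {w : List ℕ} (h : ∀ j ∈ w, j < 5) : evalw w ∈ els := by
  induction w with
  | nil => rw [evalw_nil]; exact onec_mem
  | cons j w ih =>
    rw [evalw_cons]
    exact mulc_mem (letters_mem (h j List.mem_cons_self)) (ih fun i hi => h i (List.mem_cons_of_mem _ hi))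

variable {G : Type*} [Group G] {z : G}

/-- the image of a letter -/
def Fr.lt (F : Fr G z) (j : ℕ) : G := F.el (letters.getD j onec)

theorem Fr.el_evalw (F : Fr G z) {w : List ℕ} (h : ∀ j ∈ w, j < 5) : F.el (evalw w) = (w.map F.lt).prod := by
  induction w with
  | nil => rw [evalw_nil, F.el_one]; rfl
  | cons j w ih =>
    have h1 := letters_mem (h j List.mem_cons_self)
    have h2 : ∀ i ∈ w, i < 5 := fun i hi => h i (List.mem_cons_of_mem _ hi)
    rw [List.map_cons, List.prod_cons, ← ih h2, evalw_cons, F.el_mul h1 (evalw_mem h2)]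
    rfl

theorem exists_word {a : ℕ} (ha : a ∈ els) :
    ∃ w : List ℕ, (∀ j ∈ w, j < 5) ∧ evalw w = a := by
  have hd := List.all_eq_true.mp decomp_ok a ha
  have hp := parts_ok
  simp only [Bool.and_eq_true, eqv] at hd hp
  obtain ⟨⟨⟨he, hc⟩, hA⟩, hr⟩ := hd
  have hc' := Nat.le_of_ble_eq_true hc
  have hA' := Nat.le_of_ble_eq_true hA
  have hr' := Nat.le_of_ble_eq_true hr
  obtain ⟨⟨⟨⟨pc, pr⟩, pa⟩, pl⟩, -⟩ := hp
  have mem : ∀ (L : List (List ℕ)) (i : ℕ), (∀ w ∈ L, w ∈ cWords ++ rWords ++ aWords) →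
      ∀ j ∈ L.getD i [], j < 5 := by
    intro L i hL j hj
    by_cases h : i < L.length
    · rw [List.getD_eq_getElem _ _ h] at hj
      exact Nat.le_of_ble_eq_true (List.all_eq_true.mp (List.all_eq_true.mp pl _ (hL _ (List.getElem_mem h))) j hj)
    · rw [List.getD_eq_default _ _ (by omega)] at hj
      exact absurd hj List.not_mem_nil
  have m1 := mem cWords (cIndex a) fun w hw => List.mem_append_left _ (List.mem_append_left _ hw)
  have m2 := mem aWords (aIndex a) fun w hw => List.mem_append_right _ hw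
  have m3 := mem rWords (Nat.div (row a 0) 2) fun w hw => List.mem_append_left _ (List.mem_append_right _ hw)
  have happ : ∀ {v w : List ℕ}, (∀ j ∈ v, j < 5) → (∀ j ∈ w, j < 5) →
      evalw (v ++ w) = mulc (evalw v) (evalw w) := by
    intro v w hv hw
    obtain ⟨F⟩ := exists_fr (G := Matrix.SpecialLinearGroup (Fin 5) (ZMod 2)) (z := sSL) (MulEquiv.refl _)
      (fun _ => rfl)
    have hvw : ∀ j ∈ v ++ w, j < 5 := fun j hj => (List.mem_append.1 hj).elim (hv j) (hw j)
    refine F.el_inj (evalw_mem hvw) (mulc_mem (evalw_mem hv) (evalw_mem hw)) ?_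
    rw [F.el_mul (evalw_mem hv) (evalw_mem hw), F.el_evalw hvw, F.el_evalw hv, F.el_evalw hw, List.map_append,
      List.prod_append]
  refine ⟨cWords.getD (cIndex a) [] ++ aWords.getD (aIndex a) [] ++ rWords.getD (Nat.div (row a 0) 2) [], ?_, ?_⟩
  · intro j hj
    rcases List.mem_append.1 hj with h | h
    · exact (List.mem_append.1 h).elim (m1 j) (m2 j)
    · exact m3 j h
  · rw [happ (fun j hj => (List.mem_append.1 hj).elim (m1 j) (m2 j)) m3, happ m1 m2,
      Nat.eq_of_beq_eq_true (List.all_eq_true.mp pc _ (List.mem_range.2 hc')),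
      Nat.eq_of_beq_eq_true (List.all_eq_true.mp pa _ (List.mem_range.2 hA')),
      Nat.eq_of_beq_eq_true (List.all_eq_true.mp pr _ (List.mem_range.2 hr'))]
    exact (Nat.eq_of_beq_eq_true he).symm

theorem Fr.mem_closure (F : Fr G z) {g : G} (hg : Commute g z) :
    g ∈ Subgroup.closure (F.lt '' {j | j < 5}) := by
  obtain ⟨a, ha, rfl⟩ := F.el_surj hg
  obtain ⟨w, hw, rfl⟩ := exists_word ha
  rw [F.el_evalw hw]
  exact list_prod_mem fun x hx => by
    obtain ⟨j, hj, rfl⟩ := List.mem_map.1 hx
    exact Subgroup.subset_closure ⟨j, hw j hj, rfl⟩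

theorem reps_spec {i : ℕ} (hi : i < 8) : reps.getD i 0 ∈ els ∧ mulc (reps.getD i 0) (reps.getD i 0) = onec ∧
    reps.getD i 0 ≠ onec := by
  have h := classes_tab
  simp only [Bool.and_eq_true, List.all_eq_true, List.mem_range, Bool.not_eq_true', eqv] at h
  obtain ⟨⟨⟨e, hl⟩, hs⟩, hn⟩ := h.2 i hi
  refine ⟨Nat.eq_of_beq_eq_true e ▸ evalw_mem fun j hj => Nat.le_of_ble_eq_true (hl j hj),
    Nat.eq_of_beq_eq_true hs, fun e => ?_⟩
  rw [e, Nat.beq_refl] at hn
  exact Bool.noConfusion hn

/-- the element of a class -/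
def Fr.rep (F : Fr G z) (i : ℕ) : G := F.el (reps.getD i 0)

theorem Fr.exists_rep (F : Fr G z) {y : G} (hy : Commute y z) (h2 : y * y = 1) (h1 : y ≠ 1) :
    ∃ i < 8, ∃ c : G, Commute c z ∧ c * y * c⁻¹ = F.rep i := by
  obtain ⟨a, ha, rfl⟩ := F.el_surj hy
  have := List.all_eq_true.mp classes_all a ha
  simp only [Bool.or_eq_true, Bool.not_eq_true', eqv] at this
  have e1 : mulc a a = onec := F.el_inj (mulc_mem ha ha) onec_mem (by rw [F.el_mul ha ha, h2, F.el_one])
  rcases this with (h' | h') | h'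
  · rw [e1, Nat.beq_refl] at h'; exact Bool.noConfusion h'
  · exact absurd (by rw [Nat.eq_of_beq_eq_true h']; exact F.el_one) h1
  obtain ⟨p, hp, he⟩ := List.any_eq_true.1 h'
  obtain rfl : p.1 = a := Nat.eq_of_beq_eq_true he
  have h := classes_tab
  simp only [Bool.and_eq_true] at h
  have hok := List.all_eq_true.mp h.1.1 p hp
  simp only [hitOK, Bool.and_eq_true, eqv] at hok
  obtain ⟨⟨hj, hi⟩, hm⟩ := hok
  have hj' := Nat.le_of_ble_eq_true hj
  have hi' := Nat.le_of_ble_eq_true hi
  have m1 : evalw (conjWords.getD p.2.1 []) ∈ els := evalw_mem fun j hjm => by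
    rw [List.getD_eq_getElem _ _ hj'] at hjm
    exact Nat.le_of_ble_eq_true (List.all_eq_true.mp (List.all_eq_true.mp h.1.2 _ (List.getElem_mem _)) j hjm)
  refine ⟨p.2.2, hi', (F.el (evalw (conjWords.getD p.2.1 [])))⁻¹, (F.el_comm m1).inv_left, ?_⟩
  have e := congrArg F.el (Nat.eq_of_beq_eq_true hm)
  rw [F.el_mul ha m1, F.el_mul m1 (reps_spec hi').1] at e
  rw [inv_inv, mul_assoc, e, inv_mul_cancel_left]
  rfl

/-- the elements commuting with a given one -/
def centList (a : ℕ) : List ℕ := els.filter fun x => eqv (mulc a x) (mulc x a)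

/-- the square roots of `b` commuting with `a` -/
def rootList (a b : ℕ) : List ℕ := (centList a).filter fun x => eqv (mulc x x) b

/-- the number of elements of `G` commuting with two elements -/
noncomputable def centNum (u v : G) : ℕ := Nat.card {g : G // Commute g u ∧ Commute g v}

/-- the number of square roots of an element commuting with two elements -/
noncomputable def rootNum (u v w : G) : ℕ := Nat.card {g : G // Commute g u ∧ Commute g v ∧ g * g = w}

theorem Fr.comm_iff (F : Fr G z) {a x : ℕ} (ha : a ∈ els) (hx : x ∈ els) :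
    Commute (F.el x) (F.el a) ↔ mulc a x = mulc x a := by
  constructor
  · intro h
    exact F.el_inj (mulc_mem ha hx) (mulc_mem hx ha) (by rw [F.el_mul ha hx, F.el_mul hx ha]; exact h.symm.eq)
  · intro h
    show F.el x * F.el a = F.el a * F.el x
    rw [← F.el_mul ha hx, ← F.el_mul hx ha, h]

theorem incr_nodup : ∀ {l : List ℕ}, incr l = true → l.Nodup ∧ ∀ a ∈ l.tail, key (l.headD 0) < key a
  | [], _ => ⟨List.nodup_nil, fun a ha => absurd ha List.not_mem_nil⟩
  | [a], _ => ⟨List.nodup_singleton a, fun b hb => absurd hb List.not_mem_nil⟩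
  | a :: b :: l, h => by
    simp only [incr, Bool.and_eq_true] at h
    obtain ⟨hn, ht⟩ := incr_nodup h.2
    have hab : key a < key b := Nat.le_of_ble_eq_true h.1
    have hlt : ∀ c ∈ b :: l, key a < key c := by
      intro c hc
      rcases List.mem_cons.1 hc with rfl | hc
      · exact hab
      · exact hab.trans (ht c hc)
    exact ⟨List.nodup_cons.2 ⟨fun hm => lt_irrefl _ (hlt a hm), hn⟩, hlt⟩

theorem els_nodup (F : Fr G z) (p : ℕ → Bool) [Fintype G] [DecidableEq G] :
    (((els.filter p).map F.el).toFinset).card = (els.filter p).length := by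
  classical
  rw [List.toFinset_card_of_nodup, List.length_map]
  exact ((incr_nodup incr_ok).1.filter p).map_on fun a ha b hb h =>
    F.el_inj (List.mem_filter.1 ha).1 (List.mem_filter.1 hb).1 h

theorem Fr.card_eq (F : Fr G z) [Finite G] (p : ℕ → Bool) (P : G → Prop)
    (hz : ∀ g, P g → Commute g z) (hp : ∀ a ∈ els, P (F.el a) ↔ p a = true) :
    Nat.card {g : G // P g} = (els.filter p).length := by
  classical
  haveI := Fintype.ofFinite G
  rw [← els_nodup F p]
  refine (Nat.card_eq_fintype_card).trans ?_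
  rw [← Finset.card_univ (α := {g : G // P g}),
    ← Finset.card_map (Function.Embedding.subtype P)]
  congr 1
  ext g
  simp only [Finset.mem_map, Finset.mem_univ, true_and, Function.Embedding.coe_subtype, List.mem_toFinset,
    List.mem_map, List.mem_filter]
  constructor
  · rintro ⟨⟨g, hg⟩, rfl⟩
    obtain ⟨a, ha, rfl⟩ := F.el_surj (hz g hg)
    exact ⟨a, ⟨ha, (hp a ha).1 hg⟩, rfl⟩
  · rintro ⟨a, ⟨ha, hpa⟩, rfl⟩
    exact ⟨⟨_, (hp a ha).2 hpa⟩, rfl⟩

end Cfsg.Agent.Spor.TranCent
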