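import Cfsg.Agent.Lib.Spor.TranCent.Frame
import Cfsg.Agent.Lib.Spor.TranCent.FactsData

/-!
Checks on the data of the centraliser of a transvection.
-/

set_option autoImplicit false
set_option maxRecDepth 100000

namespace Cfsg.Agent.Spor.TranCent

/-- the code of a word in the letters -/
def evalw (w : List ℕ) : ℕ := w.foldr (fun j a => mulc (letters.getD j onec) a) onec

/-- equality with a bit -/
def eqv (a b : ℕ) : Bool := Nat.beq a b

/-- the block position of a code -/
def aIndex (a : ℕ) : ℕ :=
  aPos.getD (Nat.add (Nat.add (Nat.div (row a 2) 4) (Nat.mul 8 (Nat.div (row a 3) 4))) (Nat.mul 64 (Nat.div (row a 4) 4))) 0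

/-- the column position of a code -/
def cIndex (a : ℕ) : ℕ :=
  Nat.add (Nat.add (Nat.mod (Nat.div (row a 2) 2) 2) (Nat.mul 2 (Nat.mod (Nat.div (row a 3) 2) 2)))
    (Nat.mul 4 (Nat.mod (Nat.div (row a 4) 2) 2))

theorem decomp_ok : (els.all fun a => eqv a (mulc (mulc (cParts.getD (cIndex a) 0) (aParts.getD (aIndex a) 0))
    (rParts.getD (Nat.div (row a 0) 2) 0)) && Nat.blt (cIndex a) 8 && Nat.blt (aIndex a) 168 &&
    Nat.blt (Nat.div (row a 0) 2) 16) = true := by
  decide +kernel

theorem parts_ok : (((List.range 8).all fun i => eqv (evalw (cWords.getD i [])) (cParts.getD i 0)) &&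
    ((List.range 16).all fun i => eqv (evalw (rWords.getD i [])) (rParts.getD i 0)) &&
    ((List.range 168).all fun i => eqv (evalw (aWords.getD i [])) (aParts.getD i 0)) &&
    ((cWords ++ rWords ++ aWords).all fun w => w.all fun j => Nat.blt j 5) &&
    letters.all fun l => els.contains l) = true := by
  decide +kernel

/-- whether an element is listed -/
def listed (a : ℕ) : Bool := hitTab.any fun p => eqv p.1 a

/-- whether a table entry is right -/
def hitOK (p : ℕ × ℕ × ℕ) : Bool :=
  Nat.blt p.2.1 conjWords.length && Nat.blt p.2.2 8 &&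
    eqv (mulc p.1 (evalw (conjWords.getD p.2.1 []))) (mulc (evalw (conjWords.getD p.2.1 [])) (reps.getD p.2.2 0))

theorem classes_all : (els.all fun a => !(eqv (mulc a a) onec) || eqv a onec || listed a) = true := by
  decide +kernel

theorem classes_tab : (hitTab.all hitOK && (conjWords.all fun w => w.all fun j => Nat.blt j 5) &&
    (List.range 8).all fun i => eqv (evalw (repWords.getD i [])) (reps.getD i 0) &&
      ((repWords.getD i []).all fun j => Nat.blt j 5) &&
      eqv (mulc (reps.getD i 0) (reps.getD i 0)) onec && !(eqv (reps.getD i 0) onec)) = true := by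
  decide +kernel

/-- a key increasing along the list -/
def key (a : ℕ) : ℕ :=
  Nat.add (Nat.add (Nat.add (Nat.mul (row a 2) 32768) (Nat.mul (row a 3) 1024)) (Nat.mul (row a 4) 32)) (row a 0)

/-- increasing keys -/
def incr : List ℕ → Bool
  | a :: b :: l => Nat.blt (key a) (key b) && incr (b :: l)
  | _ => true

theorem incr_ok : incr els = true := by decide +kernel

end Cfsg.Agent.Spor.TranCent
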