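import Cfsg.Agent.Lib.Spor.TranCent.Code

/-!
A group with an element whose centraliser is described by codes.
-/

set_option autoImplicit false
set_option maxRecDepth 100000

namespace Cfsg.Agent.Spor.TranCent

open Matrix

local notation "F₂" => ZMod 2
local notation "M5" => Matrix (Fin 5) (Fin 5) (ZMod 2)
local notation "SL5" => Matrix.SpecialLinearGroup (Fin 5) (ZMod 2)

/-- bit `j` of row `i` of a code -/
def entry (c i j : ℕ) : F₂ := bif Nat.beq (Nat.land (Nat.shiftRight (row c i) j) 1) 1 then 1 else 0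

/-- the matrix of a code -/
def matOf (c : ℕ) : M5 :=
  tvMat ![entry c 0 1, entry c 0 2, entry c 0 3, entry c 0 4] ![entry c 2 1, entry c 3 1, entry c 4 1]
    !![entry c 2 2, entry c 2 3, entry c 2 4; entry c 3 2, entry c 3 3, entry c 3 4;
      entry c 4 2, entry c 4 3, entry c 4 4]

/-- the determinant of the block of a code -/
def blockDet (c : ℕ) : F₂ :=
  entry c 2 2 * (entry c 3 3 * entry c 4 4) - entry c 2 2 * (entry c 3 4 * entry c 4 3)
    - entry c 2 3 * (entry c 3 2 * entry c 4 4) + entry c 2 3 * (entry c 3 4 * entry c 4 2)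
    + entry c 2 4 * (entry c 3 2 * entry c 4 3) - entry c 2 4 * (entry c 3 3 * entry c 4 2)

theorem matOf_det (c : ℕ) : (matOf c).det = blockDet c := by
  rw [matOf, tvMat_det, Matrix.det_fin_three]
  simp [blockDet]
  ring

/-- bit `j` of a row, as a number -/
def bitN (x j : ℕ) : ℕ := bif Nat.beq (Nat.land (Nat.shiftRight x j) 1) 1 then Nat.shiftLeft 1 j else 0

/-- the code rebuilt from the free entries -/
def rebuild (c : ℕ) : ℕ :=
  join (Nat.add (Nat.add (Nat.add (Nat.add 1 (bitN (row c 0) 1)) (bitN (row c 0) 2)) (bitN (row c 0) 3)) (bitN (row c 0) 4))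
    2
    (Nat.add (Nat.add (Nat.add (bitN (row c 2) 1) (bitN (row c 2) 2)) (bitN (row c 2) 3)) (bitN (row c 2) 4))
    (Nat.add (Nat.add (Nat.add (bitN (row c 3) 1) (bitN (row c 3) 2)) (bitN (row c 3) 3)) (bitN (row c 3) 4))
    (Nat.add (Nat.add (Nat.add (bitN (row c 4) 1) (bitN (row c 4) 2)) (bitN (row c 4) 3)) (bitN (row c 4) 4))

theorem els_ok : (els.all fun c => Nat.beq (rebuild c) c &&
    blockBit (row c 2) (row c 3) (row c 4)) = true := by decide +kernel

theorem entry_val (c i j : ℕ) : (entry c i j).val * 2 ^ j = bitN (row c i) j := by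
  unfold entry bitN
  cases Nat.beq (Nat.land (Nat.shiftRight (row c i) j) 1) 1 with
  | false => simp
  | true =>
    show (1 : F₂).val * 2 ^ j = Nat.shiftLeft 1 j
    rw [ZMod.val_one]
    exact (Nat.shiftLeft_eq 1 j).symm

theorem code_matOf (c : ℕ) : code (matOf c) = rebuild c := by
  simp only [code, rebuild, enc, ← entry_val, matOf, tvMat]
  simp [ZMod.val_zero, ZMod.val_one]
  ring_nf

theorem blockDet_one {c : ℕ} (h : blockBit (row c 2) (row c 3) (row c 4) = true) : blockDet c = 1 := by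
  simp only [blockBit] at h
  simp only [blockDet, entry]
  revert h
  generalize Nat.beq (Nat.land (Nat.shiftRight (row c 2) 2) 1) 1 = a2
  generalize Nat.beq (Nat.land (Nat.shiftRight (row c 2) 3) 1) 1 = a3
  generalize Nat.beq (Nat.land (Nat.shiftRight (row c 2) 4) 1) 1 = a4
  generalize Nat.beq (Nat.land (Nat.shiftRight (row c 3) 2) 1) 1 = b2
  generalize Nat.beq (Nat.land (Nat.shiftRight (row c 3) 3) 1) 1 = b3
  generalize Nat.beq (Nat.land (Nat.shiftRight (row c 3) 4) 1) 1 = b4
  generalize Nat.beq (Nat.land (Nat.shiftRight (row c 4) 2) 1) 1 = c2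
  generalize Nat.beq (Nat.land (Nat.shiftRight (row c 4) 3) 1) 1 = c3
  generalize Nat.beq (Nat.land (Nat.shiftRight (row c 4) 4) 1) 1 = c4
  revert a2 a3 a4 b2 b3 b4 c2 c3 c4
  decide +kernel

/-- the element of a code -/
noncomputable def slOf (c : ℕ) : SL5 := Classical.epsilon fun g : SL5 => (g : M5) = matOf c

theorem slOf_spec {c : ℕ} (h : c ∈ els) : (slOf c : M5) = matOf c ∧ code (matOf c) = c := by
  have := List.all_eq_true.mp els_ok c h
  simp only [Bool.and_eq_true] at this
  exact ⟨Classical.epsilon_spec (p := fun g : SL5 => (g : M5) = matOf c)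
      ⟨⟨matOf c, (matOf_det c).trans (blockDet_one this.2)⟩, rfl⟩,
    (code_matOf c).trans (Nat.eq_of_beq_eq_true this.1)⟩

/-- the transvection as a member -/
def sSL : SL5 := ⟨sM, Matrix.det_transvection_of_ne 0 1 (by decide) 1⟩

theorem slOf_mem {c : ℕ} (h : c ∈ els) : slOf c ∈ Subgroup.centralizer ({sSL} : Set SL5) := by
  refine (tv_mem_centralizer rfl _).2 ?_
  rw [(slOf_spec h).1]
  exact tvMat_shape _ _ _

theorem code_mem {g : SL5} (h : g ∈ Subgroup.centralizer ({sSL} : Set SL5)) : code (g : M5) ∈ els :=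
  tvShape_mem ((tv_mem_centralizer rfl _).1 h) g.2

theorem slOf_code {g : SL5} (h : g ∈ Subgroup.centralizer ({sSL} : Set SL5)) : slOf (code (g : M5)) = g := by
  obtain ⟨e1, e2⟩ := slOf_spec (code_mem h)
  exact Subtype.ext (e1.trans (code_inj e2))

theorem mulc_mem {a b : ℕ} (ha : a ∈ els) (hb : b ∈ els) : mulc a b ∈ els := by
  have h := code_mem (mul_mem (slOf_mem ha) (slOf_mem hb))
  rwa [Matrix.SpecialLinearGroup.coe_mul, code_mul, (slOf_spec ha).1, (slOf_spec hb).1, (slOf_spec ha).2,
    (slOf_spec hb).2] at h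

theorem slOf_mul {a b : ℕ} (ha : a ∈ els) (hb : b ∈ els) : slOf (mulc a b) = slOf a * slOf b := by
  refine Subtype.ext (code_inj ?_)
  rw [(slOf_spec (mulc_mem ha hb)).1, (slOf_spec (mulc_mem ha hb)).2, Matrix.SpecialLinearGroup.coe_mul,
    code_mul, (slOf_spec ha).1, (slOf_spec hb).1, (slOf_spec ha).2, (slOf_spec hb).2]

/-- a parametrisation of the centraliser of an element by codes -/
structure Fr (G : Type*) [Group G] (z : G) where
  /-- the element of a code -/
  el : ℕ → G
  el_mul : ∀ {a b : ℕ}, a ∈ els → b ∈ els → el (mulc a b) = el a * el b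
  el_inj : ∀ {a b : ℕ}, a ∈ els → b ∈ els → el a = el b → a = b
  el_tc : el tc = z
  el_comm : ∀ {a : ℕ}, a ∈ els → Commute (el a) z
  el_surj : ∀ {g : G}, Commute g z → ∃ a ∈ els, el a = g

theorem onec_mem : onec ∈ els := by
  have := code_mem (one_mem (Subgroup.centralizer ({sSL} : Set SL5)))
  rwa [Matrix.SpecialLinearGroup.coe_one, code_one] at this

theorem tc_mem : tc ∈ els :=
  code_sM ▸ code_mem (g := sSL) (Subgroup.mem_centralizer_singleton_iff.2 rfl)

variable {G : Type*} [Group G] {z : G}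

theorem Fr.el_one (F : Fr G z) : F.el onec = 1 := by
  have h : mulc onec onec = onec := by decide +kernel
  have := F.el_mul onec_mem onec_mem
  rw [h] at this
  exact mul_eq_left.1 this.symm

theorem Fr.el_ne_one (F : Fr G z) {a : ℕ} (ha : a ∈ els) (h : a ≠ onec) : F.el a ≠ 1 := fun e =>
  h (F.el_inj ha onec_mem (e.trans F.el_one.symm))

/-- a frame from an isomorphism of the centraliser with that of the transvection, keeping the element -/
theorem exists_fr (e : Subgroup.centralizer ({z} : Set G) ≃* Subgroup.centralizer ({sSL} : Set SL5))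
    (he : ∀ h : z ∈ Subgroup.centralizer ({z} : Set G), ((e ⟨z, h⟩ : _) : SL5) = sSL) : Nonempty (Fr G z) := by
  classical
  set el : ℕ → G := fun c => if h : c ∈ els then ((e.symm ⟨slOf c, slOf_mem h⟩ : _) : G) else 1 with hel
  have hv : ∀ {c : ℕ} (h : c ∈ els), el c = ((e.symm ⟨slOf c, slOf_mem h⟩ : _) : G) := fun h => dif_pos h
  refine ⟨⟨el, fun {a b} ha hb => ?_, fun {a b} ha hb h => ?_, ?_, fun {a} ha => ?_, fun {g} hg => ?_⟩⟩
  · rw [hv (mulc_mem ha hb), hv ha, hv hb, ← Subgroup.coe_mul, ← map_mul]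
    exact congrArg (fun x => ((e.symm x : _) : G)) (Subtype.ext (slOf_mul ha hb))
  · rw [hv ha, hv hb] at h
    have h2 : slOf a = slOf b := congrArg Subtype.val (e.symm.injective (Subtype.ext h))
    have h3 : matOf a = matOf b := (slOf_spec ha).1.symm.trans ((congrArg Subtype.val h2).trans (slOf_spec hb).1)
    exact (slOf_spec ha).2.symm.trans ((congrArg code h3).trans (slOf_spec hb).2)
  · rw [hv tc_mem]
    have hz : z ∈ Subgroup.centralizer ({z} : Set G) := Subgroup.mem_centralizer_singleton_iff.2 rfl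
    rw [show (⟨slOf tc, slOf_mem tc_mem⟩ : Subgroup.centralizer ({sSL} : Set SL5)) = e ⟨z, hz⟩ from
      Subtype.ext ((he hz).trans ?_).symm, e.symm_apply_apply]
    exact (slOf_code (g := sSL) (Subgroup.mem_centralizer_singleton_iff.2 rfl)).symm.trans (by rw [show code ((sSL : SL5) : M5) = tc from code_sM])
  · rw [hv ha]
    exact Subgroup.mem_centralizer_singleton_iff.1 (e.symm ⟨slOf a, slOf_mem ha⟩).2
  · set x := e ⟨g, Subgroup.mem_centralizer_singleton_iff.2 hg⟩ with hx
    refine ⟨code ((x : SL5) : M5), code_mem x.2, ?_⟩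
    rw [hv (code_mem x.2)]
    rw [show (⟨slOf (code ((x : SL5) : M5)), slOf_mem (code_mem x.2)⟩ : Subgroup.centralizer ({sSL} : Set SL5)) = x
      from Subtype.ext (slOf_code x.2), hx, e.symm_apply_apply]

end Cfsg.Agent.Spor.TranCent
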