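import Cfsg.Agent.Lib.Spor.TranCent.FactsCheck
import Cfsg.Agent.Lib.Spor.TranCent.FusionData

/-!
Checks on roots, on the centraliser of the first four group, and on conjugation in it.
-/

set_option autoImplicit false
set_option maxRecDepth 100000

namespace Cfsg.Agent.Spor.TranCent

/-- representative `i` -/
def rp (i : ℕ) : ℕ := reps.getD i 0

theorem root_all : (els.filter fun a => let c := mulc a a; reps.any fun r => eqv c r) = rootTab := by
  decide +kernel

/-- the number of roots of representative `k` commuting with representative `i` -/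
def rootSel (i k : ℕ) : ℕ :=
  (rootTab.filter fun a => eqv (mulc a a) (rp k) && eqv (mulc (rp i) a) (mulc a (rp i))).length

theorem root_tab : ((List.range 8).all fun i => eqv (rootSel i i) (rootCnt.getD i (0, 0)).1 &&
      eqv (rootSel i 0) (rootCnt.getD i (0, 0)).2) = true := by decide +kernel

theorem x_all : (els.filter fun a => eqv (mulc (rp 1) a) (mulc a (rp 1))) = xList := by decide +kernel

/-- the twelve forms -/
def forms : List (ℕ × ℕ × ℕ) := [(0, 0, 0), (0, 1, 0), (0, 0, 1), (0, 1, 1), (1, 0, 0), (1, 1, 0), (1, 0, 1),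
  (1, 1, 1), (2, 0, 0), (2, 1, 0), (2, 0, 1), (2, 1, 1)]

/-- powers for the forms -/
def pw3 (c k : ℕ) : ℕ := bif Nat.beq k 0 then onec else bif Nat.beq k 1 then c else mulc c c

/-- the code of a form -/
def formCode (p : ℕ × ℕ × ℕ) : ℕ := mulc (mulc (pw3 dCode p.1) (pw3 tc p.2.1)) (pw3 (rp 1) p.2.2)

/-- the form after the swap -/
def formSwap (p : ℕ × ℕ × ℕ) : ℕ := mulc (mulc (pw3 dCode p.1) (pw3 (rp 1) p.2.1)) (pw3 tc p.2.2)

theorem x_facts :
    ((xList.all fun a => !(eqv (mulc a (mulc a a)) onec) || eqv a onec ||
        xList.any fun c => eqv (mulc c dCode) (mulc a c)) &&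
      (xList.all fun a => !(eqv (mulc a dCode) (mulc dCode a)) || forms.any fun p => eqv (formCode p) a) &&
      (forms.all fun p => !(eqv (mulc (formSwap p) (formCode p)) onec) || eqv (formCode p) onec ||
        eqv (formCode p) (mulc tc (rp 1))) &&
      (forms.all fun p => (fun c => eqv c onec || eqv c tc || eqv c (rp 1) || eqv c (mulc tc (rp 1)))
        (mulc (formCode p) (mulc (formCode p) (formCode p)))) &&
      eqv (mulc dCode (mulc dCode dCode)) onec && !(eqv dCode onec) && xList.contains dCode &&
      eqv (mulc dCode (rp 2)) (mulc (rp 2) dCode) && eqv (mulc (mulc (rp 2) (rp 1)) (rp 2)) (mulc tc (rp 1)) &&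
      eqv (rp 0) tc) = true := by
  decide +kernel

/-- elements exchanging a representative with its product by the transvection -/
def swapWord : List (List ℕ) := [[], [4, 1, 2, 4], [1, 2]]

theorem swap_ok : ([1, 2].all fun i => eqv (mulc (evalw (swapWord.getD i [])) (rp i))
    (mulc (mulc tc (rp i)) (evalw (swapWord.getD i []))) &&
    (swapWord.getD i []).all fun j => Nat.blt j 5) = true := by decide +kernel

/-- no element conjugates the first representative to the second -/
theorem one_two : (els.all fun a => !(eqv (mulc a (rp 1)) (mulc (rp 2) a))) = true := by decide +kernel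

end Cfsg.Agent.Spor.TranCent
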