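import Cfsg.Agent.Lib.Spor.TranCent.Facts
import Cfsg.Agent.Lib.Spor.TranCent.FusionCheck

/-!
Fusion of the involutions commuting with the given one, and an involution exchanging it with a conjugate.
-/

set_option autoImplicit false
set_option linter.style.haveILetI false
set_option maxRecDepth 100000

namespace Cfsg.Agent.Spor.TranCent

variable {G : Type*} [Group G] {z : G}

theorem tc_facts : (eqv (mulc tc tc) onec && !(eqv tc onec) && eqv (rp 0) tc) = true := by decide +kernel

theorem Fr.z_sq (F : Fr G z) : z * z = 1 := by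
  have h := tc_facts
  simp only [Bool.and_eq_true, eqv] at h
  rw [← F.el_tc, ← F.el_mul tc_mem tc_mem, Nat.eq_of_beq_eq_true h.1.1, F.el_one]

theorem Fr.z_ne_one (F : Fr G z) : z ≠ 1 := by
  have h := tc_facts
  simp only [Bool.and_eq_true, Bool.not_eq_true', eqv] at h
  rw [← F.el_tc]
  exact F.el_ne_one tc_mem fun e => by simp [e] at h

theorem Fr.rep_eq (F : Fr G z) (i : ℕ) : F.rep i = F.el (rp i) := rfl

theorem Fr.rep_zero (F : Fr G z) : F.rep 0 = z := by
  have h := tc_facts
  simp only [Bool.and_eq_true, eqv] at h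
  rw [F.rep_eq, Nat.eq_of_beq_eq_true h.2, F.el_tc]

theorem rp_spec {i : ℕ} (hi : i < 8) : rp i ∈ els ∧ mulc (rp i) (rp i) = onec ∧ rp i ≠ onec := reps_spec hi

theorem Fr.rep_comm (F : Fr G z) {i : ℕ} (hi : i < 8) : Commute (F.rep i) z := F.el_comm (rp_spec hi).1

theorem Fr.rep_sq (F : Fr G z) {i : ℕ} (hi : i < 8) : F.rep i * F.rep i = 1 := by
  rw [F.rep_eq, ← F.el_mul (rp_spec hi).1 (rp_spec hi).1]
  exact (congrArg F.el (rp_spec hi).2.1).trans F.el_one

theorem Fr.rep_ne_one (F : Fr G z) {i : ℕ} (hi : i < 8) : F.rep i ≠ 1 :=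
  F.el_ne_one (rp_spec hi).1 (rp_spec hi).2.2

theorem Fr.rep_inj (F : Fr G z) {i j : ℕ} (hi : i < 8) (hj : j < 8) (h : F.rep i = F.rep j) : i = j :=
  (by decide +kernel : ∀ i < 8, ∀ j < 8, rp i = rp j → i = j) i hi j hj
    (F.el_inj (rp_spec hi).1 (rp_spec hj).1 h)

/-- roots of an element commuting with two given ones, moved by conjugation -/
def rootMove (g a b c : G) :
    {x : G // Commute x a ∧ Commute x b ∧ x * x = c} ≃
      {x : G // Commute x (MulAut.conj g a) ∧ Commute x (MulAut.conj g b) ∧ x * x = MulAut.conj g c} :=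
  (MulAut.conj g).toEquiv.subtypeEquiv fun x => by
    refine and_congr ?_ (and_congr ?_ ?_)
    · exact ⟨fun h => h.map (MulAut.conj g), fun h => (MulAut.conj g).injective
        (by rw [map_mul, map_mul]; exact h)⟩
    · exact ⟨fun h => h.map (MulAut.conj g), fun h => (MulAut.conj g).injective
        (by rw [map_mul, map_mul]; exact h)⟩
    · show x * x = c ↔ MulAut.conj g x * MulAut.conj g x = MulAut.conj g c
      rw [← map_mul]
      exact (MulAut.conj g).injective.eq_iff.symm

theorem filter_sub {l : List ℕ} {p q : ℕ → Bool} (h : ∀ a, p a = true → q a = true) :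
    (l.filter q).filter p = l.filter p := by
  rw [List.filter_filter]
  refine List.filter_congr fun a _ => ?_
  cases hp : p a with
  | false => rfl
  | true => simp [h a hp]

theorem Fr.rootNum_rep (F : Fr G z) [Finite G] {i k : ℕ} (hi : i < 8) (hk : k < 8) :
    Nat.card {g : G // Commute g (F.rep i) ∧ Commute g z ∧ g * g = F.rep k} = rootSel i k := by
  rw [F.card_eq (fun a => eqv (mulc a a) (rp k) && eqv (mulc (rp i) a) (mulc a (rp i))) _ fun g h => h.2.1]
  · unfold rootSel
    rw [← root_all, filter_sub]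
    intro a ha
    simp only [Bool.and_eq_true] at ha
    refine List.any_eq_true.2 ⟨rp k, ?_, ha.1⟩
    unfold rp
    rw [List.getD_eq_getElem _ _ (show k < reps.length from hk)]
    exact List.getElem_mem _
  · intro a ha
    simp only [Bool.and_eq_true, eqv, Nat.beq_eq]
    rw [F.rep_eq, F.rep_eq, F.comm_iff (rp_spec hi).1 ha]
    constructor
    · rintro ⟨h1, -, h3⟩
      exact ⟨F.el_inj (mulc_mem ha ha) (rp_spec hk).1 (by rw [F.el_mul ha ha, h3]), h1⟩
    · rintro ⟨h1, h2⟩
      exact ⟨h2, F.el_comm ha, by rw [← F.el_mul ha ha, h1]⟩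

theorem rootCnt_cases : ∀ i < 8, ∀ j < 8, i ≠ 0 → j ≠ 0 →
    (rootCnt.getD i (0, 0)).1 = (rootCnt.getD j (0, 0)).2 → (rootCnt.getD i (0, 0)).2 = (rootCnt.getD j (0, 0)).1 →
    ((i = 1 ∨ i = 2) ∧ (j = 1 ∨ j = 2)) ∨ (i = 4 ∧ j = 4) ∨ ((i = 6 ∨ i = 7) ∧ (j = 6 ∨ j = 7)) := by
  intro i hi j hj
  interval_cases i <;> interval_cases j <;> decide +kernel

theorem rootSel_eq {i : ℕ} (hi : i < 8) :
    rootSel i i = (rootCnt.getD i (0, 0)).1 ∧ rootSel i 0 = (rootCnt.getD i (0, 0)).2 := by
  have h := List.all_eq_true.mp root_tab i (List.mem_range.2 hi)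
  simp only [Bool.and_eq_true, eqv] at h
  exact ⟨Nat.eq_of_beq_eq_true h.1, Nat.eq_of_beq_eq_true h.2⟩

/-- a representative conjugate to `z` is exchanged with `z` up to the class of the image of `z` -/
theorem Fr.partner (F : Fr G z) [Finite G] {i : ℕ} (hi : i < 8) (hi0 : i ≠ 0)
    (hc : IsConj (F.rep i) z) :
    ∃ j < 8, j ≠ 0 ∧ (∃ g : G, MulAut.conj g (F.rep i) = z ∧ MulAut.conj g z = F.rep j) ∧
      (((i = 1 ∨ i = 2) ∧ (j = 1 ∨ j = 2)) ∨ (i = 4 ∧ j = 4) ∨ ((i = 6 ∨ i = 7) ∧ (j = 6 ∨ j = 7))) := by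
  obtain ⟨h, hh⟩ := isConj_iff.1 hc
  set y := MulAut.conj h z with hy
  have hyc : Commute y z := by
    have := (F.rep_comm hi).symm.map (MulAut.conj h)
    rwa [MulAut.conj_apply h (F.rep i), hh] at this
  have hy2 : y * y = 1 := by rw [hy, ← map_mul, F.z_sq, map_one]
  have hy1 : y ≠ 1 := fun e => F.z_ne_one ((MulAut.conj h).injective (e.trans (map_one _).symm))
  have hyz : y ≠ z := fun e => hi0 (F.rep_inj hi (by norm_num) (((MulAut.conj h).injective
    ((show MulAut.conj h (F.rep i) = z from hh).trans e.symm)).trans F.rep_zero.symm))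
  obtain ⟨j, hj, c, hcz, hcy⟩ := F.exists_rep hyc hy2 hy1
  have hcz' : MulAut.conj c z = z := by
    rw [MulAut.conj_apply, hcz.eq, mul_inv_cancel_right]
  have hj0 : j ≠ 0 := by
    rintro rfl
    rw [F.rep_zero] at hcy
    exact hyz ((MulAut.conj c).injective ((show MulAut.conj c y = z from hcy).trans hcz'.symm))
  refine ⟨j, hj, hj0, ⟨c * h, ?_, ?_⟩, ?_⟩
  · rw [map_mul, MulAut.mul_apply, show MulAut.conj h (F.rep i) = z from hh, hcz']
  · rw [map_mul, MulAut.mul_apply]
    exact hcy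
  · have hg1 : MulAut.conj (c * h) (F.rep i) = z := by
      rw [map_mul, MulAut.mul_apply, show MulAut.conj h (F.rep i) = z from hh, hcz']
    have hg2 : MulAut.conj (c * h) z = F.rep j := by
      rw [map_mul, MulAut.mul_apply]
      exact hcy
    have hflip : ∀ {w : G}, Nat.card {x : G // Commute x z ∧ Commute x (F.rep j) ∧ x * x = w} =
        Nat.card {x : G // Commute x (F.rep j) ∧ Commute x z ∧ x * x = w} := fun {w} =>
      Nat.card_congr (Equiv.subtypeEquivRight fun x => ⟨fun h => ⟨h.2.1, h.1, h.2.2⟩, fun h => ⟨h.2.1, h.1, h.2.2⟩⟩)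
    have e1 := Nat.card_congr (rootMove (c * h) (F.rep i) z (F.rep i))
    have e2 := Nat.card_congr (rootMove (c * h) (F.rep i) z z)
    simp only [hg1, hg2, hflip] at e1 e2
    have a1 : rootSel i i = rootSel j 0 := by
      rw [← F.rootNum_rep hi hi, ← F.rootNum_rep hj (by norm_num : 0 < 8), F.rep_zero]
      exact e1
    have a2 : rootSel i 0 = rootSel j j := by
      rw [← F.rootNum_rep hi (by norm_num : 0 < 8), ← F.rootNum_rep hj hj, F.rep_zero]
      exact e2
    rw [(rootSel_eq hi).1, (rootSel_eq hj).2] at a1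
    rw [(rootSel_eq hi).2, (rootSel_eq hj).1] at a2
    exact rootCnt_cases i hi j hj hi0 hj0 a1 a2

/-- an element commuting with `z` exchanging a representative with its product by `z` -/
theorem Fr.exists_shift (F : Fr G z) {i : ℕ} (hi : i = 1 ∨ i = 2) :
    ∃ c : G, MulAut.conj c z = z ∧ MulAut.conj c (F.rep i) = z * F.rep i := by
  have h := List.all_eq_true.mp swap_ok i (by rcases hi with rfl | rfl <;> simp)
  simp only [Bool.and_eq_true, eqv, List.all_eq_true] at h
  have hw : evalw (swapWord.getD i []) ∈ els := evalw_mem fun j hj => Nat.le_of_ble_eq_true (h.2 j hj)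
  have hi8 : i < 8 := by omega
  refine ⟨F.el (evalw (swapWord.getD i [])), ?_, ?_⟩
  · rw [MulAut.conj_apply, (F.el_comm hw).eq, mul_inv_cancel_right]
  · have e := congrArg F.el (Nat.eq_of_beq_eq_true h.1)
    rw [F.el_mul hw (rp_spec hi8).1, F.el_mul (mulc_mem tc_mem (rp_spec hi8).1) hw,
      F.el_mul tc_mem (rp_spec hi8).1, F.el_tc] at e
    rw [MulAut.conj_apply, F.rep_eq, e, mul_inv_cancel_right]

/-- the classes next to `z` are self-paired -/
theorem Fr.exists_swap (F : Fr G z) [Finite G] (hc : IsConj (F.rep 1) z) :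
    ∃ g : G, MulAut.conj g (F.rep 1) = z ∧ MulAut.conj g z = F.rep 1 := by
  obtain ⟨j, hj, -, ⟨g, g1, g2⟩, h⟩ := F.partner (by norm_num) one_ne_zero hc
  rcases h with ⟨-, rfl | rfl⟩ | ⟨h, -⟩ | ⟨h, -⟩
  · exact ⟨g, g1, g2⟩
  · exfalso
    obtain ⟨c₁, a1, b1⟩ := F.exists_shift (i := 1) (Or.inl rfl)
    obtain ⟨c₂, a2, b2⟩ := F.exists_shift (i := 2) (Or.inr rfl)
    set q := F.rep 2 with hq
    have gi : MulAut.conj g⁻¹ z = F.rep 1 := by rw [map_inv, MulAut.inv_apply, MulEquiv.symm_apply_eq, g1]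
    have gj : MulAut.conj g⁻¹ q = z := by rw [map_inv, MulAut.inv_apply, MulEquiv.symm_apply_eq, g2]
    have hzq : Commute z q := (F.rep_comm (by norm_num)).symm
    set x := g * c₁ * g⁻¹ with hx
    have x1 : MulAut.conj x q = q := by
      rw [hx, map_mul, map_mul, MulAut.mul_apply, MulAut.mul_apply, gj, a1, g2]
    have x2 : MulAut.conj x z = z * q := by
      rw [hx, map_mul, map_mul, MulAut.mul_apply, MulAut.mul_apply, gi, b1, map_mul, g1, g2]
      exact hzq.symm
    clear_value x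
    have hzz := F.z_sq
    have hqq : q * q = 1 := F.rep_sq (by norm_num)
    have s1 : MulAut.conj (x * c₂ * x) z = q := by
      rw [map_mul, map_mul, MulAut.mul_apply, MulAut.mul_apply, x2, map_mul, a2, b2, ← mul_assoc, hzz, one_mul, x1]
    have s2 : MulAut.conj (x * c₂ * x) q = z := by
      rw [map_mul, map_mul, MulAut.mul_apply, MulAut.mul_apply, x1, b2, map_mul, x2, x1, mul_assoc, hqq, mul_one]
    have w1 : MulAut.conj (x * c₂ * x * g) z = z := by rw [map_mul, MulAut.mul_apply, g2, s2]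
    have w2 : MulAut.conj (x * c₂ * x * g) (F.rep 1) = q := by rw [map_mul, MulAut.mul_apply, g1, s1]
    rw [MulAut.conj_apply, mul_inv_eq_iff_eq_mul] at w1 w2
    obtain ⟨a, ha, e⟩ := F.el_surj (show Commute _ z from w1)
    rw [← e, hq, F.rep_eq, F.rep_eq, ← F.el_mul ha (rp_spec (i := 1) (by norm_num)).1,
      ← F.el_mul (rp_spec (i := 2) (by norm_num)).1 ha] at w2
    have := List.all_eq_true.mp one_two a ha
    rw [F.el_inj (mulc_mem ha (rp_spec (i := 1) (by norm_num)).1)
      (mulc_mem (rp_spec (i := 2) (by norm_num)).1 ha) w2] at this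
    simp [eqv, Nat.beq_refl] at this
  · exact absurd h (by norm_num)
  · exact absurd h (by norm_num)

theorem dCode_mem : dCode ∈ els := by
  have h := x_facts
  simp only [Bool.and_eq_true, List.contains_iff_mem] at h
  rw [← x_all] at h
  exact (List.mem_filter.1 h.1.1.1.2).1

/-- the element of order three -/
def Fr.dEl (F : Fr G z) : G := F.el dCode

/-- an involution exchanging `z` with the first representative -/
structure Side (F : Fr G z) where
  /-- the involution -/
  g : G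
  sq : g * g = 1
  conj_z : g * z * g = F.rep 1
  comm_d : Commute g F.dEl
  braid : (g * F.rep 2) * (g * F.rep 2) * (g * F.rep 2) = 1

theorem pw3_val (c : ℕ) : pw3 c 0 = onec ∧ pw3 c 1 = c ∧ ∀ k, k ≠ 0 → k ≠ 1 → pw3 c k = mulc c c := by
  refine ⟨?_, ?_, fun k h0 h1 => ?_⟩
  · rw [pw3, Nat.beq_refl, cond_true]
  · rw [pw3, show Nat.beq 1 0 = false from rfl, Nat.beq_refl, cond_false, cond_true]
  · have e0 : Nat.beq k 0 = false := by simpa [← Bool.not_eq_true, Nat.beq_eq] using h0
    have e1 : Nat.beq k 1 = false := by simpa [← Bool.not_eq_true, Nat.beq_eq] using h1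
    rw [pw3, e0, e1, cond_false, cond_false]

theorem pow3_mem {c : ℕ} (hc : c ∈ els) (k : ℕ) : pw3 c k ∈ els := by
  by_cases h0 : k = 0
  · rw [h0, (pw3_val c).1]; exact onec_mem
  by_cases h1 : k = 1
  · rw [h1, (pw3_val c).2.1]; exact hc
  rw [(pw3_val c).2.2 k h0 h1]
  exact mulc_mem hc hc

theorem Fr.el_pw3 (F : Fr G z) {c : ℕ} (hc : c ∈ els) {k : ℕ} (hk : k < 3) : F.el (pw3 c k) = F.el c ^ k := by
  obtain rfl | rfl | rfl : k = 0 ∨ k = 1 ∨ k = 2 := by omega
  · rw [(pw3_val c).1, F.el_one, pow_zero]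
  · rw [(pw3_val c).2.1, pow_one]
  · rw [(pw3_val c).2.2 2 (by omega) (by omega), F.el_mul hc hc, pow_two]

attribute [local irreducible] pw3 mulc

theorem forms_lt : ∀ p ∈ forms, p.1 < 3 ∧ p.2.1 < 3 ∧ p.2.2 < 3 := by decide

theorem formCode_mem (p : ℕ × ℕ × ℕ) : formCode p ∈ els ∧ formSwap p ∈ els := by
  have h1 := rp_spec (i := 1) (by norm_num)
  exact ⟨mulc_mem (mulc_mem (pow3_mem dCode_mem _) (pow3_mem tc_mem _)) (pow3_mem h1.1 _),
    mulc_mem (mulc_mem (pow3_mem dCode_mem _) (pow3_mem h1.1 _)) (pow3_mem tc_mem _)⟩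

theorem Fr.el_form (F : Fr G z) {p : ℕ × ℕ × ℕ} (hp : p ∈ forms) :
    F.el (formCode p) = F.dEl ^ p.1 * z ^ p.2.1 * F.rep 1 ^ p.2.2 ∧
    F.el (formSwap p) = F.dEl ^ p.1 * F.rep 1 ^ p.2.1 * z ^ p.2.2 := by
  obtain ⟨l1, l2, l3⟩ := forms_lt p hp
  have h1 : rp 1 ∈ els := (rp_spec (i := 1) (by norm_num)).1
  simp only [formCode, formSwap]
  constructor
  · rw [F.el_mul (mulc_mem (pow3_mem dCode_mem _) (pow3_mem tc_mem _)) (pow3_mem h1 _),
      F.el_mul (pow3_mem dCode_mem _) (pow3_mem tc_mem _), F.el_pw3 dCode_mem l1, F.el_pw3 tc_mem l2,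
      F.el_pw3 h1 l3, F.el_tc]
    rfl
  · rw [F.el_mul (mulc_mem (pow3_mem dCode_mem _) (pow3_mem h1 _)) (pow3_mem tc_mem _),
      F.el_mul (pow3_mem dCode_mem _) (pow3_mem h1 _), F.el_pw3 dCode_mem l1, F.el_pw3 tc_mem l3,
      F.el_pw3 h1 l2, F.el_tc]
    rfl

theorem Fr.exists_side (F : Fr G z) [Finite G] (hc : IsConj (F.rep 1) z) : Nonempty (Side F) := by
  obtain ⟨g₀, gq, gz⟩ := F.exists_swap hc
  have hf := x_facts
  simp only [Bool.and_eq_true, List.all_eq_true, Bool.or_eq_true, List.any_eq_true, Bool.not_eq_true',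
    List.contains_iff_mem, eqv] at hf
  obtain ⟨⟨⟨⟨⟨⟨⟨⟨⟨f1, f2⟩, f3⟩, f4⟩, f5⟩, f6⟩, f7⟩, f8⟩, f9⟩, -⟩ := hf
  set q := F.rep 1 with hq
  set d := F.dEl with hd
  have hdz : Commute d z := F.el_comm dCode_mem
  have r1 : rp 1 ∈ els := (rp_spec (i := 1) (by norm_num)).1
  have r2 : rp 2 ∈ els := (rp_spec (i := 2) (by norm_num)).1
  have inX : ∀ a ∈ els, Commute (F.el a) q → a ∈ xList := by
    intro a ha h
    rw [← x_all, List.mem_filter]
    exact ⟨ha, by simp [eqv, (F.comm_iff r1 ha).1 h]⟩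
  have hdq : Commute d q := by
    have hm : dCode ∈ els.filter fun a => eqv (mulc (rp 1) a) (mulc a (rp 1)) := by rw [x_all]; exact f7
    exact (F.comm_iff r1 dCode_mem).2 (Nat.eq_of_beq_eq_true (List.mem_filter.1 hm).2)
  have hd3 : d * (d * d) = 1 := by
    rw [hd, Fr.dEl, ← F.el_mul dCode_mem dCode_mem, ← F.el_mul dCode_mem (mulc_mem dCode_mem dCode_mem),
      Nat.eq_of_beq_eq_true f5, F.el_one]
  have hd1 : d ≠ 1 := F.el_ne_one dCode_mem fun e => by simp [e] at f6
  -- adjust to commute with `d`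
  set d' := MulAut.conj g₀ d with hd'
  have d'z : Commute d' z := by have := hdq.map (MulAut.conj g₀); rwa [gq] at this
  have d'q : Commute d' q := by have := hdz.map (MulAut.conj g₀); rwa [gz] at this
  obtain ⟨a, ha, ea⟩ := F.el_surj d'z
  have haX := inX a ha (ea ▸ d'q)
  have ha3 : mulc a (mulc a a) = onec := F.el_inj (mulc_mem ha (mulc_mem ha ha)) onec_mem (by
    rw [F.el_mul ha (mulc_mem ha ha), F.el_mul ha ha, F.el_one, ea, hd', ← map_mul, ← map_mul, hd3, map_one])
  rcases f1 a haX with (hb | hb) | ⟨c, hcX, hb⟩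
  · rw [ha3, Nat.beq_refl] at hb; exact Bool.noConfusion hb
  · exact absurd ((MulAut.conj g₀).injective (((ea.symm.trans (congrArg F.el (Nat.eq_of_beq_eq_true hb))).trans
      F.el_one).trans (map_one _).symm)) hd1
  rw [← x_all] at hcX
  obtain ⟨hcm, hcq'⟩ := List.mem_filter.1 hcX
  have hcq : Commute (F.el c) q := (F.comm_iff r1 hcm).2 (Nat.eq_of_beq_eq_true hcq')
  have hcd := congrArg F.el (Nat.eq_of_beq_eq_true hb)
  rw [F.el_mul hcm dCode_mem, F.el_mul ha hcm, ea] at hcd
  set h := (F.el c)⁻¹ * g₀ with hh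
  have cz : MulAut.conj (F.el c)⁻¹ z = z := by
    rw [MulAut.conj_apply, inv_inv, mul_assoc, ← (F.el_comm hcm).eq, inv_mul_cancel_left]
  have cq : MulAut.conj (F.el c)⁻¹ q = q := by
    rw [MulAut.conj_apply, inv_inv, mul_assoc, ← hcq.eq, inv_mul_cancel_left]
  have hhz : MulAut.conj h z = q := by rw [hh, map_mul, MulAut.mul_apply, gz, cq]
  have hhq : MulAut.conj h q = z := by rw [hh, map_mul, MulAut.mul_apply, gq, cz]
  have hhd : MulAut.conj h d = d := by
    rw [hh, map_mul, MulAut.mul_apply, ← hd', MulAut.conj_apply, inv_inv, mul_assoc, ← hcd]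
    exact inv_mul_cancel_left _ _
  have form : ∀ k : G, Commute k z → Commute k q → Commute k d → ∃ p ∈ forms, F.el (formCode p) = k := by
    intro k kz kq kd
    obtain ⟨b, hb', rfl⟩ := F.el_surj kz
    rcases f2 b (inX b hb' kq) with h' | ⟨p, hp, he⟩
    · have := (F.comm_iff dCode_mem hb').1 kd
      rw [this, Nat.beq_refl] at h'
      exact Bool.noConfusion h'
    · exact ⟨p, hp, by rw [Nat.eq_of_beq_eq_true he]⟩
  have movef : ∀ k : G, MulAut.conj k z = q → MulAut.conj k q = z → MulAut.conj k d = d → ∀ p ∈ forms,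
      MulAut.conj k (F.el (formCode p)) = F.el (formSwap p) := by
    intro k k1 k2 k3 p hp
    rw [(F.el_form hp).1, (F.el_form hp).2, map_mul, map_mul, map_pow, map_pow, map_pow, ← hd, ← hq, k1, k2, k3]
  have hqq : q * q = 1 := F.rep_sq (by norm_num)
  have hzz := F.z_sq
  have hzq : Commute z q := (F.rep_comm (by norm_num)).symm
  have com_of : ∀ {k x : G}, MulAut.conj k x = x → Commute k x := fun {k x} e => by
    rwa [MulAut.conj_apply, mul_inv_eq_iff_eq_mul] at e
  obtain ⟨p, hp, hpe⟩ := form (h * h) (com_of (by rw [map_mul, MulAut.mul_apply, hhz, hhq]))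
    (com_of (by rw [map_mul, MulAut.mul_apply, hhq, hhz])) (com_of (by rw [map_mul, MulAut.mul_apply, hhd, hhd]))
  -- the cube of `h`
  set k := h * h * h with hk
  have kz : MulAut.conj k z = q := by simp only [hk, map_mul, MulAut.mul_apply, hhz, hhq]
  have kq : MulAut.conj k q = z := by simp only [hk, map_mul, MulAut.mul_apply, hhz, hhq]
  have kd : MulAut.conj k d = d := by simp only [hk, map_mul, MulAut.mul_apply, hhd]
  have hk2 : k * k = F.el (mulc (formCode p) (mulc (formCode p) (formCode p))) := by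
    rw [F.el_mul (formCode_mem p).1 (mulc_mem (formCode_mem p).1 (formCode_mem p).1),
      F.el_mul (formCode_mem p).1 (formCode_mem p).1, hpe, hk]
    simp only [mul_assoc]
  have hfix : MulAut.conj k (k * k) = k * k := by simp [MulAut.conj_apply, mul_assoc]
  obtain ⟨g, g2, gz', gq', gd⟩ : ∃ g : G, g * g = 1 ∧ MulAut.conj g z = q ∧ MulAut.conj g q = z ∧
      MulAut.conj g d = d := by
    rcases f4 p hp with ((h4 | h4) | h4) | h4
    · exact ⟨k, by rw [hk2, Nat.eq_of_beq_eq_true h4, F.el_one], kz, kq, kd⟩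
    · rw [hk2, Nat.eq_of_beq_eq_true h4, F.el_tc] at hfix
      exact absurd (F.rep_inj (i := 1) (j := 0) (by norm_num) (by norm_num)
        ((kz.symm.trans hfix).trans F.rep_zero.symm)) one_ne_zero
    · rw [hk2, Nat.eq_of_beq_eq_true h4, show F.el (rp 1) = q from rfl] at hfix
      exact absurd (F.rep_inj (i := 1) (j := 0) (by norm_num) (by norm_num)
        ((hfix.symm.trans kq).trans F.rep_zero.symm)) one_ne_zero
    · rw [Nat.eq_of_beq_eq_true h4, F.el_mul tc_mem r1, F.el_tc, show F.el (rp 1) = q from rfl] at hk2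
      refine ⟨k * z, ?_, ?_, ?_, ?_⟩
      · have : k * z * (k * z) = MulAut.conj k z * (k * k) * z := by
          rw [MulAut.conj_apply]; group
        rw [this, kz, hk2, ← mul_assoc, ← hzq.eq, mul_assoc z q q, hqq, mul_one, hzz]
      · rw [map_mul, MulAut.mul_apply, MulAut.conj_apply z z, mul_inv_cancel_right, kz]
      · rw [map_mul, MulAut.mul_apply, MulAut.conj_apply z q, hzq.eq, mul_inv_cancel_right, kq]
      · rw [map_mul, MulAut.mul_apply, MulAut.conj_apply z d, hdz.symm.eq, mul_inv_cancel_right, kd]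
  have gi : g⁻¹ = g := inv_eq_of_mul_eq_one_right g2
  have gc : Commute g d := com_of gd
  -- the product with the second representative has order three
  set u := F.rep 2 with hu
  have u2 : u * u = 1 := F.rep_sq (by norm_num)
  have ui : u⁻¹ = u := inv_eq_of_mul_eq_one_right u2
  have uz : MulAut.conj u z = z := by rw [MulAut.conj_apply, (F.rep_comm (by norm_num)).eq, mul_inv_cancel_right]
  have uq : MulAut.conj u q = z * q := by
    have e := congrArg F.el (Nat.eq_of_beq_eq_true f9)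
    rw [F.el_mul (mulc_mem r2 r1) r2, F.el_mul r2 r1, F.el_mul tc_mem r1, F.el_tc] at e
    rw [MulAut.conj_apply, ui]
    exact e
  have ud : MulAut.conj u d = d := by
    have e : Commute u d := (F.comm_iff dCode_mem r2).2 (Nat.eq_of_beq_eq_true f8)
    rw [MulAut.conj_apply, e.eq, mul_inv_cancel_right]
  set v := g * u with hv
  have vz : MulAut.conj v z = q := by rw [hv, map_mul, MulAut.mul_apply, uz, gz']
  have vq : MulAut.conj v q = q * z := by rw [hv, map_mul, MulAut.mul_apply, uq, map_mul, gz', gq']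
  have vqz : MulAut.conj v (q * z) = z := by
    rw [map_mul, vz, vq, mul_assoc, hzq.eq, ← mul_assoc, hqq, one_mul]
  have vd : MulAut.conj v d = d := by rw [hv, map_mul, MulAut.mul_apply, ud, gd]
  obtain ⟨p', hp', hpe'⟩ := form (v * v * v) (com_of (by simp only [map_mul, MulAut.mul_apply]; rw [vz, vq, vqz]))
    (com_of (by simp only [map_mul, MulAut.mul_apply]; rw [vq, vqz, vz]))
    (com_of (by simp only [map_mul, MulAut.mul_apply, vd]))
  have hinv : F.el (formSwap p') * F.el (formCode p') = 1 := by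
    rw [← movef g gz' gq' gd p' hp', hpe', MulAut.conj_apply, gi, hv]
    simp only [mul_assoc]
    simp only [mul_inv_cancel_left, ← mul_assoc g g, g2, one_mul, ← mul_assoc u u, u2]
  have he : mulc (formSwap p') (formCode p') = onec :=
    F.el_inj (mulc_mem (formCode_mem p').2 (formCode_mem p').1) onec_mem
      (by rw [F.el_mul (formCode_mem p').2 (formCode_mem p').1, F.el_one]; exact hinv)
  refine ⟨⟨g, g2, ?_, gc, ?_⟩⟩
  · rw [MulAut.conj_apply, gi] at gz'
    exact gz'
  rcases f3 p' hp' with (h3 | h3) | h3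
  · rw [he, Nat.beq_refl] at h3; exact Bool.noConfusion h3
  · rw [← hu, ← hv, ← hpe', Nat.eq_of_beq_eq_true h3, F.el_one]
  · exfalso
    have hvf : MulAut.conj v (v * v * v) = v * v * v := by simp [MulAut.conj_apply, mul_assoc]
    rw [← hpe', Nat.eq_of_beq_eq_true h3, F.el_mul tc_mem r1, F.el_tc, show F.el (rp 1) = q from rfl, map_mul,
      vz, vq, ← mul_assoc, hqq, one_mul] at hvf
    exact F.rep_ne_one (i := 1) (by norm_num) (mul_left_cancel (hvf.symm.trans (mul_one z).symm) : q = 1)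

end Cfsg.Agent.Spor.TranCent
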