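import Cfsg.Agent.Lib.Spor.TranCent.FusionCheck
import Cfsg.Agent.Lib.Spor.TranCent.SearchData

/-!
The search for the induced automorphisms, as a computation with codes.
-/

set_option autoImplicit false
set_option maxRecDepth 100000

namespace Cfsg.Agent.Spor.TranCent

/-- the value of a word in given codes -/
def evalG (gs w : List ℕ) : ℕ := w.foldr (fun j a => mulc (gs.getD j onec) a) onec

/-- the generators -/
def genFrom : List ℕ := [tc, rp 1, dCode, genA, genB]

/-- the images of the generators -/
def genTo (y v : ℕ) : List ℕ := [rp 1, tc, dCode, y, v]

/-- the recorded word of a code -/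
def wordOf (x : ℕ) : List ℕ := ((wordTab.find? fun p => eqv p.1 x).map Prod.snd).getD []

/-- whether the recorded word is right -/
def known (x : ℕ) : Bool := eqv (evalG genFrom (wordOf x)) x && (wordOf x).all fun j => Nat.blt j 5

/-- the image of a code under a candidate -/
def autC (y v x : ℕ) : ℕ := evalG (genTo y v) (wordOf x)

/-- conjugation by the second representative -/
def conU (x : ℕ) : ℕ := mulc (mulc (rp 2) x) (rp 2)

/-- the relations of the generators -/
def relOK (y v : ℕ) : Bool := relAB.all fun w => eqv (evalG (genTo y v) w) onec

/-- the candidate is an involution on a generator -/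
def invOK (y v x : ℕ) : Bool := !(known (autC y v x)) || eqv (autC y v (autC y v x)) x

/-- one step of the braid -/
def stepC (y v x : ℕ) : ℕ := autC y v (conU x)

/-- the braid on a generator -/
def braidOK (y v x : ℕ) : Bool :=
  !(known (conU x) && known (conU (stepC y v x)) && known (conU (stepC y v (stepC y v x)))) ||
    eqv (stepC y v (stepC y v (stepC y v x))) x

/-- the surviving candidates -/
def survivors : List (ℕ × ℕ) :=
  ((((candA.flatMap fun y => candB.map fun v => (y, v)).filter fun p => relOK p.1 p.2).filter fun p =>
    invOK p.1 p.2 genA && invOK p.1 p.2 genB).filter fun p => braidOK p.1 p.2 genA && braidOK p.1 p.2 genB)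

theorem candA_ok : (xList.filter fun y => eqv (mulc y y) onec &&
    relA.all fun w => eqv (evalG [rp 1, tc, dCode, y] w) onec) = candA := by decide +kernel

theorem candB_ok : (xList.filter fun y => eqv (mulc y y) onec &&
    relB.all fun w => eqv (evalG [rp 1, tc, dCode, y] w) onec) = candB := by decide +kernel

theorem gens_ok : (eqv (mulc genA genA) onec && eqv (mulc genB genB) onec && xList.contains genA &&
    xList.contains genB && known genA && known genB &&
    (relA.all fun w => eqv (evalG [tc, rp 1, dCode, genA] w) onec && w.all fun j => Nat.blt j 4) &&
    (relB.all fun w => eqv (evalG [tc, rp 1, dCode, genB] w) onec && w.all fun j => Nat.blt j 4) &&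
    (relAB.all fun w => eqv (evalG genFrom w) onec && w.all fun j => Nat.blt j 5) &&
    (List.range 4).all fun i => known (letters.getD i onec)) = true := by decide +kernel

theorem survivors_ok : (survivors.all fun p => autTab.any fun t =>
    (List.range 4).all fun i => eqv (autC p.1 p.2 (letters.getD i onec)) (t.getD i 0)) = true := by decide +kernel

end Cfsg.Agent.Spor.TranCent
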