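import Cfsg.Agent.Lib.Spor.TranCent.Fusion
import Cfsg.Agent.Lib.Spor.TranCent.SearchCheck

/-!
The exchanging involution induces one of four automorphisms on the centraliser of the first four group.
-/

set_option autoImplicit false
set_option linter.style.haveILetI false
set_option maxRecDepth 100000

namespace Cfsg.Agent.Spor.TranCent

attribute [local irreducible] mulc dCode genA genB

variable {G : Type*} [Group G] {z : G}

theorem evalG_cons (gs : List ℕ) (j : ℕ) (w : List ℕ) :
    evalG gs (j :: w) = mulc (gs.getD j onec) (evalG gs w) := List.foldr_cons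

theorem evalG_nil (gs : List ℕ) : evalG gs [] = onec := List.foldr_nil

theorem getD_onec_mem {gs : List ℕ} (h : ∀ x ∈ gs, x ∈ els) (j : ℕ) : gs.getD j onec ∈ els := by
  by_cases hj : j < gs.length
  · rw [List.getD_eq_getElem _ _ hj]; exact h _ (List.getElem_mem hj)
  · rw [List.getD_eq_default _ _ (by omega)]; exact onec_mem

theorem evalG_mem {gs : List ℕ} (h : ∀ x ∈ gs, x ∈ els) (w : List ℕ) : evalG gs w ∈ els := by
  induction w with
  | nil => rw [evalG_nil]; exact onec_mem
  | cons j w ih => rw [evalG_cons]; exact mulc_mem (getD_onec_mem h j) ih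

theorem Fr.conj_evalG (F : Fr G z) {g : G} {gs hs : List ℕ} (hg : ∀ x ∈ gs, x ∈ els) (hh : ∀ x ∈ hs, x ∈ els)
    {w : List ℕ} (e : ∀ j ∈ w, MulAut.conj g (F.el (gs.getD j onec)) = F.el (hs.getD j onec)) :
    MulAut.conj g (F.el (evalG gs w)) = F.el (evalG hs w) := by
  induction w with
  | nil => rw [evalG_nil, evalG_nil, F.el_one, map_one]
  | cons j w ih =>
    rw [evalG_cons, evalG_cons, F.el_mul (getD_onec_mem hg j) (evalG_mem hg w),
      F.el_mul (getD_onec_mem hh j) (evalG_mem hh w), map_mul, e j List.mem_cons_self,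
      ih fun i hi => e i (List.mem_cons_of_mem _ hi)]

theorem conU_mem {x : ℕ} (hx : x ∈ els) : conU x ∈ els :=
  mulc_mem (mulc_mem (rp_spec (by norm_num)).1 hx) (rp_spec (by norm_num)).1

theorem mem_els_of_xList {a : ℕ} (h : a ∈ xList) : a ∈ els ∧ eqv (mulc (rp 1) a) (mulc a (rp 1)) = true := by
  rw [← x_all] at h
  exact List.mem_filter.1 h

/-- conjugation by the involution takes the first four letters to one of four recorded lists -/
theorem Side.exists_aut {F : Fr G z} (S : Side F) :
    ∃ t ∈ autTab, ∀ j < 4, S.g * F.lt j * S.g = F.el (t.getD j 0) := by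
  have hgens := gens_ok
  simp only [Bool.and_eq_true, List.all_eq_true, List.contains_iff_mem, eqv, List.mem_range] at hgens
  obtain ⟨⟨⟨⟨⟨⟨⟨⟨⟨a2, b2⟩, aX⟩, bX⟩, ka⟩, kb⟩, hA⟩, hB⟩, hAB⟩, hL⟩ := hgens
  have r1 : rp 1 ∈ els := (rp_spec (by norm_num)).1
  have gi : S.g⁻¹ = S.g := inv_eq_of_mul_eq_one_right S.sq
  have cg : ∀ x, MulAut.conj S.g x = S.g * x * S.g := fun x => by rw [MulAut.conj_apply, gi]
  have gz : MulAut.conj S.g z = F.rep 1 := (cg z).trans S.conj_z
  have gq : MulAut.conj S.g (F.rep 1) = z := by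
    calc _ = S.g * (S.g * z * S.g) * S.g := by rw [cg, S.conj_z]
      _ = S.g * S.g * z * (S.g * S.g) := by simp only [mul_assoc]
      _ = z := by rw [S.sq, one_mul, mul_one]
  have gd : MulAut.conj S.g (F.el dCode) = F.el dCode := by
    rw [MulAut.conj_apply, show S.g * F.el dCode = F.el dCode * S.g from S.comm_d.eq, mul_inv_cancel_right]
  -- the images of the two involutions
  have img : ∀ a ∈ xList, ∃ y ∈ xList, MulAut.conj S.g (F.el a) = F.el y ∧ (mulc a a = onec → mulc y y = onec) := by
    intro a ha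
    obtain ⟨ha', hc⟩ := mem_els_of_xList ha
    have hcq : Commute (F.el a) (F.rep 1) := (F.comm_iff r1 ha').2 (Nat.eq_of_beq_eq_true hc)
    have h1 := hcq.map (MulAut.conj S.g)
    rw [gq] at h1
    obtain ⟨y, hy, e⟩ := F.el_surj h1
    have h2 := (F.el_comm ha').map (MulAut.conj S.g)
    rw [gz, ← e] at h2
    refine ⟨y, ?_, e.symm, fun h => F.el_inj (mulc_mem hy hy) onec_mem ?_⟩
    · rw [← x_all, List.mem_filter]
      exact ⟨hy, by rw [(F.comm_iff r1 hy).1 h2]; exact Nat.beq_refl _⟩
    · rw [F.el_mul hy hy, e, ← map_mul, ← F.el_mul ha' ha', h, F.el_one, map_one]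
  obtain ⟨y, hyX, ey, y2⟩ := img genA aX
  obtain ⟨v, hvX, ev, v2⟩ := img genB bX
  have hy := (mem_els_of_xList hyX).1
  have hv := (mem_els_of_xList hvX).1
  have haE := (mem_els_of_xList aX).1
  have hbE := (mem_els_of_xList bX).1
  have mF : ∀ x ∈ genFrom, x ∈ els := by
    simp only [genFrom, List.mem_cons, List.not_mem_nil, or_false]
    rintro x (rfl | rfl | rfl | rfl | rfl)
    exacts [tc_mem, r1, dCode_mem, haE, hbE]
  have mT : ∀ x ∈ genTo y v, x ∈ els := by
    simp only [genTo, List.mem_cons, List.not_mem_nil, or_false]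
    rintro x (rfl | rfl | rfl | rfl | rfl)
    exacts [r1, tc_mem, dCode_mem, hy, hv]
  have hgen : ∀ j < 5, MulAut.conj S.g (F.el (genFrom.getD j onec)) = F.el ((genTo y v).getD j onec) := by
    intro j hj
    interval_cases j <;> simp only [genFrom, genTo, List.getD_cons_zero, List.getD_cons_succ]
    · rw [F.el_tc, gz, F.rep_eq]
    · rw [F.el_tc, ← F.rep_eq, gq]
    · exact gd
    · exact ey
    · exact ev
  have hmap : ∀ {w : List ℕ}, (∀ j ∈ w, j < 5) →
      MulAut.conj S.g (F.el (evalG genFrom w)) = F.el (evalG (genTo y v) w) :=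
    fun h => F.conj_evalG mF mT fun j hj => hgen j (h j hj)
  have hrel : ∀ {gs hs : List ℕ}, (∀ x ∈ gs, x ∈ els) → (∀ x ∈ hs, x ∈ els) → ∀ {w : List ℕ},
      (∀ j ∈ w, MulAut.conj S.g (F.el (gs.getD j onec)) = F.el (hs.getD j onec)) → evalG gs w = onec →
      eqv (evalG hs w) onec = true := by
    intro gs hs hg hh w e h
    have h2 := F.conj_evalG hg hh e
    rw [h, F.el_one, map_one, ← F.el_one] at h2
    rw [← F.el_inj onec_mem (evalG_mem hh w) h2]
    exact Nat.beq_refl _
  have hyA : y ∈ candA := by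
    rw [← candA_ok, List.mem_filter]
    refine ⟨hyX, ?_⟩
    simp only [Bool.and_eq_true, List.all_eq_true]
    refine ⟨by rw [y2 (Nat.eq_of_beq_eq_true a2)]; exact Nat.beq_refl _, fun w hw => ?_⟩
    refine hrel (gs := [tc, rp 1, dCode, genA]) ?_ ?_ (fun j hj => ?_) (Nat.eq_of_beq_eq_true (hA w hw).1)
    · simp only [List.mem_cons, List.not_mem_nil, or_false]
      rintro x (rfl | rfl | rfl | rfl)
      exacts [tc_mem, r1, dCode_mem, haE]
    · simp only [List.mem_cons, List.not_mem_nil, or_false]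
      rintro x (rfl | rfl | rfl | rfl)
      exacts [r1, tc_mem, dCode_mem, hy]
    · have hj4 : j < 4 := Nat.le_of_ble_eq_true ((hA w hw).2 j hj)
      interval_cases j <;> simp only [List.getD_cons_zero, List.getD_cons_succ]
      · rw [F.el_tc, gz, F.rep_eq]
      · rw [F.el_tc, ← F.rep_eq, gq]
      · exact gd
      · exact ey
  have hvB : v ∈ candB := by
    rw [← candB_ok, List.mem_filter]
    refine ⟨hvX, ?_⟩
    simp only [Bool.and_eq_true, List.all_eq_true]
    refine ⟨by rw [v2 (Nat.eq_of_beq_eq_true b2)]; exact Nat.beq_refl _, fun w hw => ?_⟩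
    refine hrel (gs := [tc, rp 1, dCode, genB]) ?_ ?_ (fun j hj => ?_) (Nat.eq_of_beq_eq_true (hB w hw).1)
    · simp only [List.mem_cons, List.not_mem_nil, or_false]
      rintro x (rfl | rfl | rfl | rfl)
      exacts [tc_mem, r1, dCode_mem, hbE]
    · simp only [List.mem_cons, List.not_mem_nil, or_false]
      rintro x (rfl | rfl | rfl | rfl)
      exacts [r1, tc_mem, dCode_mem, hv]
    · have hj4 : j < 4 := Nat.le_of_ble_eq_true ((hB w hw).2 j hj)
      interval_cases j <;> simp only [List.getD_cons_zero, List.getD_cons_succ]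
      · rw [F.el_tc, gz, F.rep_eq]
      · rw [F.el_tc, ← F.rep_eq, gq]
      · exact gd
      · exact ev
  have haut : ∀ {x : ℕ}, known x = true → MulAut.conj S.g (F.el x) = F.el (autC y v x) ∧ autC y v x ∈ els := by
    intro x hx
    simp only [known, Bool.and_eq_true, eqv, List.all_eq_true] at hx
    refine ⟨?_, evalG_mem mT _⟩
    conv_lhs => rw [← Nat.eq_of_beq_eq_true hx.1]
    exact hmap fun j hj => Nat.le_of_ble_eq_true (hx.2 j hj)
  have hrelOK : relOK y v = true := by
    simp only [relOK, List.all_eq_true]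
    intro w hw
    exact hrel mF mT (fun j hj => hgen j (Nat.le_of_ble_eq_true ((hAB w hw).2 j hj)))
      (Nat.eq_of_beq_eq_true (hAB w hw).1)
  have hinv : ∀ x ∈ els, known x = true → invOK y v x = true := by
    intro x hx kx
    simp only [invOK, Bool.or_eq_true, Bool.not_eq_true']
    cases kk : known (autC y v x) with
    | false => exact Or.inl rfl
    | true =>
      refine Or.inr ?_
      have e := (haut kk).1
      rw [← (haut kx).1, ← MulAut.mul_apply, ← map_mul, S.sq, map_one, MulAut.one_apply] at e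
      rw [← F.el_inj hx (haut kk).2 e]
      exact Nat.beq_refl _
  have hbraid : ∀ x ∈ els, braidOK y v x = true := by
    intro x hx
    simp only [braidOK, Bool.or_eq_true, Bool.not_eq_true']
    cases kk : known (conU x) && known (conU (stepC y v x)) && known (conU (stepC y v (stepC y v x))) with
    | false => exact Or.inl rfl
    | true =>
      refine Or.inr ?_
      simp only [Bool.and_eq_true] at kk
      have r2 : rp 2 ∈ els := (rp_spec (by norm_num)).1
      have ui : (F.rep 2)⁻¹ = F.rep 2 := inv_eq_of_mul_eq_one_right (F.rep_sq (by norm_num))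
      have step : ∀ {a : ℕ}, a ∈ els → known (conU a) = true →
          MulAut.conj (S.g * F.rep 2) (F.el a) = F.el (stepC y v a) ∧ stepC y v a ∈ els := by
        intro a ha hk
        refine ⟨?_, (haut hk).2⟩
        have e : MulAut.conj (F.rep 2) (F.el a) = F.el (conU a) := by
          rw [conU, F.el_mul (mulc_mem r2 ha) r2, F.el_mul r2 ha, MulAut.conj_apply, ui, F.rep_eq]
        rw [map_mul, MulAut.mul_apply, e, (haut hk).1]
        rfl
      obtain ⟨e1, m1⟩ := step hx kk.1.1
      obtain ⟨e2, m2⟩ := step m1 kk.1.2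
      obtain ⟨e3, m3⟩ := step m2 kk.2
      rw [← e2, ← e1, ← MulAut.mul_apply, ← map_mul, ← MulAut.mul_apply, ← map_mul, S.braid, map_one,
        MulAut.one_apply] at e3
      rw [← F.el_inj hx m3 e3]
      exact Nat.beq_refl _
  have hs : (y, v) ∈ survivors := by
    simp only [survivors, List.mem_filter, List.mem_flatMap, List.mem_map, Bool.and_eq_true]
    exact ⟨⟨⟨⟨y, hyA, v, hvB, rfl⟩, hrelOK⟩, hinv _ haE ka, hinv _ hbE kb⟩, hbraid _ haE, hbraid _ hbE⟩
  obtain ⟨t, ht, he⟩ := List.any_eq_true.1 (List.all_eq_true.mp survivors_ok _ hs)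
  refine ⟨t, ht, fun j hj => ?_⟩
  have h := List.all_eq_true.mp he j (List.mem_range.2 hj)
  rw [← cg]
  show MulAut.conj S.g (F.el (letters.getD j onec)) = _
  rw [(haut (hL j hj)).1, Nat.eq_of_beq_eq_true h]

end Cfsg.Agent.Spor.TranCent
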