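import Cfsg.Agent.Lib.Spor.TranCent.TargetHeCheck
import Cfsg.Agent.Lib.Spor.TranCent.SevenWords

/-!
The relators around the element of order seven checked in the tables of the Held group.
-/

set_option autoImplicit false
set_option maxRecDepth 100000

namespace Cfsg.Agent.Spor.TranCent

open Cfsg.Agent.Spor.CC Cfsg.Agent.Spor.HeCert

theorem he_seven_letters : lettersOK 6 (sevenX :: sevenRel) = true ∧ ev heT 6 sevenX 0 = 36 := by decide +kernel

theorem he_seven_rel : rangeOK (fun u => sevenRel.all fun r => Nat.beq (ev heT 6 r u) u) 0 2058 = true := by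
  decide +kernel

end Cfsg.Agent.Spor.TranCent
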