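import Cfsg.Agent.Lib.Spor.HeMain
import Cfsg.Agent.Lib.Spor.TranCent.RelWords
import Cfsg.Agent.Lib.Spor.TranCent.TargetSevenCheck

/-!
Six involutions generating the Held group and satisfying its relators.
-/

set_option autoImplicit false
set_option maxRecDepth 100000

namespace Cfsg.Agent.Spor.TranCent

open Cfsg.Agent.Spor.CC Cfsg.Agent.Spor.HeCert

/-- six involutions with the relators of the Held group generate it -/
theorem he_target_pres : ∃ f : ℕ → pres.Grp, (∀ x, f x * f x = 1) ∧ (∀ x, 6 ≤ x → f x = 1) ∧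
    (∀ r ∈ heRel ++ heFusion ++ sevenRel, (r.map f).prod = 1) ∧ (sevenX.map f).prod ≠ 1 ∧
    Subgroup.closure (f '' {x | x < 6}) = ⊤ := by
  obtain ⟨hl1, hl2, hl3, hn1, hn2, hsq⟩ := he_letters
  let f : ℕ → pres.Grp := fun x => if x < 6 then ((heW.getD x []).map pres.gen).prod else 1
  have hgetD : ∀ (L : List (List ℕ)) (x : ℕ), x < L.length → L.getD x [] ∈ L := fun L x hx => by
    rw [List.getD_eq_getElem?_getD, List.getElem?_eq_getElem hx]
    exact List.getElem_mem hx
  have hf : ∀ x, x < 6 → ∀ u : Fin rep.P.n, (rep.hom (f x) u : ℕ) = heT x u := fun x hx u => by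
    have h := List.all_eq_true.mp (all_range (p := fun u => (List.range 6).all fun x =>
      Nat.beq (ev RepS44.rows 7 (heW.getD x []) u) (heT x u)) he_pack (Nat.zero_le _)
      (lt_of_lt_of_eq u.2 (Nat.zero_add _).symm)) x (List.mem_range.2 hx)
    simp only [f, if_pos hx]
    rw [ev_eq rep.valid pres.gen rep.hom rep.hom_gen
      (fun _ hy => lettersOK_spec hl1 (hgetD heW x (hn1.symm ▸ hx)) hy) u]
    exact Nat.eq_of_beq_eq_true h
  have hev : ∀ r : List ℕ, (∀ x ∈ r, x < 6) → ∀ u : Fin rep.P.n, (rep.hom (r.map f).prod u : ℕ) = ev heT 6 r u := by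
    intro r
    induction r with
    | nil => intro _ u; rw [List.map_nil, List.prod_nil, map_one]; rfl
    | cons x r ih =>
      intro hr u
      rw [List.map_cons, List.prod_cons, map_mul, Equiv.Perm.mul_apply, hf x (hr x (by simp)),
        ih (fun y hy => hr y (by simp [hy])) u]
      rfl
  have hrel : ∀ r ∈ heRel ++ heFusion, (r.map f).prod = 1 := fun r hr => by
    refine order.2.2 (Equiv.ext fun u => Fin.ext ?_)
    rw [hev r (fun x hx => lettersOK_spec hl2 hr hx), map_one, Equiv.Perm.one_apply]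
    exact Nat.eq_of_beq_eq_true (List.all_eq_true.mp (all_range (p := fun u => (heRel ++ heFusion).all fun r =>
      Nat.beq (ev heT 6 r u) u) he_rel (Nat.zero_le _) (lt_of_lt_of_eq u.2 (Nat.zero_add _).symm)) r hr)
  have hrel7 : ∀ r ∈ sevenRel, (r.map f).prod = 1 := fun r hr => by
    refine order.2.2 (Equiv.ext fun u => Fin.ext ?_)
    rw [hev r (fun x hx => lettersOK_spec he_seven_letters.1 (List.mem_cons_of_mem _ hr) hx), map_one,
      Equiv.Perm.one_apply]
    exact Nat.eq_of_beq_eq_true (List.all_eq_true.mp (all_range (p := fun u => sevenRel.all fun r =>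
      Nat.beq (ev heT 6 r u) u) he_seven_rel (Nat.zero_le _) (lt_of_lt_of_eq u.2 (Nat.zero_add _).symm)) r hr)
  refine ⟨f, fun x => ?_, fun x hx => if_neg (by omega), fun r hr => (List.mem_append.1 hr).elim (hrel r) (hrel7 r),
    fun hX => ?_, eq_top_iff.2 ?_⟩
  · by_cases hx : x < 6
    · have hm : [x, x] ∈ heRel ++ heFusion := List.contains_iff_mem.1 (List.all_eq_true.mp hsq x (List.mem_range.2 hx))
      simpa using hrel _ hm
    · simp [f, hx]
  · have h0 : 0 < rep.P.n := by decide +kernel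
    have h := hev sevenX (fun x hx => lettersOK_spec he_seven_letters.1 List.mem_cons_self hx) ⟨0, h0⟩
    rw [hX, map_one, Equiv.Perm.one_apply] at h
    have h' := h.trans he_seven_letters.2
    simp at h'
  · rw [← Pres.closure_gen pres_ok]
    refine (Subgroup.closure_le _).2 ?_
    rintro _ ⟨i, hi, rfl⟩
    have hi7 : i < 7 := hi
    have e : pres.gen i = ((heBack.getD i []).map f).prod := by
      refine order.2.2 (Equiv.ext fun u => Fin.ext ?_)
      rw [hev _ (fun x hx => lettersOK_spec hl3 (hgetD heBack i (hn2.symm ▸ hi7)) hx), rep.hom_gen i hi7,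
        rep.P.perm_val rep.valid hi7]
      exact (Nat.eq_of_beq_eq_true (List.all_eq_true.mp (all_range (p := fun u => (List.range 7).all fun i =>
        Nat.beq (ev heT 6 (heBack.getD i []) u) (RepS44.rows i u)) he_back (Nat.zero_le _)
        (lt_of_lt_of_eq u.2 (Nat.zero_add _).symm)) i (List.mem_range.2 hi7))).symm
    show pres.gen i ∈ Subgroup.closure (f '' {x | x < 6})
    rw [e]
    refine Subgroup.list_prod_mem _ fun y hy => ?_
    obtain ⟨x, hx, rfl⟩ := List.mem_map.1 hy
    exact Subgroup.subset_closure ⟨x, lettersOK_spec hl3 (hgetD heBack i (hn2.symm ▸ hi7)) hx, rfl⟩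

/-- the same in the Held group -/
theorem he_target_seven : ∃ f : ℕ → Cfsg.Spor.He, (∀ x, f x * f x = 1) ∧ (∀ x, 6 ≤ x → f x = 1) ∧
    (∀ r ∈ heRel ++ heFusion ++ sevenRel, (r.map f).prod = 1) ∧ (sevenX.map f).prod ≠ 1 ∧
    Subgroup.closure (f '' {x | x < 6}) = ⊤ :=
  he_target_pres

/-- the same without the relators around the element of order seven -/
theorem he_target : ∃ f : ℕ → Cfsg.Spor.He, (∀ x, f x * f x = 1) ∧ (∀ x, 6 ≤ x → f x = 1) ∧
    (∀ r ∈ heRel ++ heFusion, (r.map f).prod = 1) ∧ Subgroup.closure (f '' {x | x < 6}) = ⊤ := by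
  obtain ⟨f, h1, h2, h3, -, h5⟩ := he_target_seven
  exact ⟨f, h1, h2, fun r hr => h3 r (List.mem_append_left _ hr), h5⟩

end Cfsg.Agent.Spor.TranCent
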