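import Cfsg.Agent.Lib.Spor.MathieuMultTwentyFour
import Cfsg.Agent.Lib.Spor.TranCent.RelWords

/-!
Six involutions generating the Mathieu group of degree twenty-four and satisfying the relators of the
corresponding twisted case.
-/

set_option autoImplicit false
set_option maxRecDepth 100000

namespace Cfsg.Agent.Spor.TranCent

open Cfsg Cfsg.Agent.Local.FS.Mathieu Cfsg.Agent.Spor.WordChain

/-- images under the six involutions -/
def matL : List (List ℕ) := [
  [6,1,2,10,20,12,0,19,8,18,3,16,5,13,14,15,11,22,9,7,4,21,17,23],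
  [0,1,2,3,9,18,7,6,8,4,11,10,22,14,13,15,16,20,5,19,17,23,12,21],
  [1,0,19,14,20,12,23,21,11,22,15,8,5,16,3,10,13,18,17,2,4,7,9,6],
  [23,2,1,3,4,5,7,6,11,20,15,8,18,13,14,10,16,17,12,21,9,19,22,0],
  [6,21,2,5,16,3,0,7,8,9,12,20,10,14,13,15,4,22,18,19,11,1,17,23],
  [8,3,16,1,4,5,13,14,0,9,23,21,12,6,7,19,2,17,18,15,20,11,22,10]]

/-- the two generators as words in the six involutions -/
def matBack : List (List ℕ) := [
  [0,4,1,2,5,4,5,3,1,4,5,2,1,4],
  [1,2,3,4,3,5,4,2,5,3,4,2,3,5,4,3,0,2]]

/-- the product of image lists along a word -/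
def matProd : List ℕ → List ℕ
  | [] => List.range 24
  | x :: w => Cfsg.Agent.Spor.WordChain.lmul (matL.getD x []) (matProd w)

/-- the six involutions as permutations of the points -/
def matP : Fin 6 → Equiv.Perm GolayPt :=
  ![mkPerm (matL.getD 0 []) (matL.getD 0 []) (by decide +kernel) (by decide +kernel),
    mkPerm (matL.getD 1 []) (matL.getD 1 []) (by decide +kernel) (by decide +kernel),
    mkPerm (matL.getD 2 []) (matL.getD 2 []) (by decide +kernel) (by decide +kernel),
    mkPerm (matL.getD 3 []) (matL.getD 3 []) (by decide +kernel) (by decide +kernel),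
    mkPerm (matL.getD 4 []) (matL.getD 4 []) (by decide +kernel) (by decide +kernel),
    mkPerm (matL.getD 5 []) (matL.getD 5 []) (by decide +kernel) (by decide +kernel)]

theorem matP_facts : ∀ i : Fin 6, lst (matP i) = matL.getD i.val [] ∧ Cfsg.Agent.Local.FS.Mathieu.inCode (Cfsg.Agent.Local.FS.Mathieu.lst (matP i)) = true ∧
    matP i * matP i = 1 := by decide +kernel

theorem mat_rel : (mathieuRel ++ mathieuFusion).all (fun r => r.all (fun x => Nat.blt x 6) &&
    (matProd r == List.range 24)) = true := by decide +kernel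

theorem mat_back : matBack.all (fun r => r.all fun x => Nat.blt x 6) = true ∧
    matProd (matBack.getD 0 []) = MathieuMult.TwentyFour.genA ∧
    matProd (matBack.getD 1 []) = MathieuMult.TwentyFour.genB := by decide +kernel

/-- six involutions with the relators of the Mathieu group generate it -/
theorem mathieu_target : ∃ f : ℕ → Cfsg.M24, (∀ x, f x * f x = 1) ∧ (∀ x, 6 ≤ x → f x = 1) ∧
    (∀ r ∈ mathieuRel ++ mathieuFusion, (r.map f).prod = 1) ∧ Subgroup.closure (f '' {x | x < 6}) = ⊤ := by
  let f : ℕ → Cfsg.M24 := fun x => if h : x < 6 then ⟨matP ⟨x, h⟩, m24_mem_of_lst (matP_facts ⟨x, h⟩).2.1⟩ else 1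
  have hev : ∀ r : List ℕ, (∀ x ∈ r, x < 6) → lst ((r.map f).prod : Cfsg.M24).1 = matProd r := by
    intro r
    induction r with
    | nil => intro _; exact lst_one
    | cons x r ih =>
      intro hr
      rw [List.map_cons, List.prod_cons, Subgroup.coe_mul, lst_lmul, ih fun y hy => hr y (by simp [hy]), matProd]
      congr 1
      simp only [f, dif_pos (hr x (by simp))]
      exact (matP_facts ⟨x, hr x (by simp)⟩).1
  refine ⟨f, fun x => ?_, fun x hx => dif_neg (by omega), fun r hr => ?_, eq_top_iff.2 ?_⟩
  · by_cases hx : x < 6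
    · simp only [f, dif_pos hx]
      exact Subtype.ext (matP_facts ⟨x, hx⟩).2.2
    · simp [f, hx]
  · have h := List.all_eq_true.mp mat_rel r hr
    rw [Bool.and_eq_true, beq_iff_eq] at h
    refine Subtype.ext (lst_injective ?_)
    rw [hev r fun x hx => by simpa using List.all_eq_true.mp h.1 x hx, h.2]
    exact lst_one.symm
  · obtain ⟨hlt, hA, hB⟩ := mat_back
    have hmem : ∀ k < 2, ∀ g : Cfsg.M24, lst g.1 = matProd (matBack.getD k []) →
        g ∈ Subgroup.closure (f '' {x | x < 6}) := by
      intro k hk g hg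
      have hm : matBack.getD k [] ∈ matBack := by
        rcases (show k = 0 ∨ k = 1 by omega) with rfl | rfl <;> decide
      have hw : ∀ x ∈ matBack.getD k [], x < 6 := fun x hx => by
        simpa using List.all_eq_true.mp (List.all_eq_true.mp hlt _ hm) x hx
      rw [show g = ((matBack.getD k []).map f).prod from Subtype.ext (lst_injective (hg.trans (hev _ hw).symm))]
      refine Subgroup.list_prod_mem _ fun y hy => ?_
      obtain ⟨x, hx, rfl⟩ := List.mem_map.1 hy
      exact Subgroup.subset_closure ⟨x, hw x hx, rfl⟩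
    rw [← MathieuMult.TwentyFour.gen_top, Subgroup.closure_le]
    rintro g (rfl | rfl)
    · exact hmem 0 (by omega) _ (MathieuMult.TwentyFour.lst_gens.1.trans hA.symm)
    · exact hmem 1 (by omega) _ (MathieuMult.TwentyFour.lst_gens.2.trans hB.symm)

end Cfsg.Agent.Spor.TranCent
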