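import Cfsg.Agent.Lib.Spor.TranCent.Cases
import Cfsg.Agent.Lib.Spor.TranCent.TargetHe
import Cfsg.Agent.Lib.Spor.TranCent.TargetMathieu
import Cfsg.Agent.Lib.Spor.TranCent.Search
import Cfsg.Agent.Lib.Spor.GolayChain
import Cfsg.Agent.S0365

/-!
Groups with the centraliser of a transvection of the special linear group of dimension five.
-/

set_option autoImplicit false
set_option linter.style.haveILetI false
set_option maxRecDepth 100000

namespace Cfsg.Agent.Spor.TranCent

local notation "SL5" => Matrix.SpecialLinearGroup (Fin 5) (ZMod 2)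

variable {G : Type*} [Group G] [Finite G] {z : G}

theorem gen_six {T : Type*} [Group T] {f : ℕ → T} (h : Subgroup.closure (f '' {x | x < 6}) = ⊤) :
    wordsSub f [0, 1, 2, 3, 4, 5] = ⊤ := by
  rw [← h, wordsSub]
  congr 2
  ext j
  simp only [List.mem_cons, List.not_mem_nil, or_false]
  constructor
  · intro hj
    show j < 6
    rcases hj with rfl | rfl | rfl | rfl | rfl | rfl <;> norm_num
  · exact fun hj => mem_six hj |> fun h => by simpa using h

/-- the twisted side gives the Held group or the Mathieu group -/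
theorem Side.twist_result {F : Fr G z} (S : Side F)
    (h : ∀ j < 4, S.g * F.lt j * S.g = F.el ((autImg 0).getD j 0)) :
    Nonempty (G ≃* Cfsg.M24) ∨ Cfsg.Spor.IsoHe G := by
  rcases S.twist_cases h with hR | hR
  · obtain ⟨f, hsq, h6, hRf, hx, hgen⟩ := he_target_seven
    haveI : IsSimpleGroup Cfsg.Spor.He := HeCert.isHe.1
    have hcard : Nat.card Cfsg.Spor.He = 4030387200 := HeCert.isHe.2
    haveI : Finite Cfsg.Spor.He := Nat.finite_of_card_ne_zero (by rw [hcard]; norm_num)
    exact Or.inr (S.twist_he h hR hcard.symm.le hsq h6 hRf (gen_six hgen) hx)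
  · obtain ⟨f, hsq, h6, hRf, hgen⟩ := mathieu_target
    haveI : IsSimpleGroup Cfsg.M24 := Cfsg.Agent.S0365.result
    exact Or.inl (S.twist_mathieu h hR Cfsg.Agent.Spor.card_M24.symm.le hsq h6 hRf (gen_six hgen))

theorem aut_index : ∀ t ∈ autTab, ∃ i < 4, t = autImg i := by decide +kernel

/-- an exchanging involution with one of the two automorphisms that occur -/
theorem Fr.exists_side_aut (F : Fr G z) (hc : IsConj (F.rep 1) z) :
    ∃ S : Side F, ∃ i < 2, ∀ j < 4, S.g * F.lt j * S.g = F.el ((autImg i).getD j 0) := by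
  obtain ⟨S⟩ := F.exists_side hc
  obtain ⟨t, ht, he⟩ := S.exists_aut
  obtain ⟨i, hi, rfl⟩ := aut_index t ht
  refine ⟨S, i, ?_, he⟩
  by_contra h2
  obtain ⟨n, hn, rfl⟩ : ∃ n < 2, i = n + 2 := ⟨i - 2, by omega, by omega⟩
  exact S.not_odd hn he

theorem Fr.classify_one (F : Fr G z) (hc : IsConj (F.rep 1) z) :
    (∃ v : Fin 5 → ZMod 2, v ≠ 0 ∧ Nonempty (G ≃* MulAction.stabilizer SL5 v)) ∨ Nonempty (G ≃* SL5) ∨
      Nonempty (G ≃* Cfsg.M24) ∨ Cfsg.Spor.IsoHe G := by
  obtain ⟨S, i, hi, h⟩ := F.exists_side_aut hc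
  rcases (show i = 0 ∨ i = 1 by omega) with rfl | rfl
  · exact Or.inr (Or.inr (S.twist_result h))
  by_cases h2 : IsConj (F.rep 2) z
  · obtain ⟨S', i', hi', h'⟩ := F.twist.exists_side_aut (by rw [F.twist_rep_one]; exact h2)
    rcases (show i' = 0 ∨ i' = 1 by omega) with rfl | rfl
    · exact Or.inr (Or.inr (S'.twist_result h'))
    · exact Or.inr (Or.inl (S.double_iso S' h h'))
  · exact Or.inl (S.affine_iso h h2)

/-- the four possible groups -/
theorem Fr.classify (F : Fr G z) (h : IsConj (F.rep 1) z ∨ IsConj (F.rep 2) z) :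
    (∃ v : Fin 5 → ZMod 2, v ≠ 0 ∧ Nonempty (G ≃* MulAction.stabilizer SL5 v)) ∨ Nonempty (G ≃* SL5) ∨
      Nonempty (G ≃* Cfsg.M24) ∨ Cfsg.Spor.IsoHe G := by
  rcases h with h | h
  · exact F.classify_one h
  · exact F.twist.classify_one (by rw [F.twist_rep_one]; exact h)

end Cfsg.Agent.Spor.TranCent
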