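import Cfsg.Agent.Lib.Spor.TranCent.Code

/-!
Data refuting the two remaining automorphisms: a word fixing the transvection, and the images of the plane.
-/

set_option autoImplicit false
set_option maxRecDepth 100000

namespace Cfsg.Agent.Spor.TranCent

/-- the words -/
def oddW : List (List ℕ) := [[5, 4, 2, 5, 4, 5], [5, 4, 1, 5, 4, 2, 5, 4, 1, 5, 4, 5]]

/-- the images of the plane generators -/
def oddImg : List (List ℕ) := [[19208257, 31596611, 17111105, 16984129, 17043523, 17111117], [19013699, 29499469, 17111119, 16916545, 17043523, 17043533]]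

/-- words in the first four letters -/
def oddTab : List (ℕ × List ℕ) := [
  (19140673, [0, 3, 0, 2, 3, 2, 0, 1, 3]), (29626433, [2, 0, 2, 3, 1, 3]), (17111105, [3, 0, 2, 3, 2, 3, 0, 1, 3]), (19208257, [0, 3, 0, 3, 0, 3]), (29694017, [3, 2, 3, 0, 3, 2, 3]), (16916545, [3, 1, 2, 0, 3, 0, 2, 3]), (29499457, [0, 3, 0, 2, 3, 2, 0, 3]), (31596609, [3, 1, 3]), (16984129, [0, 1, 0, 2, 0, 1, 2]), (19081281, [3, 1, 2, 3, 0, 3, 2, 3]), (29567041, [2, 0, 1, 0, 1, 2]), (31664193, [3, 0, 2, 3, 2, 3, 0, 3]), (17043523, [1, 2, 1, 2]), (29626435, [0, 1, 0, 1, 2, 0, 2]), (17111107, [0, 1, 3, 0, 2, 3, 2, 0, 3, 1]), (19208259, [1, 3, 2, 3, 1, 3, 2, 3]), (31791171, [1, 2, 0, 1, 2]), (19013699, [1, 2, 1, 0, 2]), (29499459, [0, 3, 0, 1, 2, 1, 3, 2, 0, 3]), (19081283, [3, 2, 1, 3, 0, 3, 2, 3]), (17043533, [2, 3, 1, 0, 2, 0, 2, 1, 3]), (29626445, [1, 3, 0, 2, 3, 2, 0, 3, 1]), (29694029, [0, 1, 2,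 1, 2]), (16916557, [0, 2, 3, 1, 3, 2]), (29499469, [1, 0, 2, 0, 2, 1]), (29567053, [2, 3, 0, 2, 0, 1, 2, 3]), (17043535, [0, 3, 2, 3, 0, 3, 2, 3]), (19140687, [0, 1, 2, 0, 2, 1]), (31723599, [3, 0, 3, 0, 3]), (17111119, [1, 0, 2, 1, 0, 2]), (31596623, [2, 3, 2, 1, 0, 2, 0, 3]), (16984143, [3, 0, 2, 3, 2, 0, 3]), (31664207, [0, 2, 0, 2])]

end Cfsg.Agent.Spor.TranCent
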