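import Cfsg.Agent.Lib.Spor.TranCent.RelCheck
import Cfsg.Agent.Lib.Spor.TranCent.OddData

/-!
Two of the four automorphisms do not extend: a word fixing the transvection acts on the plane unlike
every element of the centraliser.
-/

set_option autoImplicit false
set_option maxRecDepth 100000

namespace Cfsg.Agent.Spor.TranCent

/-- the move of the automorphism numbered `n + 2` -/
def moveOdd (n : ℕ) : Move := (letters, autImg (Nat.add n 2), oddTab)

theorem odd_trace : ((List.range 2).all fun n =>
    isCode (trace [moveOdd n] (oddW.getD n []) tc) tc && (oddW.getD n []).all (fun j => Nat.blt j 6) &&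
      (List.range 6).all fun k =>
        isCode (trace [moveOdd n] (oddW.getD n []) (planeGen.getD k 0)) ((oddImg.getD n []).getD k 0)) = true := by
  decide +kernel

theorem odd_none : (els.all fun c => (List.range 2).all fun n => !((List.range 6).all fun k =>
    eqv (mulc c (planeGen.getD k 0)) (mulc ((oddImg.getD n []).getD k 0) c))) = true := by
  decide +kernel

end Cfsg.Agent.Spor.TranCent
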