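import Cfsg.Agent.Lib.Spor.TranCent.FusionCheck

/-!
The centralisers of four representatives in the centraliser of the transvection are two-groups.
-/

set_option autoImplicit false
set_option maxRecDepth 100000

namespace Cfsg.Agent.Spor.TranCent

/-- the fourth power -/
def four (x : ℕ) : ℕ := mulc (mulc x x) (mulc x x)

theorem two_cent : (els.all fun x => [3, 5, 6, 7].all fun i =>
    !(eqv (img x (row (rp i) 0)) (img (rp i) (row x 0))) || !(eqv (img x (row (rp i) 2)) (img (rp i) (row x 2))) ||
      !(eqv (mulc (rp i) x) (mulc x (rp i))) || eqv (four (four x)) onec) = true := by decide +kernel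

end Cfsg.Agent.Spor.TranCent
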