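import Cfsg.Agent.Lib.Spor.TranCent.Base
import Cfsg.Agent.Lib.Spor.TranCent.RepThreeCheck
import Cfsg.Agent.Lib.Spor.TranCent.TwoCentCheck

/-!
The centraliser of the third representative lies in a controlling subgroup as soon as the centraliser of the
four group on it and the central involution does.
-/

set_option autoImplicit false
set_option linter.style.haveILetI false
set_option maxRecDepth 100000

namespace Cfsg.Agent.Spor.TranCent

attribute [local irreducible] mulc clsOf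

variable {G : Type*} [Group G] {z : G}

theorem eqv_iff {a b : ℕ} : eqv a b = true ↔ a = b := ⟨Nat.eq_of_beq_eq_true, fun h => h ▸ Nat.beq_refl a⟩

theorem inL_iff {l : List ℕ} {x : ℕ} : inL l x = true ↔ x ∈ l := by
  simp only [inL, List.any_eq_true, eqv_iff, exists_eq_right]

theorem fz_iff_mem {fs : List ℕ} {x : ℕ} : fz fs x = true ↔ clsOf x ∈ fs := by
  simp only [fz, List.any_eq_true, eqv_iff, exists_eq_right]

theorem clsOf_hit (F : Fr G z) {x : ℕ} (hx : x ∈ els) (h : clsOf x ≠ 8) :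
    clsOf x < 8 ∧ IsConj (F.rep (clsOf x)) (F.el x) := by
  unfold clsOf at h ⊢
  cases hf : hitTab.find? fun p => eqv p.1 x with
  | none => rw [hf] at h; exact absurd rfl h
  | some p =>
    rw [Option.map_some, Option.getD_some]
    obtain rfl : p.1 = x := eqv_iff.1 (List.find?_some hf :)
    have ht := classes_tab
    simp only [Bool.and_eq_true] at ht
    have hok := List.all_eq_true.mp ht.1.1 p (List.mem_of_find?_eq_some hf)
    simp only [hitOK, Bool.and_eq_true] at hok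
    obtain ⟨⟨hj, hi⟩, hm⟩ := hok
    have hj' := Nat.le_of_ble_eq_true hj
    have hi' := Nat.le_of_ble_eq_true hi
    have m1 : evalw (conjWords.getD p.2.1 []) ∈ els := evalw_mem fun j hjm => by
      rw [List.getD_eq_getElem _ _ hj'] at hjm
      exact Nat.le_of_ble_eq_true (List.all_eq_true.mp (List.all_eq_true.mp ht.1.2 _ (List.getElem_mem _)) j hjm)
    refine ⟨hi', isConj_iff.2 ⟨F.el (evalw (conjWords.getD p.2.1 [])), ?_⟩⟩
    have e := congrArg F.el (eqv_iff.1 hm)
    rw [F.el_mul hx m1, F.el_mul m1 (reps_spec hi').1] at e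
    rw [Fr.rep, ← e, mul_inv_cancel_right]

theorem Fr.isConj_z_sq (F : Fr G z) {g : G} (h : IsConj g z) : g * g = 1 ∧ g ≠ 1 := by
  obtain ⟨c, rfl⟩ := isConj_iff.1 h.symm
  refine ⟨by rw [← MulAut.conj_apply, ← map_mul, F.z_sq, map_one], fun e => F.z_ne_one ?_⟩
  simpa using e

variable {F : Fr G z} {fs : List ℕ}

theorem Ctrl.fz_iff (D : Ctrl F fs) (hfs : ∀ i ∈ fs, i < 8) {x : ℕ} (hx : x ∈ els) :
    fz fs x = true ↔ IsConj (F.el x) z := by
  rw [fz_iff_mem]
  constructor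
  · intro h
    obtain ⟨hlt, hc⟩ := clsOf_hit F hx (by have := hfs _ h; omega)
    obtain ⟨k, -, hk⟩ := D.fused _ hlt h
    exact hc.symm.trans (isConj_iff.2 ⟨k, hk⟩)
  · intro h
    obtain ⟨h2, h1⟩ := F.isConj_z_sq h
    have e1 : mulc x x = onec := F.el_inj (mulc_mem hx hx) onec_mem (by rw [F.el_mul hx hx, h2, F.el_one])
    have h8 : clsOf x ≠ 8 := by
      have hl := List.all_eq_true.mp classes_all x hx
      simp only [Bool.or_eq_true, Bool.not_eq_true', listed, List.any_eq_true] at hl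
      rcases hl with (h' | h') | ⟨p, hp, he⟩
      · rw [eqv_iff.2 e1] at h'; exact Bool.noConfusion h'
      · exact absurd (by rw [eqv_iff.1 h']; exact F.el_one) h1
      · unfold clsOf
        cases hf : hitTab.find? fun p => eqv p.1 x with
        | none => exact absurd he (by simpa using List.find?_eq_none.1 hf p hp)
        | some q =>
          rw [Option.map_some, Option.getD_some]
          have ht := classes_tab
          simp only [Bool.and_eq_true] at ht
          have hok := List.all_eq_true.mp ht.1.1 q (List.mem_of_find?_eq_some hf)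
          simp only [hitOK, Bool.and_eq_true] at hok
          exact Nat.ne_of_lt (Nat.le_of_ble_eq_true hok.1.2)
    obtain ⟨hlt, hc⟩ := clsOf_hit F hx h8
    by_contra hn
    exact D.not_fused _ hlt hn (hc.trans h)

/-- moving a fused element of the subgroup into the subgroup keeps one inside -/
theorem Ctrl.of_conj [Finite G] (D : Ctrl F fs) {x g : G} (hx : x ∈ D.H) (hc : IsConj x z)
    (hg : g * x * g⁻¹ ∈ D.H) : g ∈ D.H := by
  obtain ⟨a, rfl⟩ := isConj_iff.1 hc.symm
  have h1 : g * a ∈ D.H := D.fix_unique (by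
    rwa [show g * a * z * (g * a)⁻¹ = g * (a * z * a⁻¹) * g⁻¹ by group])
  have := mul_mem h1 (inv_mem (D.fix_unique hx))
  rwa [mul_inv_cancel_right] at this

/-- a dihedral alternative modulo a group of central involutions -/
theorem dihedral_mod [Finite G] (V : Subgroup G) {a b : G} (a2 : a * a = 1) (b2 : b * b = 1)
    (hV : ∀ v ∈ V, Commute v a ∧ Commute v b ∧ v * v = 1) :
    (∃ v ∈ V, ∃ g, (∀ u ∈ V, Commute u g) ∧ g * a * g⁻¹ = b * v) ∨
    ∃ c, c ∉ V ∧ c * c ∈ V ∧ (∀ u ∈ V, Commute u c) ∧ a * c * a⁻¹ = c⁻¹ ∧ b * c * b⁻¹ = c⁻¹ ∧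
      ∃ g, (∀ u ∈ V, Commute u g) ∧ (g * a * g⁻¹ = c * a ∨ g * a * g⁻¹ = c * b) := by
  classical
  have ai : a⁻¹ = a := inv_eq_of_mul_eq_one_right a2
  have bi : b⁻¹ = b := inv_eq_of_mul_eq_one_right b2
  set r := a * b with hr
  have hex : ∃ n, 0 < n ∧ r ^ n ∈ V := ⟨orderOf r, orderOf_pos r, by rw [pow_orderOf_eq_one]; exact one_mem V⟩
  set n := Nat.find hex
  obtain ⟨hn0, hnV⟩ := Nat.find_spec hex
  have hVr : ∀ u ∈ V, Commute u r := fun u hu => (hV u hu).1.mul_right (hV u hu).2.1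
  have ar : a * r * a⁻¹ = r⁻¹ := by rw [hr, mul_inv_rev, ai, bi, ← mul_assoc, a2, one_mul]
  have br : b * r * b⁻¹ = r⁻¹ := by rw [hr, mul_inv_rev, ai, bi, mul_assoc, mul_assoc, b2, mul_one]
  clear_value r
  have flip : ∀ (s : G) (j : ℕ), a * s * a⁻¹ = s⁻¹ → s ^ j * a * (s ^ j)⁻¹ = s ^ (2 * j) * a := by
    intro s j hs
    have h1 : a * (s ^ j)⁻¹ = s ^ j * a := by
      have e : a * (s ^ j)⁻¹ * a⁻¹ = s ^ j := by
        rw [← inv_pow, ← conj_pow, show a * s⁻¹ * a⁻¹ = (a * s * a⁻¹)⁻¹ by group, hs, inv_inv]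
      exact mul_inv_eq_iff_eq_mul.1 e
    rw [mul_assoc, h1, ← mul_assoc, ← pow_add, two_mul]
  rcases Nat.even_or_odd' n with ⟨l, hl | hl⟩
  · right
    have hl0 : 0 < l := by omega
    refine ⟨r ^ l, fun h => Nat.find_min hex (by omega : l < n) ⟨hl0, h⟩, ?_,
      fun u hu => (hVr u hu).pow_right l, by rw [← conj_pow, ar, inv_pow], by rw [← conj_pow, br, inv_pow], ?_⟩
    · rw [← pow_add, ← two_mul, ← hl]; exact hnV
    rcases Nat.even_or_odd' l with ⟨j, rfl | rfl⟩
    · exact ⟨r ^ j, fun u hu => (hVr u hu).pow_right j, Or.inl (flip r j ar)⟩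
    · refine ⟨r ^ j, fun u hu => (hVr u hu).pow_right j, Or.inr ?_⟩
      rw [flip r j ar, pow_succ, hr]
      simp only [mul_assoc, b2, mul_one]
  · left
    set v := r ^ n with hv
    refine ⟨v, hnV, (r * v) ^ l, fun u hu => ?_, ?_⟩
    · exact ((hVr u hu).mul_right ((hVr u hu).pow_right n)).pow_right l
    have hs : a * (r * v) * a⁻¹ = (r * v)⁻¹ := by
      have e : a * v * a⁻¹ = v := mul_inv_eq_iff_eq_mul.2 (hV v hnV).1.eq.symm
      rw [show a * (r * v) * a⁻¹ = a * r * a⁻¹ * (a * v * a⁻¹) by group, ar, e, mul_inv_rev,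
        inv_eq_of_mul_eq_one_right (hV v hnV).2.2]
      exact ((hVr v hnV).inv_right.eq).symm
    have hone : (r * v) ^ (2 * l + 1) = 1 := by
      have hvl : v ^ (2 * l + 1) = v := by rw [pow_succ, pow_mul, pow_two, (hV v hnV).2.2, one_pow, one_mul]
      rw [(hVr v hnV).symm.mul_pow, hvl, ← hl, ← hv, (hV v hnV).2.2]
    rw [flip _ l hs]
    have e : (r * v) ^ (2 * l) = (r * v)⁻¹ := eq_inv_of_mul_eq_one_left (by rw [← pow_succ, hone])
    rw [e, mul_inv_rev, inv_eq_of_mul_eq_one_right (hV v hnV).2.2, hr, mul_inv_rev, ai, bi]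
    simp only [mul_assoc, a2, mul_one]
    exact (hV v hnV).2.1.eq

/-- the elements with codes in a closed list -/
def Fr.listSub (F : Fr G z) (l : List ℕ) (hl : ∀ x ∈ l, x ∈ els) (h1 : onec ∈ l)
    (hm : ∀ x ∈ l, ∀ y ∈ l, mulc x y ∈ l) (hi : ∀ x ∈ l, ∃ y ∈ l, mulc x y = onec) : Subgroup G where
  carrier := {g | ∃ x ∈ l, F.el x = g}
  one_mem' := ⟨onec, h1, F.el_one⟩
  mul_mem' := by
    rintro _ _ ⟨x, hx, rfl⟩ ⟨y, hy, rfl⟩
    exact ⟨_, hm x hx y hy, F.el_mul (hl x hx) (hl y hy)⟩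
  inv_mem' := by
    rintro _ ⟨x, hx, rfl⟩
    obtain ⟨y, hy, e⟩ := hi x hx
    exact ⟨y, hy, eq_inv_of_mul_eq_one_right (by rw [← F.el_mul (hl x hx) (hl y hy), e, F.el_one])⟩

theorem mem_sList {x : ℕ} : x ∈ sList ↔ x ∈ els ∧ mulc mC x = mulc x mC := by
  rw [← sList_eq, List.mem_filter, eqv_iff]

theorem kCode_mem : kCode ∈ els ∧ mulc mC kCode = mulc kCode mC := by
  have h := three_facts
  simp only [Bool.and_eq_true, inL_iff] at h
  exact mem_sList.1 h.1.1.1.1.1.1.1.1.1.1.2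

theorem mC_mem : mC ∈ els := (rp_spec (by norm_num)).1

theorem vList_els : ∀ x ∈ vList, x ∈ els := by
  simp only [vList, List.mem_cons, List.not_mem_nil, or_false]
  rintro x (rfl | rfl | rfl | rfl)
  exacts [onec_mem, mC_mem, kCode_mem.1, mulc_mem kCode_mem.1 mC_mem]

theorem vList_closed : ((vList.all fun x => vList.all fun y => inL vList (mulc x y)) &&
    (vList.all fun x => eqv (mulc x x) onec) &&
    [onec, mC].all fun x => [onec, mC].all fun y => inL [onec, mC] (mulc x y)) = true := by decide +kernel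

/-- the four group -/
def Fr.fourSub (F : Fr G z) : Subgroup G :=
  F.listSub vList vList_els List.mem_cons_self
    (fun x hx y hy => inL_iff.1 (List.all_eq_true.mp (List.all_eq_true.mp
      (by have := vList_closed; simp only [Bool.and_eq_true] at this; exact this.1.1) x hx) y hy))
    (fun x hx => ⟨x, hx, eqv_iff.1 (List.all_eq_true.mp
      (by have := vList_closed; simp only [Bool.and_eq_true] at this; exact this.1.2) x hx)⟩)

theorem pair_els : ∀ x ∈ [onec, mC], x ∈ els := by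
  simp only [List.mem_cons, List.not_mem_nil, or_false]
  rintro x (rfl | rfl)
  exacts [onec_mem, mC_mem]

/-- the group of the third representative -/
def Fr.pairSub (F : Fr G z) : Subgroup G :=
  F.listSub [onec, mC] pair_els List.mem_cons_self
    (fun x hx y hy => inL_iff.1 (List.all_eq_true.mp (List.all_eq_true.mp
      (by have := vList_closed; simp only [Bool.and_eq_true] at this; exact this.2) x hx) y hy))
    (fun x hx => ⟨x, hx, eqv_iff.1 (List.all_eq_true.mp
      (by have := vList_closed; simp only [Bool.and_eq_true] at this; exact this.1.2) x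
      (by simp only [vList, List.mem_cons, List.not_mem_nil, or_false] at hx ⊢; tauto))⟩)

/-- the centraliser of both central involutions -/
def Fr.sSub (F : Fr G z) : Subgroup G :=
  Subgroup.centralizer ({z} : Set G) ⊓ Subgroup.centralizer ({F.rep 3} : Set G)

theorem Fr.mem_sSub (F : Fr G z) {g : G} : g ∈ F.sSub ↔ ∃ x ∈ sList, F.el x = g := by
  rw [Fr.sSub, Subgroup.mem_inf, Subgroup.mem_centralizer_singleton_iff, Subgroup.mem_centralizer_singleton_iff]
  constructor
  · rintro ⟨h1, h2⟩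
    obtain ⟨x, hx, rfl⟩ := F.el_surj h1
    exact ⟨x, mem_sList.2 ⟨hx, (F.comm_iff mC_mem hx).1 h2⟩, rfl⟩
  · rintro ⟨x, hx, rfl⟩
    obtain ⟨hxe, hc⟩ := mem_sList.1 hx
    exact ⟨(F.el_comm hxe).eq, ((F.comm_iff mC_mem hxe).2 hc).eq⟩

theorem Fr.card_sSub (F : Fr G z) [Finite G] : Nat.card F.sSub = 512 := by
  have h := F.card_eq (fun a => eqv (mulc mC a) (mulc a mC)) (fun g => g ∈ F.sSub)
    (fun g hg => Subgroup.mem_centralizer_singleton_iff.1 (Subgroup.mem_inf.1 hg).1) ?_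
  · rw [sList_eq] at h
    refine h.trans ?_
    have hf := three_facts
    simp only [Bool.and_eq_true] at hf
    exact eqv_iff.1 hf.1.2
  · intro a ha
    rw [F.mem_sSub, eqv_iff]
    constructor
    · rintro ⟨x, hx, e⟩
      obtain ⟨hxe, hc⟩ := mem_sList.1 hx
      rw [← F.el_inj hxe ha e]; exact hc
    · exact fun hc => ⟨a, mem_sList.2 ⟨ha, hc⟩, rfl⟩

theorem Fr.sSub_two (F : Fr G z) [Finite G] : IsPGroup 2 F.sSub :=
  IsPGroup.of_card (n := 9) (by rw [F.card_sSub]; norm_num)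

/-- conjugation into a maximal two-subgroup -/
theorem exists_conj_mem [Finite G] {A T U : Subgroup G} (hTA : T ≤ A) (hT : IsPGroup 2 T)
    (hmax : ∀ P, P ≤ A → IsPGroup 2 P → T ≤ P → P = T) (hUA : U ≤ A) (hU : IsPGroup 2 U) :
    ∃ y ∈ A, ∀ u ∈ U, y * u * y⁻¹ ∈ T := by
  haveI : Fact (Nat.Prime 2) := ⟨Nat.prime_two⟩
  obtain ⟨P, hP⟩ := (hT.comap_subtype (K := A) : IsPGroup 2 (T.subgroupOf A)).exists_le_sylow
  obtain ⟨Q, hQ⟩ := (hU.comap_subtype (K := A) : IsPGroup 2 (U.subgroupOf A)).exists_le_sylow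
  have he : (P : Subgroup A).map A.subtype = T := by
    refine hmax _ (Subgroup.map_subtype_le _) (P.isPGroup'.map _) fun t ht => ?_
    exact ⟨⟨t, hTA ht⟩, hP (Subgroup.mem_subgroupOf.2 ht), rfl⟩
  obtain ⟨h, hh⟩ := MulAction.exists_smul_eq A Q P
  refine ⟨h, h.2, fun u hu => ?_⟩
  rw [← he]
  refine ⟨h * ⟨u, hUA hu⟩ * h⁻¹, ?_, rfl⟩
  rw [← hh, Sylow.coe_subgroup_smul]
  exact ⟨⟨u, hUA hu⟩, hQ (Subgroup.mem_subgroupOf.2 hu), rfl⟩

/-- the hypotheses on the list -/
structure FsOK (fs : List ℕ) : Prop where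
  mem : fs ∈ fsAll
  lt : ∀ i ∈ fs, i < 8

theorem fsAll_ok : FsOK fsHe ∧ FsOK fsMathieu ∧ FsOK fsLinear :=
  ⟨⟨by decide, by decide⟩, ⟨by decide, by decide⟩, ⟨by decide, by decide⟩⟩

theorem fs_facts {fs : List ℕ} (h : FsOK fs) : cntV fs tc = 3 ∧ fzBoth fs (mulc kCode tc) = true ∧
    fz fs mC = false ∧ fz fs kCode = false ∧ fz fs (mulc kCode mC) = false ∧ fz fs tc = true ∧
    fzBoth fs tc = false ∧ fz fs (mulc tc mC) = false := by
  have hf := three_facts
  simp only [Bool.and_eq_true] at hf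
  have := List.all_eq_true.mp hf.1.1.1.1.1.1.1.1.1.1.1.1.1.1.1.1.1 fs h.mem
  simp only [Bool.and_eq_true, Bool.not_eq_true', eqv_iff] at this
  obtain ⟨⟨⟨⟨⟨⟨⟨a, b⟩, c⟩, d⟩, e⟩, f⟩, g⟩, i⟩ := this
  exact ⟨a, b, c, d, e, f, g, i⟩

theorem k_facts : mulc kCode kCode = onec ∧ kCode ∉ [onec, mC] ∧ mulc kCode tc = mulc tc kCode ∧
    swapK ∈ sList ∧ mulc swapK swapK = onec ∧ mulc (mulc swapK kCode) swapK = mulc kCode mC ∧
    (∀ s ∈ sList, mulc s kCode = mulc kCode s ∨ mulc s kCode = mulc (mulc kCode mC) s) := by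
  have hf := three_facts
  simp only [Bool.and_eq_true, Bool.or_eq_true, Bool.not_eq_true', List.all_eq_true, eqv_iff, inL_iff,
    ← Bool.not_eq_true] at hf
  obtain ⟨⟨⟨⟨⟨⟨⟨⟨⟨⟨-, h1⟩, h2⟩, h3⟩, h4⟩, h5⟩, h6⟩, -⟩, h8⟩, -⟩, -⟩ := hf
  exact ⟨h4, h5, h6, h1, h2, h3, h8⟩

theorem two_of_cent (F : Fr G z) {i : ℕ} (hi : i = 3 ∨ i = 5 ∨ i = 6 ∨ i = 7) {g : G} (hz : Commute g z)
    (hr : Commute g (F.rep i)) : g ^ 16 = 1 := by
  have hi8 : i < 8 := by omega
  obtain ⟨x, hx, rfl⟩ := F.el_surj hz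
  have hc : mulc (rp i) x = mulc x (rp i) := (F.comm_iff (rp_spec hi8).1 hx).1 hr
  have h := List.all_eq_true.mp (List.all_eq_true.mp two_cent x hx) i
    (by simp only [List.mem_cons, List.not_mem_nil, or_false]; omega)
  have e0 : ∀ j < 5, img x (row (rp i) j) = img (rp i) (row x j) := by
    intro j hj
    have key : ∀ {a b : ℕ}, a ∈ els → b ∈ els → row (mulc a b) j = img b (row a j) := by
      intro a b ha hb
      have e1 : code (matOf a) = a := (slOf_spec ha).2
      have e2 : code (matOf b) = b := (slOf_spec hb).2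
      have r1 := row_code (matOf a * matOf b) ⟨j, hj⟩
      have r2 := row_code (matOf a) ⟨j, hj⟩
      simp only at r1 r2
      rw [code_mul, e1, e2] at r1
      rw [e1] at r2
      rw [r1, r2]
      conv_rhs => rw [← e2]
      rw [img_code]
      rfl
    rw [← key (rp_spec hi8).1 hx, ← key hx (rp_spec hi8).1, hc]
  simp only [Bool.or_eq_true, Bool.not_eq_true', eqv_iff, ← Bool.not_eq_true] at h
  rcases h with ((h | h) | h) | h
  · exact absurd (e0 0 (by norm_num)) h
  · exact absurd (e0 2 (by norm_num)) h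
  · exact absurd hc h
  · have e := congrArg F.el h
    simp only [four] at e
    have m2 := mulc_mem hx hx
    have m4 := mulc_mem m2 m2
    have m8 := mulc_mem m4 m4
    rw [F.el_mul m8 m8, F.el_mul m4 m4, F.el_mul m2 m2, F.el_mul hx hx, F.el_one] at e
    rw [← e]
    simp only [pow_succ, pow_zero, one_mul, mul_assoc]

/-! ### maximal two-subgroups -/

variable [Finite G]

theorem Ctrl.el_not (D : Ctrl F fs) (ok : FsOK fs) {x : ℕ} (hx : x ∈ els) (h : fz fs x = false) :
    ¬ IsConj (F.el x) z := fun hc => by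
  rw [(D.fz_iff ok.lt hx).2 hc] at h; exact Bool.noConfusion h

theorem Ctrl.el_fused (D : Ctrl F fs) (ok : FsOK fs) {x : ℕ} (hx : x ∈ els) (h : fz fs x = true) :
    IsConj (F.el x) z := (D.fz_iff ok.lt hx).1 h

theorem mC_facts : mulc mC mC = onec ∧ mulc tc mC = mulc mC tc := by decide +kernel

theorem Fr.mEl (F : Fr G z) : F.rep 3 = F.el mC := rfl

theorem Ctrl.sSub_max (D : Ctrl F fs) (ok : FsOK fs) (P : Subgroup G)
    (hP : P ≤ Subgroup.centralizer ({F.rep 3} : Set G)) (hp : IsPGroup 2 P) (hS : F.sSub ≤ P) : P = F.sSub := by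
  haveI : Fact (Nat.Prime 2) := ⟨Nat.prime_two⟩
  by_contra hne
  haveI : Group.IsNilpotent P := hp.isNilpotent
  have hlt : F.sSub.subgroupOf P < ⊤ := lt_top_iff_ne_top.2 fun e => hne (le_antisymm (fun g hg => by
    have : (⟨g, hg⟩ : P) ∈ F.sSub.subgroupOf P := by rw [e]; trivial
    exact Subgroup.mem_subgroupOf.1 this) hS)
  obtain ⟨g, hgn, hgs⟩ := SetLike.exists_of_lt (Group.normalizerCondition_of_isNilpotent _ hlt)
  apply hgs
  rw [Subgroup.mem_subgroupOf]
  have hnorm : ∀ u ∈ F.sSub, (g : G) * u * (g : G)⁻¹ ∈ F.sSub := fun u hu => by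
    have := (Subgroup.mem_normalizer_iff.1 hgn ⟨u, hS hu⟩).1 (Subgroup.mem_subgroupOf.2 hu)
    exact Subgroup.mem_subgroupOf.1 this
  have hnorm' : ∀ u ∈ F.sSub, (g : G)⁻¹ * u * g ∈ F.sSub := fun u hu => by
    have := (Subgroup.mem_normalizer_iff.1 hgn ((g⁻¹ : P) * ⟨u, hS hu⟩ * g)).2 (by
      rw [show g * (g⁻¹ * ⟨u, hS hu⟩ * g) * g⁻¹ = (⟨u, hS hu⟩ : P) by group]
      exact Subgroup.mem_subgroupOf.2 hu)
    exact Subgroup.mem_subgroupOf.1 this
  have hzS : z ∈ F.sSub := F.mem_sSub.2 ⟨tc, mem_sList.2 ⟨tc_mem, mC_facts.2.symm⟩, F.el_tc⟩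
  obtain ⟨x, hx, ex⟩ := F.mem_sSub.1 (hnorm z hzS)
  obtain ⟨hxe, -⟩ := mem_sList.1 hx
  have hconj : IsConj (F.el x) z := (isConj_iff.2 ⟨g, ex.symm⟩ : IsConj z (F.el x)).symm
  have hcen : ∀ s ∈ sList, mulc s x = mulc x s := by
    intro s hs
    obtain ⟨hse, -⟩ := mem_sList.1 hs
    have hu := hnorm' _ (F.mem_sSub.2 ⟨s, hs, rfl⟩)
    have hc : Commute ((g : G)⁻¹ * F.el s * g) z :=
      Subgroup.mem_centralizer_singleton_iff.1 (Subgroup.mem_inf.1 hu).1
    have h2 := hc.map (MulAut.conj (g : G))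
    rw [MulAut.conj_apply, MulAut.conj_apply, ← ex,
      show (g : G) * ((g : G)⁻¹ * F.el s * g) * (g : G)⁻¹ = F.el s by group] at h2
    exact ((F.comm_iff hxe hse).1 h2).symm
  have hm := List.all_eq_true.mp three_central x hx
  simp only [Bool.or_eq_true, inL_iff, List.any_eq_true, Bool.not_eq_true'] at hm
  rcases hm with hm | ⟨s, hs, hne'⟩
  · obtain ⟨-, -, hfm, -, -, -, -, hftm⟩ := fs_facts ok
    simp only [List.mem_cons, List.not_mem_nil, or_false] at hm
    rcases hm with rfl | rfl | rfl | rfl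
    · exact absurd F.el_one (F.isConj_z_sq hconj).2
    · rw [F.el_tc] at ex
      exact Subgroup.mem_inf.2 ⟨Subgroup.mem_centralizer_singleton_iff.2 (mul_inv_eq_iff_eq_mul.1 ex.symm), hP g.2⟩
    · exact absurd hconj (D.el_not ok hxe hfm)
    · exact absurd hconj (D.el_not ok hxe hftm)
  · rw [eqv_iff.2 (hcen s hs)] at hne'
    exact Bool.noConfusion hne'

/-- the centraliser in the two-group of the central involution modulo the representative -/
def Fr.swSub (F : Fr G z) : Subgroup G := F.sSub ⊓ Subgroup.centralizer ({F.el kCode} : Set G)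

/-- the centraliser of the four group -/
def Fr.wSub (F : Fr G z) : Subgroup G :=
  Subgroup.centralizer ({F.rep 3} : Set G) ⊓ Subgroup.centralizer ({F.el kCode} : Set G)

theorem Fr.mem_wSub (F : Fr G z) {g : G} :
    g ∈ F.wSub ↔ Commute g (F.rep 3) ∧ Commute g (F.el kCode) := by
  rw [Fr.wSub, Subgroup.mem_inf, Subgroup.mem_centralizer_singleton_iff, Subgroup.mem_centralizer_singleton_iff]
  rfl

theorem Fr.card_swSub (F : Fr G z) : Nat.card F.swSub = 256 := by
  have h := F.card_eq (fun a => eqv (mulc kCode a) (mulc a kCode) && eqv (mulc mC a) (mulc a mC))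
    (fun g => g ∈ F.swSub)
    (fun g hg => Subgroup.mem_centralizer_singleton_iff.1 (Subgroup.mem_inf.1 (Subgroup.mem_inf.1 hg).1).1) ?_
  · refine h.trans ?_
    rw [← List.filter_filter, sList_eq]
    have hf := three_facts
    simp only [Bool.and_eq_true] at hf
    exact eqv_iff.1 (of_decide_eq_true hf.2)
  · intro a ha
    rw [Fr.swSub, Subgroup.mem_inf, F.mem_sSub, Subgroup.mem_centralizer_singleton_iff, Bool.and_eq_true, eqv_iff,
      eqv_iff]
    constructor
    · rintro ⟨⟨x, hx, e⟩, hk⟩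
      obtain ⟨hxe, hc⟩ := mem_sList.1 hx
      obtain rfl := F.el_inj hxe ha e
      exact ⟨(F.comm_iff kCode_mem.1 ha).1 hk, hc⟩
    · exact fun hc => ⟨⟨a, mem_sList.2 ⟨ha, hc.2⟩, rfl⟩, ((F.comm_iff kCode_mem.1 ha).2 hc.1).eq⟩

theorem Ctrl.swSub_max (D : Ctrl F fs) (ok : FsOK fs) (P : Subgroup G) (hP : P ≤ F.wSub) (hp : IsPGroup 2 P)
    (hS : F.swSub ≤ P) : P = F.swSub := by
  haveI : Fact (Nat.Prime 2) := ⟨Nat.prime_two⟩
  obtain ⟨y, hy, hyu⟩ := exists_conj_mem (A := Subgroup.centralizer ({F.rep 3} : Set G)) (T := F.sSub)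
    inf_le_right F.sSub_two (D.sSub_max ok) (hP.trans inf_le_left) hp
  obtain ⟨e', h256⟩ := (⟨IsPGroup.iff_card.1 hp, F.card_swSub⟩ :
    (∃ n, Nat.card P = 2 ^ n) ∧ Nat.card F.swSub = 256)
  set Q := P.map (MulAut.conj y).toMonoidHom
  have hQ : Q ≤ F.sSub := by
    rintro _ ⟨u, hu, rfl⟩
    exact hyu u hu
  have hcard : Nat.card Q = Nat.card P := (Nat.card_congr (P.equivMapOfInjective _ (MulAut.conj y).injective).toEquiv).symm
  have hd : Nat.card P ∣ 512 := by rw [← hcard, ← F.card_sSub]; exact Subgroup.card_dvd_of_le hQ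
  have hne : Nat.card P ≠ 512 := by
    intro h512
    have hQS : Q = F.sSub := Subgroup.eq_of_le_of_card_ge hQ (by rw [hcard, h512, F.card_sSub])
    have hk : F.el kCode ∈ P := hS (Subgroup.mem_inf.2 ⟨F.mem_sSub.2 ⟨kCode, mem_sList.2 kCode_mem, rfl⟩,
      Subgroup.mem_centralizer_singleton_iff.2 rfl⟩)
    obtain ⟨x, hx, ex⟩ := F.mem_sSub.1 (hyu _ hk)
    obtain ⟨hxe, -⟩ := mem_sList.1 hx
    have hcen : ∀ s ∈ sList, mulc s x = mulc x s := by
      intro s hs
      obtain ⟨hse, -⟩ := mem_sList.1 hs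
      have hs' : F.el s ∈ Q := by rw [hQS]; exact F.mem_sSub.2 ⟨s, hs, rfl⟩
      obtain ⟨u, hu, eu⟩ := hs'
      have hc : Commute u (F.el kCode) := (F.mem_wSub.1 (hP hu)).2
      have h2 := hc.map (MulAut.conj y)
      rw [show MulAut.conj y u = F.el s from eu, MulAut.conj_apply, ← ex] at h2
      exact ((F.comm_iff hxe hse).1 h2).symm
    obtain ⟨-, -, hfm, hfk, hfkm, hft, -, -⟩ := fs_facts ok
    obtain ⟨hk2, hk1, -⟩ := k_facts
    have hm := List.all_eq_true.mp three_central x hx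
    simp only [Bool.or_eq_true, inL_iff, List.any_eq_true, Bool.not_eq_true'] at hm
    rcases hm with hm | ⟨s, hs, hne'⟩
    · have hkey : IsConj (F.el kCode) (F.el x) := isConj_iff.2 ⟨y, ex.symm⟩
      simp only [List.mem_cons, List.not_mem_nil, or_false] at hm
      rcases hm with rfl | rfl | rfl | rfl
      · rw [F.el_one, isConj_one_left] at hkey
        exact F.el_ne_one kCode_mem.1 (fun e => hk1 (by rw [e]; exact List.mem_cons_self)) hkey
      · rw [F.el_tc] at hkey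
        exact D.el_not ok kCode_mem.1 hfk hkey
      · refine hk1 (List.mem_cons_of_mem _ (List.mem_singleton.2 (F.el_inj kCode_mem.1 mC_mem ?_)))
        have e := ex
        rw [show F.el mC = y * F.el mC * y⁻¹ from (mul_inv_eq_iff_eq_mul.2
          (Subgroup.mem_centralizer_singleton_iff.1 hy)).symm] at e
        exact (mul_left_cancel (mul_right_cancel e)).symm
      · -- the product with the representative would be conjugate to `z`
        have hym : y * F.el mC * y⁻¹ = F.el mC :=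
          mul_inv_eq_iff_eq_mul.2 (Subgroup.mem_centralizer_singleton_iff.1 hy)
        refine D.el_not ok (mulc_mem kCode_mem.1 mC_mem) hfkm (isConj_iff.2 ⟨y, ?_⟩)
        rw [F.el_mul kCode_mem.1 mC_mem, show y * (F.el kCode * F.el mC) * y⁻¹ =
          y * F.el kCode * y⁻¹ * (y * F.el mC * y⁻¹) by group, hym, ← ex, F.el_mul tc_mem mC_mem, F.el_tc,
          mul_assoc, ← F.el_mul mC_mem mC_mem, mC_facts.1, F.el_one, mul_one]
    · rw [eqv_iff.2 (hcen s hs)] at hne'
      exact Bool.noConfusion hne'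
  refine (Subgroup.eq_of_le_of_card_ge hS ?_).symm
  rw [h256]
  obtain ⟨j, hj, hcp⟩ := (Nat.dvd_prime_pow Nat.prime_two).1 (show Nat.card P ∣ 2 ^ 9 from hd)
  rw [hcp] at hne ⊢
  have : j ≤ 8 := by by_contra hc; exact hne (by rw [show j = 9 by omega]; norm_num)
  calc 2 ^ j ≤ 2 ^ 8 := Nat.pow_le_pow_right (by norm_num) this
    _ = 256 := by norm_num

end Cfsg.Agent.Spor.TranCent
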