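import Cfsg.Agent.Lib.Spor.HeRepS44Data
import Cfsg.Agent.Lib.Spor.CosetCert
import Cfsg.Agent.Lib.Spor.TranCent.RelWords
import Cfsg.Agent.Lib.Spor.TranCent.TargetHeData

/-!
The tables of six involutions of the Held group checked against the relators.
-/

set_option autoImplicit false
set_option maxRecDepth 100000

namespace Cfsg.Agent.Spor.TranCent

open Cfsg.Agent.Spor.CC Cfsg.Agent.Spor.HeCert

theorem he_letters : lettersOK 7 heW = true ∧ lettersOK 6 (heRel ++ heFusion) = true ∧ lettersOK 6 heBack = true ∧
    heW.length = 6 ∧ heBack.length = 7 ∧ (List.range 6).all (fun x => (heRel ++ heFusion).contains [x, x]) = true := by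
  decide +kernel

theorem he_pack : rangeOK (fun u => (List.range 6).all fun x =>
    Nat.beq (ev RepS44.rows 7 (heW.getD x []) u) (heT x u)) 0 2058 = true := by
  decide +kernel

theorem he_rel : rangeOK (fun u => (heRel ++ heFusion).all fun r => Nat.beq (ev heT 6 r u) u) 0 2058 = true := by
  decide +kernel

theorem he_back : rangeOK (fun u => (List.range 7).all fun i =>
    Nat.beq (ev heT 6 (heBack.getD i []) u) (RepS44.rows i u)) 0 2058 = true := by
  decide +kernel

end Cfsg.Agent.Spor.TranCent
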