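import Cfsg.Agent.Lib.Spor.TranCent.Dual
import Cfsg.Agent.Lib.Spor.TranCent.RelCheck
import Cfsg.Agent.Lib.Spor.TranCent.OddCheck
import Cfsg.Agent.Lib.Spor.TranCent.RelWords
import Cfsg.Agent.Lib.Spor.PresCert

/-!
Tracing conjugation by words in the centraliser and the exchanging involutions.
-/

set_option autoImplicit false
set_option linter.style.haveILetI false
set_option maxRecDepth 100000

namespace Cfsg.Agent.Spor.TranCent

attribute [local irreducible] mulc

variable {G : Type*} [Group G] {z : G}

/-- the letters: those of the centraliser, then two further elements -/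
def Fr.lm (F : Fr G z) (a b : G) (j : ℕ) : G :=
  if j < 5 then F.lt j else if j = 5 then a else if j = 6 then b else 1

theorem Fr.lm_lt (F : Fr G z) (a b : G) {j : ℕ} (hj : j < 5) : F.lm a b j = F.lt j := if_pos hj

theorem Fr.lm_five (F : Fr G z) (a b : G) : F.lm a b 5 = a := by simp [Fr.lm]

theorem Fr.lm_six (F : Fr G z) (a b : G) : F.lm a b 6 = b := by simp [Fr.lm]

theorem Fr.lm_high (F : Fr G z) (a b : G) {j : ℕ} (hj : 7 ≤ j) : F.lm a b j = 1 := by
  rw [Fr.lm, if_neg (by omega), if_neg (by omega), if_neg (by omega)]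

theorem letters_sq : ((List.range 5).all fun j =>
    eqv (mulc (letters.getD j onec) (letters.getD j onec)) onec) = true := by decide +kernel

theorem Fr.lt_sq (F : Fr G z) {j : ℕ} (hj : j < 5) : F.lt j * F.lt j = 1 := by
  have h := List.all_eq_true.mp letters_sq j (List.mem_range.2 hj)
  rw [Fr.lt, ← F.el_mul (letters_mem hj) (letters_mem hj), Nat.eq_of_beq_eq_true h, F.el_one]

theorem Fr.lm_sq (F : Fr G z) {a b : G} (ha : a * a = 1) (hb : b * b = 1) (j : ℕ) :
    F.lm a b j * F.lm a b j = 1 := by
  unfold Fr.lm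
  split_ifs with h1 h2 h3
  exacts [F.lt_sq h1, ha, hb, one_mul 1]

theorem below_iff {n : ℕ} {w : List ℕ} : below n w = true ↔ ∀ j ∈ w, j < n := by
  simp only [below, List.all_eq_true, Nat.blt_eq]

theorem Fr.lm_word (F : Fr G z) (a b : G) {w : List ℕ} (h : below 5 w = true) :
    (w.map (F.lm a b)).prod = F.el (evalw w) := by
  have h' := below_iff.1 h
  rw [F.el_evalw h']
  exact congrArg List.prod (List.map_congr_left fun j hj => F.lm_lt a b (h' j hj))

theorem prod_rev {M : Type*} [Group M] {f : ℕ → M} (hf : ∀ j, f j * f j = 1) (w : List ℕ) :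
    (w.reverse.map f).prod = ((w.map f).prod)⁻¹ := by
  induction w with
  | nil => simp
  | cons j w ih =>
    rw [List.reverse_cons, List.map_append, List.prod_append, ih]
    simp [inv_eq_of_mul_eq_one_right (hf j)]

theorem prod_powWord {M : Type*} [Monoid M] (f : ℕ → M) (k : ℕ) (w : List ℕ) :
    ((powWord k w).map f).prod = (w.map f).prod ^ k :=
  CC.prod_powW f k w

theorem repW_eq (k : ℕ) (w : List ℕ) : repW k w = powWord k w := rfl

theorem autImg_mem {i j : ℕ} (hi : i < 4) (hj : j < 4) : (autImg i).getD j 0 ∈ els := by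
  have h := words_ok
  simp only [Bool.and_eq_true, List.all_eq_true, List.contains_iff_mem] at h
  have hlen : ∀ i < 4, ∀ j < 4, autImg i ∈ autTab ∧ (autImg i).getD j 0 ∈ autImg i := by decide +kernel
  exact h.1.1.2 _ (hlen i hi j hj).1 _ (hlen i hi j hj).2

/-- a move is realised by an element -/
structure MoveOK (F : Fr G z) (m : Move) (g : G) : Prop where
  sq : g * g = 1
  src : ∀ j < 4, m.1.getD j onec ∈ els
  dst : ∀ j < 4, m.2.1.getD j onec ∈ els
  conj : ∀ j < 4, MulAut.conj g (F.el (m.1.getD j onec)) = F.el (m.2.1.getD j onec)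

theorem Fr.evalG_lt (F : Fr G z) {gs : List ℕ} (hg : ∀ j < 4, gs.getD j onec ∈ els) {w : List ℕ}
    (hw : ∀ j ∈ w, j < 4) : evalG gs w ∈ els ∧ F.el (evalG gs w) = (w.map fun j => F.el (gs.getD j onec)).prod := by
  induction w with
  | nil =>
    rw [evalG_nil]
    exact ⟨onec_mem, by rw [F.el_one]; rfl⟩
  | cons j w ih =>
    obtain ⟨h1, h2⟩ := ih fun i hi => hw i (List.mem_cons_of_mem _ hi)
    have hj := hg j (hw j List.mem_cons_self)
    rw [evalG_cons, List.map_cons, List.prod_cons, F.el_mul hj h1, h2]
    exact ⟨mulc_mem hj h1, rfl⟩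

theorem MoveOK.apply {F : Fr G z} {m : Move} {g : G} (hm : MoveOK F m g) {x y : ℕ} (h : applyMove m x = some y) :
    y ∈ els ∧ MulAut.conj g (F.el x) = F.el y := by
  unfold applyMove at h
  cases hf : m.2.2.find? fun p => eqv p.1 x with
  | none => rw [hf] at h; cases h
  | some p =>
    rw [hf] at h
    cases hc : (eqv (evalG m.1 p.2) x && p.2.all fun j => Nat.blt j 4) with
    | false => simp only [hc, cond_false] at h; cases h
    | true =>
      simp only [hc, cond_true, Option.some.injEq] at h
      simp only [Bool.and_eq_true, List.all_eq_true, eqv] at hc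
      have hw : ∀ j ∈ p.2, j < 4 := fun j hj => Nat.le_of_ble_eq_true (hc.2 j hj)
      obtain ⟨-, s2⟩ := F.evalG_lt hm.src hw
      obtain ⟨d1, d2⟩ := F.evalG_lt hm.dst hw
      rw [← h]
      refine ⟨d1, ?_⟩
      rw [← Nat.eq_of_beq_eq_true hc.1, s2, d2, map_list_prod, List.map_map]
      exact congrArg List.prod (List.map_congr_left fun j hj => hm.conj j (hw j hj))

/-- the moves are realised by the letters -/
def MovesOK (F : Fr G z) (ms : List Move) (a b : G) : Prop :=
  ∀ n m, ms[n]? = some m → MoveOK F m (F.lm a b (n + 5))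

theorem Fr.trace_sound (F : Fr G z) {ms : List Move} {a b : G} (hms : MovesOK F ms a b) :
    ∀ {w : List ℕ} {x y : ℕ}, x ∈ els → trace ms w x = some y →
      y ∈ els ∧ MulAut.conj (w.map (F.lm a b)).prod (F.el x) = F.el y := by
  intro w
  induction w with
  | nil =>
    intro x y hx h
    obtain rfl : x = y := Option.some.inj h
    exact ⟨hx, by rw [List.map_nil, List.prod_nil, map_one, MulAut.one_apply]⟩
  | cons j w ih =>
    intro x y hx h
    rw [trace, List.foldr_cons] at h
    cases hw : trace ms w x with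
    | none => rw [trace] at hw; rw [hw] at h; cases h
    | some u =>
      obtain ⟨hu, eu⟩ := ih hx hw
      rw [trace] at hw
      rw [hw, Option.bind_some, stepT] at h
      rw [List.map_cons, List.prod_cons, map_mul, MulAut.mul_apply, eu]
      cases hj : Nat.blt j 5 with
      | true =>
        simp only [hj, cond_true, Option.some.injEq] at h
        have hj' : j < 5 := Nat.le_of_ble_eq_true hj
        have hl := letters_mem hj'
        rw [← h]
        refine ⟨mulc_mem (mulc_mem hl hu) hl, ?_⟩
        rw [MulAut.conj_apply, F.lm_lt a b hj', inv_eq_of_mul_eq_one_right (F.lt_sq hj'),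
          F.el_mul (mulc_mem hl hu) hl, F.el_mul hl hu]
        rfl
      | false =>
        have hj' : 5 ≤ j := by
          by_contra hc
          have : Nat.blt j 5 = true := Nat.ble_eq_true_of_le (by omega)
          rw [hj] at this
          exact Bool.noConfusion this
        simp only [hj, cond_false] at h
        cases hm : ms[Nat.sub j 5]? with
        | none => rw [hm] at h; cases h
        | some m =>
          rw [hm] at h
          have hk := hms _ m hm
          rw [show Nat.sub j 5 + 5 = j from Nat.sub_add_cancel hj'] at hk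
          exact hk.apply h

theorem isCode_eq {o : Option ℕ} {x : ℕ} (h : isCode o x = true) : o = some x := by
  cases o with
  | none => exact Bool.noConfusion h
  | some y => rw [Nat.eq_of_beq_eq_true h]

theorem Fr.fix_of_trace (F : Fr G z) {ms : List Move} {a b : G} (hms : MovesOK F ms a b) {w : List ℕ} {x : ℕ}
    (hx : x ∈ els) (h : isCode (trace ms w x) x = true) : Commute (w.map (F.lm a b)).prod (F.el x) := by
  have e := (F.trace_sound hms hx (isCode_eq h)).2
  rwa [MulAut.conj_apply, mul_inv_eq_iff_eq_mul] at e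

/-- a power of a word fixing generators of a self-centralising list has one of the listed values -/
theorem Fr.pow_value (F : Fr G z) {ms : List Move} {a b : G} (hms : MovesOK F ms a b) {k : ℕ}
    {w gens cs vals : List ℕ} (hg : ∀ x ∈ gens, x ∈ els)
    (hcs : (els.filter fun c => gens.all fun x => eqv (mulc x c) (mulc c x)) = cs)
    (h : powOK ms k w gens cs vals = true) :
    ∃ v, vals.getD v 0 ∈ els ∧ v < vals.length ∧
      (w.map (F.lm a b)).prod ^ k = F.el (vals.getD v 0) := by
  simp only [powOK, Bool.and_eq_true, List.all_eq_true] at h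
  set V := (w.map (F.lm a b)).prod with hV
  have fixg : ∀ x ∈ tc :: gens, Commute (V ^ k) (F.el x) := by
    intro x hx
    have hxe : x ∈ els := by
      rcases List.mem_cons.1 hx with rfl | hx
      exacts [tc_mem, hg x hx]
    have := F.fix_of_trace hms hxe (h.1 x hx)
    rwa [repW_eq, prod_powWord] at this
  have hz := fixg tc List.mem_cons_self
  rw [F.el_tc] at hz
  obtain ⟨c, hc, ec⟩ := F.el_surj hz
  have hmem : c ∈ cs := by
    rw [← hcs, List.mem_filter, List.all_eq_true]
    refine ⟨hc, fun x hx => ?_⟩
    have := fixg x (List.mem_cons_of_mem _ hx)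
    rw [← ec] at this
    rw [(F.comm_iff (hg x hx) hc).1 this]
    exact Nat.beq_refl _
  have hcase := h.2 c hmem
  simp only [Bool.or_eq_true, Bool.and_eq_true, Bool.not_eq_true'] at hcase
  rcases hcase with ⟨hs, hn⟩ | hv
  · exfalso
    obtain ⟨y, hy⟩ := Option.isSome_iff_exists.1 hs
    obtain ⟨hye, e⟩ := F.trace_sound hms hc hy
    rw [← hV, ec, MulAut.conj_apply, (Commute.self_pow V k).eq, mul_inv_cancel_right, ← ec] at e
    rw [hy, ← F.el_inj hc hye e] at hn
    simp [isCode, eqv] at hn
  · obtain ⟨v, hv, hvc⟩ := List.any_eq_true.1 hv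
    obtain ⟨n, hn, rfl⟩ := List.mem_iff_getElem.1 hv
    have e : vals.getD n 0 = c := (List.getD_eq_getElem _ _ hn).trans (Nat.eq_of_beq_eq_true hvc)
    exact ⟨n, e ▸ hc, hn, by rw [e, ec]⟩

theorem plane_mem : ∀ x ∈ planeGen, x ∈ els := by
  have h : (planeGen.all fun x => planeList.contains x) = true := by decide +kernel
  intro x hx
  have := List.all_eq_true.mp h x hx
  rw [List.contains_iff_mem, ← plane_cent] at this
  exact (List.mem_filter.1 this).1

theorem space_mem : ∀ x ∈ spaceGen, x ∈ els := by
  have h : (spaceGen.all fun x => spaceList.contains x) = true := by decide +kernel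
  intro x hx
  have := List.all_eq_true.mp h x hx
  rw [List.contains_iff_mem, ← space_cent] at this
  exact (List.mem_filter.1 this).1

theorem Side.moveOK {F : Fr G z} (S : Side F) {i : ℕ} (hi : i < 4) (tab : List (ℕ × List ℕ))
    (h : ∀ j < 4, S.g * F.lt j * S.g = F.el ((autImg i).getD j 0)) :
    MoveOK F (letters, autImg i, tab) S.g := by
  have hd : ∀ j < 4, (autImg i).getD j onec = (autImg i).getD j 0 := by
    intro j hj
    have hlen : ∀ i < 4, (autImg i).length = 4 := by decide +kernel
    rw [List.getD_eq_getElem _ _ (by rw [hlen i hi]; exact hj), List.getD_eq_getElem _ _ (by rw [hlen i hi]; exact hj)]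
  refine ⟨S.sq, fun j hj => letters_mem (by omega), fun j hj => ?_, fun j hj => ?_⟩
  · show (autImg i).getD j onec ∈ els
    rw [hd j hj]; exact autImg_mem hi hj
  · show MulAut.conj S.g (F.el (letters.getD j onec)) = F.el ((autImg i).getD j onec)
    rw [hd j hj, ← h j hj, MulAut.conj_apply, inv_eq_of_mul_eq_one_right S.sq]
    rfl

theorem movesOK_one {F : Fr G z} {m : Move} {a b : G} (h : MoveOK F m a) : MovesOK F [m] a b := by
  intro n m' hn
  match n with
  | 0 =>
    obtain rfl : m = m' := by simpa using hn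
    rwa [zero_add, F.lm_five]
  | n + 1 => simp at hn

/-- the last two automorphisms do not occur -/
theorem Side.not_odd {F : Fr G z} (S : Side F) {n : ℕ} (hn : n < 2)
    (h : ∀ j < 4, S.g * F.lt j * S.g = F.el ((autImg (n + 2)).getD j 0)) : False := by
  have hms : MovesOK F [moveOdd n] S.g 1 := movesOK_one (S.moveOK (i := n + 2) (by omega) oddTab h)
  have ht := List.all_eq_true.mp odd_trace n (List.mem_range.2 hn)
  simp only [Bool.and_eq_true, List.all_eq_true, List.mem_range] at ht
  obtain ⟨⟨h1, -⟩, h2⟩ := ht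
  set V := ((oddW.getD n []).map (F.lm S.g 1)).prod
  have hz := F.fix_of_trace hms tc_mem h1
  rw [F.el_tc] at hz
  obtain ⟨c, hc, ec⟩ := F.el_surj hz
  have hno := List.all_eq_true.mp odd_none c hc
  simp only [List.all_eq_true, List.mem_range, Bool.not_eq_true', List.all_eq_false] at hno
  obtain ⟨k, hk, hne⟩ := hno n hn
  have hlen : planeGen.length = 6 := by decide +kernel
  have hb : planeGen.getD k 0 ∈ els := by
    rw [List.getD_eq_getElem _ _ (hlen.symm ▸ hk)]
    exact plane_mem _ (List.getElem_mem _)
  obtain ⟨hy, e⟩ := F.trace_sound hms hb (isCode_eq (h2 k hk))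
  rw [← ec, MulAut.conj_apply, mul_inv_eq_iff_eq_mul, ← F.el_mul hc hb, ← F.el_mul hy hc] at e
  rw [F.el_inj (mulc_mem hc hb) (mulc_mem hy hc) e] at hne
  exact hne (Nat.beq_refl _)

end Cfsg.Agent.Spor.TranCent
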